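import Groth.Agent.Flat2B.CoverProj
import Groth.Agent.AutFam.K544.DSProj
import Groth.Agent.S0408
import Groth.Agent.Flat2D.EtNbhd3
import Groth.Agent.Sga3A.H781.EssFree
import Groth.Agent.AlgSp.K634.Desc

/-!
# Closed Weil restriction along proper flat morphisms

For `f : Z ⟶ S` proper, flat and locally of finite presentation and `j : Y ⟶ Z` a closed immersion, the condition
`Y_T = Z_T` on schemes `T` over `S` is represented by a closed subscheme of `S`.
-/

set_option autoImplicit false

universe u

open CategoryTheory CategoryTheory.Limits AlgebraicGeometry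
open Groth.Agent.Sga3A.H781.RepIdeal Groth.Agent.Picfga.IdealDescent Groth.Agent.Sga3.H817.WeilProj

namespace K642.WeilCl

theorem residueFieldMap_surjective {R R' : Type u} [CommRing R] [CommRing R'] [Algebra R R']
    (p : Ideal R) (p' : Ideal R') [p.IsPrime] [p'.IsPrime] (H : FlatCA.IsEtaleNhd R R' p p') :
    Function.Surjective ((Spec.map (CommRingCat.ofHom (algebraMap R R'))).residueFieldMap
        (⟨p', inferInstance⟩ : PrimeSpectrum R')) := by
  obtain ⟨-, hl, h1⟩ := H
  have h2 := Groth.Agent.Flat2D.EtNbhd.residueFieldMap_SpecMap_eq (CommRingCat.ofHom (algebraMap R R'))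
      ⟨p, inferInstance⟩ ⟨p', inferInstance⟩ (PrimeSpectrum.ext (p'.over_def p).symm) (p'.over_def p)
  have h3 : IsIso (CommRingCat.ofHom (Ideal.ResidueField.map p p' (algebraMap R R') (p'.over_def p))) :=
    (ConcreteCategory.isIso_iff_bijective _).mpr h1
  change _ = CommRingCat.ofHom (Ideal.ResidueField.map p p' (algebraMap R R') (p'.over_def p)) at h2
  rw [← h2] at h3
  rw [isIso_comp_left_iff, isIso_comp_left_iff, isIso_comp_right_iff] at h3
  exact ((ConcreteCategory.isIso_iff_bijective _).mp h3).2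

/-- Étale-local structure of a proper flat morphism: after an étale base change there is an affine étale cover with
projective coordinate ring. -/
theorem exists_chart {R : Type u} [CommRing R] {Z : Scheme.{u}} (f : Z ⟶ Spec (CommRingCat.of R)) [IsProper f] [Flat f]
    [LocallyOfFinitePresentation f] (s : Spec (CommRingCat.of R)) :
    ∃ (T : Scheme.{u}) (b : T ⟶ Spec (CommRingCat.of R)) (t : T) (V : Scheme.{u}) (e : V ⟶ pullback f b),
      IsAffine T ∧ IsAffine V ∧ Etale b ∧ b t = s ∧ Etale e ∧ Surjective e ∧ LocProj (e ≫ pullback.snd f b) := by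
  have hc : CompactSpace Z := QuasiCompact.compactSpace_of_compactSpace f
  obtain ⟨V₀, w₀, hV₀, hw1, hw2⟩ := K634.Desc.exists_affine_refinement (𝟙 Z) IsOpenMap.id
  rw [Category.comp_id] at hw2
  let B : CommRingCat.{u} := Γ(V₀, ⊤)
  let w : Spec B ⟶ Z := V₀.isoSpec.inv ≫ w₀
  have hw3 : Etale w := inferInstance
  have hw4 : Surjective w := inferInstance
  let φ : CommRingCat.of R ⟶ B := Spec.preimage (w ≫ f)
  have hφ : Spec.map φ = w ≫ f := Spec.map_preimage _
  let _ : Algebra R B := φ.hom.toAlgebra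
  have h1 : Algebra.FinitePresentation R B := by
    have : LocallyOfFinitePresentation (Spec.map φ) := by rw [hφ]; infer_instance
    exact (HasRingHomProperty.Spec_iff (P := @LocallyOfFinitePresentation)).1 this
  have h2 : Module.Flat R B := by
    have : Flat (Spec.map φ) := by rw [hφ]; infer_instance
    exact (HasRingHomProperty.Spec_iff (P := @Flat)).1 this
  have h3 : ∀ (q : Ideal B) [q.IsPrime], q.LiesOver s.asIdeal → FlatCA.FlatAt R q B := by
    intro q _ _
    exact Groth.Agent.Flat2B.FlatLocusAux.flatAt_of_flat q B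
  obtain ⟨R', S', _, _, _, _, _, _, _, _, p', _, hn, het, hcov, hproj⟩ :=
    Groth.Agent.Flat2B.CoverProj.exists_cover (R := R) (S := B) B s.asIdeal h3
  have hetR : Algebra.Etale R R' := hn.1
  let b₀ : Spec (CommRingCat.of R') ⟶ Spec (CommRingCat.of R) := Spec.map (CommRingCat.ofHom (algebraMap R R'))
  have hb₀ : Etale b₀ := (HasRingHomProperty.Spec_iff (P := @Etale)).2 (RingHom.etale_algebraMap.2 hetR)
  let g₀ : Spec (CommRingCat.of S') ⟶ Spec B := Spec.map (CommRingCat.ofHom (algebraMap B S'))
  have hg₀ : Etale g₀ := (HasRingHomProperty.Spec_iff (P := @Etale)).2 (RingHom.etale_algebraMap.2 het)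
  let h₀ : Spec (CommRingCat.of S') ⟶ Spec (CommRingCat.of R') := Spec.map (CommRingCat.ofHom (algebraMap R' S'))
  have hcomm : (g₀ ≫ w) ≫ f = h₀ ≫ b₀ := by
    rw [Category.assoc, ← hφ]
    change Spec.map _ ≫ Spec.map _ = Spec.map _ ≫ Spec.map _
    rw [← Spec.map_comp, ← Spec.map_comp]
    congr 1
    ext x
    change algebraMap B S' (algebraMap R B x) = algebraMap R' S' (algebraMap R R' x)
    rw [← IsScalarTower.algebraMap_apply, ← IsScalarTower.algebraMap_apply]
  let e₀ : Spec (CommRingCat.of S') ⟶ pullback f b₀ := pullback.lift (g₀ ≫ w) h₀ hcomm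
  have he₀ : Etale e₀ := by
    have h5 : Etale (e₀ ≫ pullback.fst f b₀) := by
      rw [pullback.lift_fst]
      infer_instance
    exact MorphismProperty.of_postcomp (W := @Etale) (W' := @Etale) e₀ (pullback.fst f b₀) inferInstance h5
  let t' : Spec (CommRingCat.of R') := ⟨p', inferInstance⟩
  have ht' : b₀ t' = s := PrimeSpectrum.ext hn.2.choose.over.symm
  -- points over `t'` are in the image
  have hO : ∀ z : ↥(pullback f b₀), pullback.snd f b₀ z = t' → z ∈ Set.range e₀ := by
    intro z hz
    obtain ⟨v, hv⟩ := hw4.surj (pullback.fst f b₀ z)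
    have hv2 : v.asIdeal.LiesOver s.asIdeal := by
      constructor
      have h6 : Spec.map φ v = s := by
        rw [hφ, Scheme.Hom.comp_apply, hv, ← Scheme.Hom.comp_apply, pullback.condition, Scheme.Hom.comp_apply, hz, ht']
      rw [← h6]
      rfl
    obtain ⟨q', _, hq1, hq2⟩ := hcov v.asIdeal hv2
    let y : Spec (CommRingCat.of S') := ⟨q', inferInstance⟩
    refine ⟨y, ?_⟩
    refine Groth.Agent.S0408.eq_of_fst_eq_of_snd_eq f b₀ t' (residueFieldMap_surjective s.asIdeal p' hn) z (e₀ y) ?_ hz ?_
    · rw [← Scheme.Hom.comp_apply, pullback.lift_fst, Scheme.Hom.comp_apply, ← hv]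
      congr 1
      exact PrimeSpectrum.ext hq1.over.symm
    · rw [← Scheme.Hom.comp_apply, pullback.lift_snd]
      exact PrimeSpectrum.ext hq2.over.symm
  -- shrink the base
  have hcl : IsClosed (pullback.snd f b₀ '' (Set.range e₀)ᶜ) :=
    (pullback.snd f b₀).isClosedMap _ (e₀.isOpenMap.isOpen_range.isClosed_compl)
  have htn : t' ∉ pullback.snd f b₀ '' (Set.range e₀)ᶜ := by
    rintro ⟨z, hz1, hz2⟩
    exact hz1 (hO z hz2)
  obtain ⟨T, hT, htT, hTsub⟩ := exists_isAffineOpen_mem_and_subset
    (U := (⟨(pullback.snd f b₀ '' (Set.range e₀)ᶜ)ᶜ, hcl.isOpen_compl⟩ : (Spec (CommRingCat.of R')).Opens)) (x := t') htn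
  have hTaff : IsAffine T.toScheme := hT
  let c := T.ι
  let e : pullback h₀ c ⟶ pullback f (c ≫ b₀) := pullback.lift (pullback.fst h₀ c ≫ g₀ ≫ w) (pullback.snd h₀ c) (by
    rw [Category.assoc, hcomm, pullback.condition_assoc])
  have hsq : IsPullback e (pullback.fst h₀ c) (tr f c b₀) e₀ := by
    refine IsPullback.of_right (h₁₂ := pullback.snd f (c ≫ b₀)) (h₂₂ := pullback.snd f b₀) (v₁₃ := c) ?_ ?_
      (isPullback_tr f c b₀).flip
    · rw [pullback.lift_snd, pullback.lift_snd]
      exact (IsPullback.of_hasPullback h₀ c).flip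
    · apply pullback.hom_ext
      · rw [Category.assoc, tr_fst, pullback.lift_fst, Category.assoc, pullback.lift_fst]
      · rw [Category.assoc, tr_snd, pullback.lift_snd_assoc, Category.assoc, pullback.lift_snd, pullback.condition]
  have he1 : Etale e := MorphismProperty.of_isPullback (P := @Etale) hsq.flip he₀
  refine ⟨T, c ≫ b₀, ⟨t', htT⟩, pullback h₀ c, e, hTaff, inferInstance, inferInstance, ?_, he1, ⟨fun z => ?_⟩, ?_⟩
  · rw [Scheme.Hom.comp_apply]
    exact ht'
  · have hz : tr f c b₀ z ∈ Set.range e₀ := by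
      by_contra hne
      have h7 : pullback.snd f b₀ (tr f c b₀ z) ∈ (T : Set _) := by
        rw [← Scheme.Hom.comp_apply, tr_snd, Scheme.Hom.comp_apply]
        exact (pullback.snd f (c ≫ b₀) z).2
      exact hTsub h7 ⟨_, hne, rfl⟩
    obtain ⟨y, hy⟩ := hz
    obtain ⟨v, hv, -⟩ := Scheme.exists_preimage_of_isPullback hsq z y hy.symm
    exact ⟨v, hv⟩
  · have h8 : e ≫ pullback.snd f (c ≫ b₀) = pullback.snd h₀ c := pullback.lift_snd _ _ _
    rw [h8]
    have hp : Module.Projective R' S' := Module.Projective.of_equiv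
      ((TensorProduct.AlgebraTensorModule.rid B S' S').restrictScalars R')
    exact LocProj.of_isPullback (K544.DSProj.locProj_SpecMap (R := R') (B := S')) (IsPullback.of_hasPullback h₀ c)

theorem exists_isRep_of_locProj {T V Y : Scheme.{u}} (f : V ⟶ T) (j : Y ⟶ V) [IsClosedImmersion j] (hf : LocProj f) :
    ∃ K : T.IdealSheafData, IsRep f j (𝟙 T) K := by
  obtain ⟨T₀, t, ht, h1, -⟩ := exists_closed_weilRestriction_of_locProj f j hf
  refine ⟨t.ker, fun W a => ?_⟩
  rw [Category.comp_id, comap_eq_bot_iff, van_iff_isIso, ← Groth.Agent.Sga3C.CWMain.cond_iff_isIso, ← h1]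
  constructor
  · intro h
    exact ⟨IsClosedImmersion.lift t a h, IsClosedImmersion.lift_fac _ _ _⟩
  · rintro ⟨g', rfl⟩
    exact Scheme.Hom.le_ker_comp _ _

variable {S Z Y : Scheme.{u}} (f : Z ⟶ S) (j : Y ⟶ Z)

/-- Representability can be checked on a cover upstairs. -/
theorem isRep_of_cover [IsClosedImmersion j] {T V : Scheme.{u}} (b : T ⟶ S) (e : V ⟶ pullback f b) [Flat e]
    [Surjective e] [QuasiCompact e] (K : T.IdealSheafData)
    (hK : IsRep (e ≫ pullback.snd f b) (pullback.fst (e ≫ pullback.fst f b) j) (𝟙 T) K) : IsRep f j b K := by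
  intro W a
  rw [hK W a, Category.comp_id]
  let f' := e ≫ pullback.snd f b
  let ε : pullback f' a ⟶ pullback f (a ≫ b) :=
    pullback.lift (pullback.fst f' a ≫ e ≫ pullback.fst f b) (pullback.snd f' a) (by
      rw [Category.assoc, Category.assoc, pullback.condition, ← pullback.condition_assoc, Category.assoc])
  have hsq : IsPullback ε (pullback.fst f' a) (tr f a b) e := by
    refine IsPullback.of_right (h₁₂ := pullback.snd f (a ≫ b)) (h₂₂ := pullback.snd f b) (v₁₃ := a) ?_ ?_
      (isPullback_tr f a b).flip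
    · rw [pullback.lift_snd]
      exact (IsPullback.of_hasPullback f' a).flip
    · apply pullback.hom_ext
      · rw [Category.assoc, tr_fst, pullback.lift_fst, Category.assoc]
      · rw [Category.assoc, tr_snd, pullback.lift_snd_assoc, Category.assoc, pullback.condition]
  have h1 : Flat ε := MorphismProperty.of_isPullback (P := @Flat) hsq.flip inferInstance
  have h2 : Surjective ε := MorphismProperty.of_isPullback (P := @Surjective) hsq.flip inferInstance
  have h3 : QuasiCompact ε := MorphismProperty.of_isPullback (P := @QuasiCompact) hsq.flip inferInstance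
  have h4 : (j.ker.comap (pullback.fst f (a ≫ b))).comap ε =
      (pullback.fst (e ≫ pullback.fst f b) j).ker.comap (pullback.fst f' a) := by
    rw [← Scheme.IdealSheafData.comap_comp, pullback.lift_fst, Scheme.IdealSheafData.ker_fst_of_isClosedImmersion,
      ← Scheme.IdealSheafData.comap_comp]
  rw [Van, Van, ← h4]
  constructor
  · intro h
    apply comap_injective_of_fpqc ε
    change (j.ker.comap (pullback.fst f (a ≫ b))).comap ε = Scheme.IdealSheafData.comap ⊥ ε
    rw [h, Scheme.IdealSheafData.comap_bot]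
  · intro h
    rw [h, Scheme.IdealSheafData.comap_bot]

/-- Closed Weil restriction along a proper flat morphism of finite presentation. -/
theorem exists_isRep [IsProper f] [Flat f] [LocallyOfFinitePresentation f] [IsClosedImmersion j] :
    ∃ K : S.IdealSheafData, IsRep f j (𝟙 S) K := by
  apply exists_isRep_of_forall_exists
  intro s
  obtain ⟨U, hU, hsU, -⟩ := exists_isAffineOpen_mem_and_subset (U := (⊤ : S.Opens)) (x := s) trivial
  have hs' : s ∈ Set.range hU.fromSpec := by
    rw [hU.range_fromSpec]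
    exact hsU
  obtain ⟨s', hs'⟩ := hs'
  obtain ⟨T, b, t, V, e, hT, hV, hb, hbt, he1, he2, hp⟩ := exists_chart (R := Γ(S, U)) (pullback.snd f hU.fromSpec) s'
  let ρ : pullback (pullback.snd f hU.fromSpec) b ≅ pullback f (b ≫ hU.fromSpec) :=
    pullbackLeftPullbackSndIso f hU.fromSpec b
  have hρ : ρ.hom ≫ pullback.snd f (b ≫ hU.fromSpec) = pullback.snd (pullback.snd f hU.fromSpec) b :=
    pullbackLeftPullbackSndIso_hom_snd _ _ _
  have hqc : QuasiCompact e := by
    have h1 : QuasiCompact (e ≫ pullback.snd (pullback.snd f hU.fromSpec) b) := inferInstance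
    exact QuasiCompact.of_comp _ (pullback.snd (pullback.snd f hU.fromSpec) b)
  obtain ⟨K, hK⟩ := exists_isRep_of_locProj ((e ≫ ρ.hom) ≫ pullback.snd f (b ≫ hU.fromSpec))
    (pullback.fst ((e ≫ ρ.hom) ≫ pullback.fst f (b ≫ hU.fromSpec)) j) (by rwa [Category.assoc, hρ])
  have h1 : IsRep f j (b ≫ hU.fromSpec) K := isRep_of_cover f j (b ≫ hU.fromSpec) (e ≫ ρ.hom) K hK
  -- descend to the image of `b`
  let W : (Spec Γ(S, U)).Opens := ⟨Set.range b, b.isOpenMap.isOpen_range⟩
  let b' : T ⟶ W := IsOpenImmersion.lift W.ι b (by simp [W])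
  have hb' : b' ≫ W.ι = b := IsOpenImmersion.lift_fac _ _ _
  have hsurj : Surjective b' := by
    constructor
    rintro ⟨_, x, rfl⟩
    refine ⟨x, ?_⟩
    apply W.ι.injective
    rw [← Scheme.Hom.comp_apply, hb']
    rfl
  have hfl : Flat b' := by
    have h2 : Etale (b' ≫ W.ι) := by rwa [hb']
    have h3 : Etale b' := MorphismProperty.of_postcomp (W := @Etale) (W' := @Etale) b' W.ι inferInstance h2
    infer_instance
  have hqc' : QuasiCompact b' := by
    have h2 : QuasiCompact (b' ≫ W.ι) := by
      rw [hb']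
      infer_instance
    exact QuasiCompact.of_comp _ W.ι
  have h2 : IsRep f j (b' ≫ W.ι ≫ hU.fromSpec) K := by
    rwa [← Category.assoc, hb']
  refine ⟨W, W.ι ≫ hU.fromSpec, inferInstance, ⟨s', t, hbt⟩, K.map b', ?_, ?_⟩
  · rw [Scheme.Hom.comp_apply]
    exact hs'
  · rw [Category.comp_id]
    exact h2.of_fpqc.1

end K642.WeilCl
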