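import Groth.Agent.AlgSp.K642.HomDef
import Groth.Agent.AlgSp.K642.WeilCl

/-!
# The locus where two morphisms `X_T ⟶ Y` agree is a closed subscheme of `T`
-/

set_option autoImplicit false

universe w v u

open CategoryTheory CategoryTheory.Limits AlgebraicGeometry Opposite
open K607.Artin K642.HomDef Groth.Agent.Sga3A.H781.RepIdeal

namespace K642.HomPR

section Locus

variable {Z T Y S : Scheme.{u}} (f : Z ⟶ T) (q : Y ⟶ S) (u v : Z ⟶ Y)

/-- The agreement locus of two morphisms from a proper flat scheme to a separated one. -/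
theorem exists_locus [IsProper f] [Flat f] [LocallyOfFinitePresentation f] [IsSeparated q] (huv : u ≫ q = v ≫ q) :
    ∃ (E : Scheme.{u}) (i : E ⟶ T), IsClosedImmersion i ∧
      ∀ (W : Scheme.{u}) (g : W ⟶ T) (P : Scheme.{u}) (a : P ⟶ Z) (b : P ⟶ W), IsPullback a b f g →
        ((∃ g' : W ⟶ E, g' ≫ i = g) ↔ a ≫ u = a ≫ v) := by
  let j := pullback.fst (pullback.lift u v huv) (pullback.diagonal q)
  have hj : ∀ {P : Scheme.{u}} (a : P ⟶ Z), (∃ a', a' ≫ j = a) ↔ a ≫ u = a ≫ v := by
    intro P a
    constructor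
    · rintro ⟨a', rfl⟩
      have h1 : j ≫ u = pullback.snd (pullback.lift u v huv) (pullback.diagonal q) := by
        have := pullback.condition (f := pullback.lift u v huv) (g := pullback.diagonal q)
        have h2 := congrArg (· ≫ pullback.fst q q) this
        rwa [Category.assoc, Category.assoc, pullback.lift_fst, pullback.diagonal_fst, Category.comp_id] at h2
      have h2 : j ≫ v = pullback.snd (pullback.lift u v huv) (pullback.diagonal q) := by
        have := pullback.condition (f := pullback.lift u v huv) (g := pullback.diagonal q)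
        have h2 := congrArg (· ≫ pullback.snd q q) this
        rwa [Category.assoc, Category.assoc, pullback.lift_snd, pullback.diagonal_snd, Category.comp_id] at h2
      rw [Category.assoc, Category.assoc, h1, h2]
    · intro h
      refine ⟨pullback.lift a (a ≫ u) ?_, pullback.lift_fst _ _ _⟩
      apply pullback.hom_ext
      · rw [Category.assoc, Category.assoc, pullback.lift_fst, pullback.diagonal_fst, Category.comp_id]
      · rw [Category.assoc, Category.assoc, pullback.lift_snd, pullback.diagonal_snd, Category.comp_id, h]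
  obtain ⟨K, hK⟩ := K642.WeilCl.exists_isRep f j
  refine ⟨K.subscheme, K.subschemeι, inferInstance, ?_⟩
  intro W g P a b hP
  rw [hK.exists_lift_iff, van_iff_isIso, ← Groth.Agent.Sga3C.CWMain.cond_iff_isIso, ← hj]
  constructor
  · rintro ⟨c, hc⟩
    refine ⟨hP.isoPullback.hom ≫ c, ?_⟩
    rw [Category.assoc, hc, IsPullback.isoPullback_hom_fst]
  · rintro ⟨c, hc⟩
    refine ⟨hP.isoPullback.inv ≫ c, ?_⟩
    rw [Category.assoc, hc, IsPullback.isoPullback_inv_fst]

end Locus

section PR

variable {Λ : Type u} [CommRing Λ] (X Y : Over (Spec (CommRingCat.of Λ)))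

/-- The locus in `T` where two elements of `morF X Y` over `T` agree. -/
theorem exists_eqLocus {S : Scheme.{u}} (X Y : Over S) [IsProper X.hom] [Flat X.hom] [LocallyOfFinitePresentation X.hom]
    [IsSeparated Y.hom] (T : Over S) (x y : (morF X Y).obj (op T)) :
    ∃ (W : Over S) (i : W ⟶ T), IsClosedImmersion i.left ∧
      ∀ (Z : Over S) (a : Z ⟶ T), (∃ a' : Z ⟶ W, a' ≫ i = a) ↔ (morF X Y).map a.op x = (morF X Y).map a.op y := by
  obtain ⟨E, i, hi, hE⟩ := exists_locus (pullback.fst T.hom X.hom) Y.hom x.1 y.1 (x.2.trans y.2.symm)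
  refine ⟨Over.mk (i ≫ T.hom), Over.homMk i rfl, hi, fun Z a => ?_⟩
  have h1 := hE Z.left a.left _ (xmap X a) (pullback.fst Z.hom X.hom) (isPullback_xmap X a)
  have h2 : (morF X Y).map a.op x = (morF X Y).map a.op y ↔ xmap X a ≫ x.1 = xmap X a ≫ y.1 := by
    constructor
    · intro h
      exact congrArg Subtype.val h
    · intro h
      exact ext' h
  rw [h2, ← h1]
  constructor
  · rintro ⟨a', ha⟩
    exact ⟨a'.left, by rw [← ha]; rfl⟩
  · rintro ⟨g', hg⟩
    refine ⟨Over.homMk g' ?_, Over.OverMorphism.ext hg⟩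
    rw [← Over.w a, ← hg]
    simp

theorem pr_morF [IsProper X.hom] [Flat X.hom] [LocallyOfFinitePresentation X.hom] [IsSeparated Y.hom]
    (A B : Over (Spec (CommRingCat.of Λ))) (x : (morF X Y).obj (op A)) (y : (morF X Y).obj (op B)) :
    ∃ (W : Over (Spec (CommRingCat.of Λ))) (p : W ⟶ A) (q : W ⟶ B), (morF X Y).map p.op x = (morF X Y).map q.op y ∧
      (∀ (Z : Over (Spec (CommRingCat.of Λ))) (a : Z ⟶ A) (b : Z ⟶ B), (morF X Y).map a.op x = (morF X Y).map b.op y →
        ∃! c : Z ⟶ W, c ≫ p = a ∧ c ≫ q = b) ∧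
      LocallyOfFiniteType (pullback.lift p.left q.left ((Over.w p).trans (Over.w q).symm) :
        W.left ⟶ pullback A.hom B.hom) := by
  let T : Over (Spec (CommRingCat.of Λ)) := Over.mk (pullback.fst A.hom B.hom ≫ A.hom)
  let πA : T ⟶ A := Over.homMk (pullback.fst A.hom B.hom) rfl
  let πB : T ⟶ B := Over.homMk (pullback.snd A.hom B.hom) pullback.condition.symm
  obtain ⟨W, i, hi, hW⟩ := exists_eqLocus X Y T ((morF X Y).map πA.op x) ((morF X Y).map πB.op y)
  have hmap : ∀ (Z : Over (Spec (CommRingCat.of Λ))) (c : Z ⟶ T),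
      (morF X Y).map c.op ((morF X Y).map πA.op x) = (morF X Y).map (c ≫ πA).op x := by
    intro Z c
    rw [op_comp, Functor.map_comp]
    rfl
  have hmap' : ∀ (Z : Over (Spec (CommRingCat.of Λ))) (c : Z ⟶ T),
      (morF X Y).map c.op ((morF X Y).map πB.op y) = (morF X Y).map (c ≫ πB).op y := by
    intro Z c
    rw [op_comp, Functor.map_comp]
    rfl
  refine ⟨W, i ≫ πA, i ≫ πB, ?_, ?_, ?_⟩
  · rw [← hmap, ← hmap']
    exact (hW W i).1 ⟨𝟙 W, Category.id_comp _⟩
  · intro Z a b hab
    let c : Z ⟶ T := Over.homMk (pullback.lift a.left b.left ((Over.w a).trans (Over.w b).symm)) (by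
      change _ ≫ pullback.fst _ _ ≫ _ = _
      rw [pullback.lift_fst_assoc, Over.w])
    have hc1 : c ≫ πA = a := Over.OverMorphism.ext (pullback.lift_fst _ _ _)
    have hc2 : c ≫ πB = b := Over.OverMorphism.ext (pullback.lift_snd _ _ _)
    obtain ⟨c', hc'⟩ := (hW Z c).2 (by rw [hmap, hmap', hc1, hc2, hab])
    refine ⟨c', ⟨by rw [← Category.assoc, hc', hc1], by rw [← Category.assoc, hc', hc2]⟩, ?_⟩
    rintro d ⟨hd1, hd2⟩
    apply Over.OverMorphism.ext
    rw [← cancel_mono i.left]
    apply pullback.hom_ext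
    · have h1 : (d ≫ i ≫ πA).left = (c' ≫ i ≫ πA).left := by
        rw [hd1, ← Category.assoc, hc', hc1]
      simpa [πA] using h1
    · have h1 : (d ≫ i ≫ πB).left = (c' ≫ i ≫ πB).left := by
        rw [hd2, ← Category.assoc, hc', hc2]
      simpa [πB] using h1
  · have h1 : pullback.lift (i ≫ πA).left (i ≫ πB).left ((Over.w (i ≫ πA)).trans (Over.w (i ≫ πB)).symm) = i.left := by
      apply pullback.hom_ext
      · rw [pullback.lift_fst]
        rfl
      · rw [pullback.lift_snd]
        rfl
    rw [h1]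
    infer_instance

end PR

end K642.HomPR
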