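import Groth.Agent.AlgSp.K607.ArtinDefs
import Groth.Agent.Magnet.K949.Fib
import Groth.Agent.Pinch.K838.FerrBC
import Groth.Prelude.Def_WeilRes

/-!
# The functor of morphisms `X_T ⟶ Y` and its gluing axiom

`morF X Y` is the presheaf `T ↦ Hom_S(T ×_S X, Y)` on schemes over `S`; it is isomorphic to the Weil restriction
functor of `Y ×_S X` along `X ⟶ S`.
-/

set_option autoImplicit false

universe w v u

open CategoryTheory CategoryTheory.Limits AlgebraicGeometry Opposite

namespace K642.HomDef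

section Def

variable {S : Scheme.{u}} (X Y : Over S)

/-- `T ×_S X`. -/
noncomputable abbrev xt (T : Over S) : Scheme.{u} := pullback T.hom X.hom

/-- Functoriality of `T ×_S X`. -/
noncomputable def xmap {T T' : Over S} (h : T ⟶ T') : xt X T ⟶ xt X T' :=
  pullback.lift (pullback.fst _ _ ≫ h.left) (pullback.snd _ _) (by
    rw [Category.assoc, Over.w, pullback.condition])

@[reassoc (attr := simp)]
lemma xmap_fst {T T' : Over S} (h : T ⟶ T') :
    xmap X h ≫ pullback.fst T'.hom X.hom = pullback.fst T.hom X.hom ≫ h.left :=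
  pullback.lift_fst _ _ _

@[reassoc (attr := simp)]
lemma xmap_snd {T T' : Over S} (h : T ⟶ T') :
    xmap X h ≫ pullback.snd T'.hom X.hom = pullback.snd T.hom X.hom :=
  pullback.lift_snd _ _ _

@[simp]
lemma xmap_id (T : Over S) : xmap X (𝟙 T) = 𝟙 _ := by
  apply pullback.hom_ext <;> simp

lemma xmap_comp {T T' T'' : Over S} (h : T ⟶ T') (h' : T' ⟶ T'') :
    xmap X (h ≫ h') = xmap X h ≫ xmap X h' := by
  apply pullback.hom_ext <;> simp

lemma isPullback_xmap {T T' : Over S} (h : T ⟶ T') :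
    IsPullback (xmap X h) (pullback.fst T.hom X.hom) (pullback.fst T'.hom X.hom) h.left := by
  have h1 : IsPullback (xmap X h ≫ pullback.snd T'.hom X.hom) (pullback.fst T.hom X.hom) X.hom (h.left ≫ T'.hom) := by
    rw [xmap_snd, Over.w]
    exact (IsPullback.of_hasPullback T.hom X.hom).flip
  exact IsPullback.of_right h1 (xmap_fst X h) (IsPullback.of_hasPullback T'.hom X.hom).flip

/-- The presheaf `T ↦ Hom_S(T ×_S X, Y)`. -/
noncomputable def morF : (Over S)ᵒᵖ ⥤ Type u where
  obj T := {g : xt X T.unop ⟶ Y.left // g ≫ Y.hom = pullback.fst _ _ ≫ T.unop.hom}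
  map {T T'} h := ↾fun g => ⟨xmap X h.unop ≫ g.1, by
    rw [Category.assoc, g.2, xmap_fst_assoc, Over.w]⟩
  map_id T := by
    apply ConcreteCategory.hom_ext
    intro g
    apply Subtype.ext
    change xmap X (𝟙 T.unop) ≫ g.1 = g.1
    rw [xmap_id, Category.id_comp]
  map_comp {T T' T''} h h' := by
    apply ConcreteCategory.hom_ext
    intro g
    apply Subtype.ext
    change xmap X (h'.unop ≫ h.unop) ≫ g.1 = xmap X h'.unop ≫ xmap X h.unop ≫ g.1
    rw [xmap_comp, Category.assoc]

variable {X Y}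

lemma map_val {T T' : Over S} (h : T' ⟶ T) (g : (morF X Y).obj (op T)) :
    ((morF X Y).map h.op g).1 = xmap X h ≫ g.1 := rfl

lemma ext' {T : Over S} {g g' : (morF X Y).obj (op T)} (h : g.1 = g'.1) : g = g' := Subtype.ext h

variable (X Y)

/-- Weil restriction of the constant family. -/
noncomputable def wEquiv (T : Over S) : (WeilRes.functor X.hom (Red.bc X.hom Y)).obj (op T) ≃ (morF X Y).obj (op T) where
  toFun φ := ⟨φ.left ≫ pullback.fst Y.hom X.hom, by
    rw [Category.assoc, pullback.condition, ← Category.assoc]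
    have h : φ.left ≫ pullback.snd Y.hom X.hom = pullback.snd T.hom X.hom := Over.w φ
    rw [h]
    exact pullback.condition.symm⟩
  invFun g := Over.homMk (pullback.lift g.1 (pullback.snd T.hom X.hom) (g.2.trans pullback.condition))
    (pullback.lift_snd _ _ _)
  left_inv φ := by
    apply Over.OverMorphism.ext
    refine pullback.hom_ext (pullback.lift_fst _ _ _) ?_
    exact (pullback.lift_snd _ _ _).trans (Over.w φ).symm
  right_inv g := Subtype.ext (pullback.lift_fst _ _ _)

lemma wEquiv_nat {T T' : Over S} (h : T' ⟶ T) (φ : (WeilRes.functor X.hom (Red.bc X.hom Y)).obj (op T)) :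
    wEquiv X Y T' ((WeilRes.functor X.hom (Red.bc X.hom Y)).map h.op φ) = (morF X Y).map h.op (wEquiv X Y T φ) := by
  apply ext'
  have h1 : ((WeilRes.functor X.hom (Red.bc X.hom Y)).map h.op φ).left = xmap X h ≫ φ.left := by
    change (((Over.pullback X.hom).map h) ≫ φ).left = _
    rw [Over.comp_left]
    rfl
  change ((WeilRes.functor X.hom (Red.bc X.hom Y)).map h.op φ).left ≫ _ = xmap X h ≫ φ.left ≫ _
  rw [h1, Category.assoc]

/-- The Weil restriction functor of the constant family is `morF`. -/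
noncomputable def wIso : WeilRes.functor X.hom (Red.bc X.hom Y) ≅ morF X Y :=
  NatIso.ofComponents (fun T => (wEquiv X Y T.unop).toIso) (by
    intro T T' h
    apply ConcreteCategory.hom_ext
    intro φ
    exact wEquiv_nat X Y h.unop φ)

end Def

section Transfer

open K607.Artin

variable {Λ : Type u} [CommRing Λ] {F : (Over (Spec (CommRingCat.of Λ)))ᵒᵖ ⥤ Type w}
  {G : (Over (Spec (CommRingCat.of Λ)))ᵒᵖ ⥤ Type v}

/-- The axioms only depend on the presheaf up to natural bijections (of values in different universes). -/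
theorem faxioms_of_equiv (e : ∀ T, F.obj (op T) ≃ G.obj (op T))
    (he : ∀ {T T' : Over (Spec (CommRingCat.of Λ))} (h : T' ⟶ T) (x : F.obj (op T)), e T' (F.map h.op x) = G.map h.op (e T x))
    (H : FAxioms F) : FAxioms G := by
  have he' : ∀ {T T' : Over (Spec (CommRingCat.of Λ))} (h : T' ⟶ T) (x : G.obj (op T)),
      (e T').symm (G.map h.op x) = F.map h.op ((e T).symm x) := by
    intro T T' h x
    rw [Equiv.symm_apply_eq, he, Equiv.apply_symm_apply]
  refine ⟨?_, ?_, ?_, ?_, ?_⟩
  · intro A _ _ x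
    obtain ⟨C, i1, i2, i3, φ, y, hy⟩ := H.lp A ((e _).symm x)
    refine ⟨C, i1, i2, i3, φ, e _ y, ?_⟩
    rw [← he, hy, Equiv.apply_symm_apply]
  · intro R _ _ t h1 h2 R' _ _ π h3 x hx
    obtain ⟨x', hx'⟩ := H.se R t h1 h2 R' π h3 (fun n => (e _).symm (x n)) (fun n => by rw [← he', hx])
    refine ⟨e _ x', fun n => ?_⟩
    rw [← he, hx', Equiv.apply_symm_apply]
  · intro A B B' P _ _ _ _ _ _ _ _ f g p q h1 h2 h3 x x' hx
    obtain ⟨w, ⟨hw1, hw2⟩, hu⟩ := H.rs f g p q h1 h2 h3 ((e _).symm x) ((e _).symm x') (by rw [← he', hx, he'])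
    refine ⟨e _ w, ⟨by rw [← he, hw1, Equiv.apply_symm_apply], by rw [← he, hw2, Equiv.apply_symm_apply]⟩, ?_⟩
    rintro w' ⟨h4, h5⟩
    rw [← Equiv.symm_apply_eq]
    exact hu _ ⟨by rw [← he', h4], by rw [← he', h5]⟩
  · intro k _ _ _
    have := H.sm k
    exact small_of_injective (e _).symm.injective
  · intro X Y x y
    obtain ⟨W, p, q, h1, h2, h3⟩ := H.pr X Y ((e _).symm x) ((e _).symm y)
    refine ⟨W, p, q, ?_, ?_, h3⟩
    · rw [← he', ← he'] at h1
      exact (e _).symm.injective h1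
    · intro Z a b h
      exact h2 Z a b (by rw [← he', ← he', h])

/-- The form needed for the Weil restriction functor. -/
theorem faxioms_weilRes (X Y : Over (Spec (CommRingCat.of Λ))) (H : FAxioms (morF X Y)) :
    FAxioms (WeilRes.functor X.hom (Red.bc X.hom Y) ⋙ uliftFunctor.{v, u}) := by
  refine faxioms_of_equiv (fun T => (wEquiv X Y T).symm.trans Equiv.ulift.symm) ?_ H
  intro T T' h x
  apply ULift.down_injective
  change (wEquiv X Y T').symm ((morF X Y).map h.op x) = (WeilRes.functor X.hom (Red.bc X.hom Y)).map h.op ((wEquiv X Y T).symm x)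
  rw [Equiv.symm_apply_eq, wEquiv_nat, Equiv.apply_symm_apply]

end Transfer

section RS

open K607.Artin

variable {Λ : Type u} [CommRing Λ] (X Y : Over (Spec (CommRingCat.of Λ)))

theorem isPushout_xmap [Flat X.hom] {A B B' P : Type u} [CommRing A] [CommRing B] [CommRing B'] [CommRing P] [Algebra Λ A]
    [Algebra Λ B] [Algebra Λ B'] [Algebra Λ P] (f : A →ₐ[Λ] B) (g : B' →ₐ[Λ] B) (p : P →ₐ[Λ] A) (q : P →ₐ[Λ] B')
    (h : IsFib f g p q) (hg : Function.Surjective g) :
    IsPushout (xmap X (spMap g)) (xmap X (spMap f)) (xmap X (spMap q)) (xmap X (spMap p)) := by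
  have hF : K949.Fib.IsFib q.toRingHom p.toRingHom g.toRingHom f.toRingHom := by
    refine ⟨?_, ?_, ?_⟩
    · ext x
      exact (DFunLike.congr_fun h.w x).symm
    · intro e h1 h2
      refine h.inj e 0 ?_ ?_
      · rw [map_zero]
        exact h2
      · rw [map_zero]
        exact h1
    · intro b' a hab
      obtain ⟨x, h1, h2⟩ := h.surj a b' hab.symm
      exact ⟨x, h2, h1⟩
  have hci : IsClosedImmersion (spMap g).left := IsClosedImmersion.spec_of_surjective _ hg
  have ha1 : IsAffineHom (spMap q).left := inferInstanceAs (IsAffineHom (Spec.map _))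
  have ha2 : IsAffineHom (spMap p).left := inferInstanceAs (IsAffineHom (Spec.map _))
  have hpo : IsPushout (spMap g).left (spMap f).left (spMap q).left (spMap p).left := hF.isPushout hg
  have hFe := K838.Ferr.isFerr_of_isPushout hpo
  have hw : spMap g ≫ spMap q = spMap f ≫ spMap p := by
    apply Over.OverMorphism.ext
    exact hpo.w
  have hfl : Flat (pullback.fst (sp Λ P).hom X.hom) := inferInstance
  refine K838.FerrBC.isPushout_flat_baseChange (s := 𝟙 _) (sW := 𝟙 _)
    (g := pullback.fst (sp Λ P).hom X.hom) (gW := pullback.fst (sp Λ P).hom X.hom) hFe ?_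
    (isPullback_xmap X (spMap q)).flip (isPullback_xmap X (spMap p)).flip (isPullback_xmap X (spMap g)).flip ?_ ?_
  · exact IsPullback.of_vert_isIso ⟨by simp⟩
  · exact xmap_fst X _
  · rw [← xmap_comp, hw, xmap_comp]

theorem rs_morF [Flat X.hom] {A B B' P : Type u} [CommRing A] [CommRing B] [CommRing B'] [CommRing P] [Algebra Λ A]
    [Algebra Λ B] [Algebra Λ B'] [Algebra Λ P] (f : A →ₐ[Λ] B) (g : B' →ₐ[Λ] B) (p : P →ₐ[Λ] A) (q : P →ₐ[Λ] B')
    (h : IsFib f g p q) (hg : Function.Surjective g)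
    (x : (morF X Y).obj (op (sp Λ A))) (x' : (morF X Y).obj (op (sp Λ B')))
    (hx : (morF X Y).map (spMap f).op x = (morF X Y).map (spMap g).op x') :
    ∃! w : (morF X Y).obj (op (sp Λ P)), (morF X Y).map (spMap p).op w = x ∧ (morF X Y).map (spMap q).op w = x' := by
  have hpo := isPushout_xmap X f g p q h hg
  have hx1 : xmap X (spMap g) ≫ x'.1 = xmap X (spMap f) ≫ x.1 := by
    rw [← map_val, ← map_val, hx]
  have h1 : hpo.desc x'.1 x.1 hx1 ≫ Y.hom = pullback.fst _ _ ≫ (sp Λ P).hom := by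
    apply hpo.hom_ext
    · rw [IsPushout.inl_desc_assoc, x'.2, xmap_fst_assoc, Over.w]
    · rw [IsPushout.inr_desc_assoc, x.2, xmap_fst_assoc, Over.w]
  refine ⟨⟨hpo.desc x'.1 x.1 hx1, h1⟩, ⟨ext' (hpo.inr_desc _ _ _), ext' (hpo.inl_desc _ _ _)⟩, ?_⟩
  rintro w ⟨h2, h3⟩
  apply ext'
  apply hpo.hom_ext
  · rw [IsPushout.inl_desc, ← map_val, h3]
  · rw [IsPushout.inr_desc, ← map_val, h2]

end RS

end K642.HomDef
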