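import Mathlib.CategoryTheory.Limits.Shapes.Pullback.IsPullback.Basic
/-!
A cube of pullbacks.
-/

universe v u

open CategoryTheory CategoryTheory.Limits

namespace K642.Cube

variable {C : Type u} [Category.{v} C]

theorem isPullback_cube {D Z M₁ M₂ N X₁ X₂ X U₁ U₂ W E : C} {t : D ⟶ Z} {m₁ : M₁ ⟶ Z} {m₂ : M₂ ⟶ Z} {n₁ : N ⟶ M₁}
    {n₂ : N ⟶ M₂} (hN : IsPullback n₁ n₂ m₁ m₂) {β₁ : X₁ ⟶ M₁} {α₁ : X₁ ⟶ D} (hX₁ : IsPullback β₁ α₁ m₁ t)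
    {β₂ : X₂ ⟶ M₂} {α₂ : X₂ ⟶ D} (hX₂ : IsPullback β₂ α₂ m₂ t) {m : N ⟶ Z} (hm : m = n₁ ≫ m₁)
    {β : X ⟶ N} {α : X ⟶ D} (hX : IsPullback β α m t) {k₁ : X ⟶ X₁} {k₂ : X ⟶ X₂} (hk₁α : k₁ ≫ α₁ = α)
    (hk₂α : k₂ ≫ α₂ = α) (hk₁β : k₁ ≫ β₁ = β ≫ n₁) (hk₂β : k₂ ≫ β₂ = β ≫ n₂) {e : D ⟶ E} {a₁ : U₁ ⟶ E}
    {a₂ : U₂ ⟶ E} {b₁ : X₁ ⟶ U₁} {b₂ : X₂ ⟶ U₂} (h₁ : IsPullback b₁ α₁ a₁ e) (h₂ : IsPullback b₂ α₂ a₂ e)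
    {f₁ : W ⟶ U₁} {f₂ : W ⟶ U₂} (hW : IsPullback f₁ f₂ a₁ a₂) {b : X ⟶ W} (hb₁ : b ≫ f₁ = k₁ ≫ b₁)
    (hb₂ : b ≫ f₂ = k₂ ≫ b₂) : IsPullback b α (f₁ ≫ a₁) e := by
  subst hm
  have w : b ≫ (f₁ ≫ a₁) = α ≫ e := by
    rw [← Category.assoc, hb₁, Category.assoc, h₁.w, ← Category.assoc, hk₁α]
  refine ⟨⟨w⟩, ⟨PullbackCone.isLimitAux' _ fun s => ?_⟩⟩
  have w₁ : (s.fst ≫ f₁) ≫ a₁ = s.snd ≫ e := by rw [Category.assoc, s.condition]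
  have w₂ : (s.fst ≫ f₂) ≫ a₂ = s.snd ≫ e := by rw [Category.assoc, ← hW.w, s.condition]
  let x₁ := h₁.lift (s.fst ≫ f₁) s.snd w₁
  let x₂ := h₂.lift (s.fst ≫ f₂) s.snd w₂
  have hx₁ : x₁ ≫ b₁ = s.fst ≫ f₁ := h₁.lift_fst _ _ _
  have hx₁' : x₁ ≫ α₁ = s.snd := h₁.lift_snd _ _ _
  have hx₂ : x₂ ≫ b₂ = s.fst ≫ f₂ := h₂.lift_fst _ _ _
  have hx₂' : x₂ ≫ α₂ = s.snd := h₂.lift_snd _ _ _
  have w₃ : (x₁ ≫ β₁) ≫ m₁ = (x₂ ≫ β₂) ≫ m₂ := by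
    rw [Category.assoc, hX₁.w, Category.assoc, hX₂.w, ← Category.assoc, hx₁', ← Category.assoc, hx₂']
  let y := hN.lift (x₁ ≫ β₁) (x₂ ≫ β₂) w₃
  have hy₁ : y ≫ n₁ = x₁ ≫ β₁ := hN.lift_fst _ _ _
  have hy₂ : y ≫ n₂ = x₂ ≫ β₂ := hN.lift_snd _ _ _
  have w₄ : y ≫ n₁ ≫ m₁ = s.snd ≫ t := by
    rw [← Category.assoc, hy₁, Category.assoc, hX₁.w, ← Category.assoc, hx₁']
  let z := hX.lift y s.snd w₄
  have hz : z ≫ β = y := hX.lift_fst _ _ _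
  have hz' : z ≫ α = s.snd := hX.lift_snd _ _ _
  have hz₁ : z ≫ k₁ = x₁ := by
    apply hX₁.hom_ext
    · rw [Category.assoc, hk₁β, ← Category.assoc, hz, hy₁]
    · rw [Category.assoc, hk₁α, hz', hx₁']
  have hz₂ : z ≫ k₂ = x₂ := by
    apply hX₂.hom_ext
    · rw [Category.assoc, hk₂β, ← Category.assoc, hz, hy₂]
    · rw [Category.assoc, hk₂α, hz', hx₂']
  have key₁ : z ≫ b = s.fst := by
    apply hW.hom_ext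
    · rw [Category.assoc, hb₁, ← Category.assoc, hz₁, hx₁]
    · rw [Category.assoc, hb₂, ← Category.assoc, hz₂, hx₂]
  have key : ∀ k : s.pt ⟶ X, k ≫ b = s.fst → k ≫ α = s.snd → k = z := by
    intro k hk hk'
    have e₁ : k ≫ k₁ = x₁ := by
      apply h₁.hom_ext
      · rw [Category.assoc, ← hb₁, ← Category.assoc, hk, hx₁]
      · rw [Category.assoc, hk₁α, hk', hx₁']
    have e₂ : k ≫ k₂ = x₂ := by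
      apply h₂.hom_ext
      · rw [Category.assoc, ← hb₂, ← Category.assoc, hk, hx₂]
      · rw [Category.assoc, hk₂α, hk', hx₂']
    apply hX.hom_ext
    · rw [hz]
      apply hN.hom_ext
      · rw [Category.assoc, ← hk₁β, ← Category.assoc, e₁, hy₁]
      · rw [Category.assoc, ← hk₂β, ← Category.assoc, e₂, hy₂]
    · rw [hk', hz']
  exact ⟨z, key₁, hz', fun {k} hk hk' => key k hk hk'⟩

end K642.Cube
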