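import Groth.Agent.AlgSp.K642.Pb
/-!
Cancellation for etale morphisms of algebraic spaces.
-/

universe u

open CategoryTheory CategoryTheory.Limits AlgebraicGeometry Opposite AlgSp

set_option backward.isDefEq.respectTransparency false

namespace K642.EtCancel

variable {S : Scheme.{u}}

/-- If `g` and `φ ≫ f ≫ g` are etale then `φ ≫ f` is representable etale, for `φ ≫ f` out of a scheme. -/
theorem repWith_of_comp_isEtaleMor {G H : Sp S} (hG : IsAlgSpace G) {T : Over S} (φ : (yon S).obj T ⟶ G)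
    {g : G ⟶ H} (hg : IsEtaleMor g) (h : RepWith @Etale (φ ≫ g)) : RepWith @Etale φ := by
  obtain ⟨V, p, hp, hps⟩ := hG.atlas
  obtain ⟨T', c, q, sq⟩ := hp.1 φ
  have hc : Etale c.left := hp.2 φ _ _ sq
  have hcs : Surjective c.left := hps.2 φ _ _ sq
  obtain ⟨q, rfl⟩ := (yon S).map_surjective q
  refine K642.Pb.repWith_etale_of_cover hG.diag c hc hcs φ ?_
  have h1 : RepWith @Etale ((yon S).map c ≫ φ ≫ g) :=
    MorphismProperty.comp_mem _ _ _ ((repWith_yon_map_iff _ _).2 hc) h
  have h2 : RepWith @Etale (p ≫ g) := hg p hp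
  have hq : Etale q.left := K613.Diag.etale_of_comp q h2 h1 (by
    rw [← Category.assoc, sq.w, Category.assoc])
  rw [← sq.w]
  exact MorphismProperty.comp_mem _ _ _ ((repWith_yon_map_iff _ _).2 hq) hp

theorem isEtaleMor_of_comp {F G H : Sp S} (hG : IsAlgSpace G) {f : F ⟶ G} {g : G ⟶ H} (hg : IsEtaleMor g)
    (h : IsEtaleMor (f ≫ g)) : IsEtaleMor f := fun _ φ hφ =>
  repWith_of_comp_isEtaleMor hG _ hg (by rw [Category.assoc]; exact h _ hφ)

end K642.EtCancel
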