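import Mathlib.CategoryTheory.Limits.Shapes.Pullback.HasPullback
import Mathlib.CategoryTheory.Limits.Shapes.Pullback.IsPullback.Basic
/-!
The pullback of a cocone along a morphism to its point.
-/

universe w v u v' u'

open CategoryTheory CategoryTheory.Limits

set_option backward.isDefEq.respectTransparency false

namespace K642.PbFun

variable {C : Type u} [Category.{v} C] {I : Type u'} [Category.{v'} I] [HasPullbacks C]
  {D : I ⥤ C} {Z M : C} (t : ∀ i, D.obj i ⟶ Z) (ht : ∀ ⦃i j : I⦄ (g : i ⟶ j), D.map g ≫ t j = t i) (m : M ⟶ Z)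

/-- The system `D i ×_Z M`. -/
noncomputable def pbF : I ⥤ C where
  obj i := pullback (t i) m
  map {i j} g := pullback.lift (pullback.fst _ _ ≫ D.map g) (pullback.snd _ _) (by
    rw [Category.assoc, ht, pullback.condition])
  map_id i := by
    apply pullback.hom_ext <;> simp
  map_comp f g := by
    apply pullback.hom_ext <;> simp

/-- The first projections. -/
noncomputable def pbα : pbF t ht m ⟶ D where
  app i := pullback.fst (t i) m
  naturality i j g := by simp [pbF]

/-- The second projections. -/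
noncomputable def pbβ (i : I) : (pbF t ht m).obj i ⟶ M := pullback.snd (t i) m

@[reassoc]
theorem pbβ_nat {i j : I} (g : i ⟶ j) : (pbF t ht m).map g ≫ pbβ t ht m j = pbβ t ht m i := by
  simp [pbF, pbβ]

theorem isPullback_app (i : I) : IsPullback (pbβ t ht m i) ((pbα t ht m).app i) m (t i) :=
  (IsPullback.of_hasPullback (t i) m).flip

theorem isPullback_map {i j : I} (g : i ⟶ j) :
    IsPullback ((pbF t ht m).map g) ((pbα t ht m).app i) ((pbα t ht m).app j) (D.map g) := by
  have h1 := isPullback_app t ht m j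
  have h2 : IsPullback ((pbF t ht m).map g ≫ pbβ t ht m j) ((pbα t ht m).app i) m (D.map g ≫ t j) := by
    rw [pbβ_nat, ht]
    exact isPullback_app t ht m i
  exact IsPullback.of_right h2 ((pbα t ht m).naturality g) h1

/-- Functoriality in `M`. -/
noncomputable def pbMap {M' : C} (m' : M' ⟶ Z) (k : M' ⟶ M) (w : k ≫ m = m') : pbF t ht m' ⟶ pbF t ht m where
  app i := pullback.lift (pullback.fst (t i) m') (pullback.snd (t i) m' ≫ k) (by
    rw [Category.assoc, w, pullback.condition])
  naturality i j g := by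
    simp only [pbF]
    apply pullback.hom_ext <;> simp

@[reassoc]
theorem pbMap_α {M' : C} (m' : M' ⟶ Z) (k : M' ⟶ M) (w : k ≫ m = m') (i : I) :
    (pbMap t ht m m' k w).app i ≫ (pbα t ht m).app i = (pbα t ht m').app i := by
  simp only [pbMap, pbα]
  exact pullback.lift_fst _ _ _

@[reassoc]
theorem pbMap_β {M' : C} (m' : M' ⟶ Z) (k : M' ⟶ M) (w : k ≫ m = m') (i : I) :
    (pbMap t ht m m' k w).app i ≫ pbβ t ht m i = pbβ t ht m' i ≫ k := by
  simp only [pbMap, pbβ]
  exact pullback.lift_snd _ _ _

@[reassoc]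
theorem pb_w (i : I) : pbβ t ht m i ≫ m = (pbα t ht m).app i ≫ t i := (isPullback_app t ht m i).w

theorem pb_ext {i : I} {T : C} {x y : T ⟶ (pbF t ht m).obj i}
    (h₁ : x ≫ (pbα t ht m).app i = y ≫ (pbα t ht m).app i)
    (h₂ : x ≫ pbβ t ht m i = y ≫ pbβ t ht m i) : x = y :=
  (isPullback_app t ht m i).hom_ext h₂ h₁

end K642.PbFun
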