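import Groth.Agent.AlgSp.K642.Charts2
import Groth.Agent.AlgSp.K642.PbFun
import Groth.Agent.AlgSp.K642.Cube
import Groth.Agent.AlgSp.K642.EtCancel
import Groth.Agent.AlgSp.K609.Points
import Groth.Agent.AlgSp.K610.Factor
import Groth.Agent.S10211
/-!
Cartesian systems over a cocone of algebraic spaces over `B`.
-/

universe w v u

open CategoryTheory CategoryTheory.Limits AlgebraicGeometry Opposite AlgSp
open K642.Pb K642.PbFun K642.Charts K642.EtCov K642.Glue

set_option backward.isDefEq.respectTransparency false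

namespace K642.ColimEt

attribute [local instance] K642.Pb.closedUnderPullbacks K642.Pb.hasPullbacks K642.Pb.preserves_ι

variable {S : Scheme.{u}} {B : AlgSp.Space S}

theorem sq_forget {A X Y W : Over B} {fst : A ⟶ X} {snd : A ⟶ Y} {f : X ⟶ W} {g : Y ⟶ W}
    (h : IsPullback fst snd f g) : IsPullback fst.left.hom snd.left.hom f.left.hom g.left.hom :=
  isPullback_over_iff.2 h

theorem et_of_pb {A X Y W : Over B} {fst : A ⟶ X} {snd : A ⟶ Y} {f : X ⟶ W} {g : Y ⟶ W}
    (h : IsPullback fst snd f g) (hf : IsEtaleMor f.left.hom) : IsEtaleMor snd.left.hom :=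
  isEtaleMor_of_isPullback X.left.property Y.left.property.diag (sq_forget h) hf

theorem et_comp {X Y Z : Over B} {f : X ⟶ Y} {g : Y ⟶ Z} (hf : IsEtaleMor f.left.hom) (hg : IsEtaleMor g.left.hom) :
    IsEtaleMor (f ≫ g).left.hom := isEtaleMor_comp hf hg

theorem et_id (X : Over B) : IsEtaleMor (𝟙 X : X ⟶ X).left.hom := fun _ φ hφ => by
  change RepWith @Etale (φ ≫ 𝟙 _)
  rwa [Category.comp_id]

variable {I : Type v} [Category.{w} I] {D : I ⥤ Over B} {c : Cocone D}

/-- A cartesian system: `E i = D i ×_{c.pt} U`, with `U → c.pt` étale. -/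
structure Cart {U : Over B} (u : U ⟶ c.pt) {E : I ⥤ Over B} (α : E ⟶ D) (e : ∀ i, E.obj i ⟶ U) : Prop where
  et : IsEtaleMor u.left.hom
  nat : ∀ ⦃i j : I⦄ (g : i ⟶ j), E.map g ≫ e j = e i
  sq : ∀ i, IsPullback (e i) (α.app i) u (c.ι.app i)

/-- The cocone of a cartesian system. -/
def Cart.ι {U : Over B} {u : U ⟶ c.pt} {E : I ⥤ Over B} {α : E ⟶ D} {e : ∀ i, E.obj i ⟶ U} (h : Cart u α e) :
    E ⟶ (Functor.const I).obj U where
  app := e
  naturality i j g := (h.nat g).trans (Category.comp_id _).symm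

/-- The hypothesis `h₁'`. -/
def FF (c : Cocone D) : Prop :=
  ∀ (U U' : Over B) (u : U ⟶ c.pt) (u' : U' ⟶ c.pt), AlgSp.IsEtaleMor u.left.hom → AlgSp.IsEtaleMor u'.left.hom →
      ∀ (DU DU' : I ⥤ Over B) (αU : DU ⟶ D) (αU' : DU' ⟶ D) (ιU : DU ⟶ (Functor.const I).obj U)
        (ιU' : DU' ⟶ (Functor.const I).obj U'),
        (∀ i, IsPullback (ιU.app i).left.hom (αU.app i).left.hom u.left.hom (c.ι.app i).left.hom) →
        (∀ i, IsPullback (ιU'.app i).left.hom (αU'.app i).left.hom u'.left.hom (c.ι.app i).left.hom) →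
        ∀ (β : DU ⟶ DU'), β ≫ αU' = αU →
          ∃! m : U ⟶ U', m ≫ u' = u ∧ ∀ i, ιU.app i ≫ m = β.app i ≫ ιU'.app i

/-- The hypothesis `h₁`. -/
def ES (c : Cocone D) : Prop :=
  ∀ (D' : I ⥤ Over B) (α : D' ⟶ D),
      (∀ ⦃i j : I⦄ (g : i ⟶ j), IsPullback (D'.map g).left.hom (α.app i).left.hom (α.app j).left.hom (D.map g).left.hom) →
      (∀ i, AlgSp.IsEtaleMor (α.app i).left.hom) →
        ∃ (c' : Cocone D') (a : c'.pt ⟶ c.pt), AlgSp.IsEtaleMor a.left.hom ∧
          ∀ i, IsPullback (c'.ι.app i).left.hom (α.app i).left.hom a.left.hom (c.ι.app i).left.hom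

theorem FF.ff (hff : FF c) {U U' : Over B} {u : U ⟶ c.pt} {u' : U' ⟶ c.pt} {E E' : I ⥤ Over B} {α : E ⟶ D}
    {α' : E' ⟶ D} {e : ∀ i, E.obj i ⟶ U} {e' : ∀ i, E'.obj i ⟶ U'} (h : Cart u α e) (h' : Cart u' α' e')
    (β : E ⟶ E') (hβ : ∀ i, β.app i ≫ α'.app i = α.app i) :
    ∃! m : U ⟶ U', m ≫ u' = u ∧ ∀ i, e i ≫ m = β.app i ≫ e' i :=
  hff U U' u u' h.et h'.et E E' α α' h.ι h'.ι (fun i => sq_forget (h.sq i)) (fun i => sq_forget (h'.sq i)) β
    (by ext i : 2; exact hβ i)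

/-- The restriction of a cartesian system along an étale `V → U`. -/
theorem Cart.restrict {U V : Over B} {u : U ⟶ c.pt} {E : I ⥤ Over B} {α : E ⟶ D} {e : ∀ i, E.obj i ⟶ U}
    (h : Cart u α e) (k : V ⟶ U) (hk : IsEtaleMor k.left.hom) :
    Cart (k ≫ u) (pbα e h.nat k ≫ α) (pbβ e h.nat k) where
  et := et_comp hk h.et
  nat i j g := pbβ_nat e h.nat k g
  sq i := by
    have h1 := isPullback_app e h.nat k i
    exact (h1.flip.paste_horiz (h.sq i).flip).flip

theorem cnat (c : Cocone D) : ∀ ⦃i j : I⦄ (g : i ⟶ j), D.map g ≫ c.ι.app j = c.ι.app i := fun _ _ g => c.w g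

/-- The cartesian system of an étale `U → c.pt`. -/
theorem cart_of_et {U : Over B} (u : U ⟶ c.pt) (hu : IsEtaleMor u.left.hom) :
    Cart u (pbα (fun i => c.ι.app i) (cnat c) u) (pbβ (fun i => c.ι.app i) (cnat c) u) where
  et := hu
  nat i j g := pbβ_nat _ _ u g
  sq i := isPullback_app _ _ u i

/-- The structure morphism of an object over `B`, as a morphism in `Over B`. -/
def τ (X : Over B) : X ⟶ Over.mk (𝟙 B) := Over.homMk X.hom (Category.comp_id _)

theorem τ_uniq {X : Over B} (f g : X ⟶ Over.mk (𝟙 B)) : f = g := by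
  apply Over.OverMorphism.ext
  have h1 := Over.w f
  have h2 := Over.w g
  exact ((Category.comp_id _).symm.trans h1).trans (h2.symm.trans (Category.comp_id _))

/-- (P1) Maps from `U` to an object étale over `B` are compatible families of maps from the `E i`. -/
theorem FF.etale_over_base (hff : FF c) {U : Over B} {u : U ⟶ c.pt} {E : I ⥤ Over B} {α : E ⟶ D}
    {e : ∀ i, E.obj i ⟶ U} (h : Cart u α e) {T : Over B} (hT : IsEtaleMor T.hom.hom) (x : ∀ i, E.obj i ⟶ T)
    (hx : ∀ ⦃i j : I⦄ (g : i ⟶ j), E.map g ≫ x j = x i) : ∃! w : U ⟶ T, ∀ i, e i ≫ w = x i := by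
  have hQ := IsPullback.of_hasPullback (τ T) (τ c.pt)
  have hQe : IsEtaleMor (pullback.snd (τ T) (τ c.pt)).left.hom := et_of_pb hQ hT
  have h' := cart_of_et (pullback.snd (τ T) (τ c.pt)) hQe
  set ee := pbβ (fun i => c.ι.app i) (cnat c) (pullback.snd (τ T) (τ c.pt)) with hee
  set αα := pbα (fun i => c.ι.app i) (cnat c) (pullback.snd (τ T) (τ c.pt)) with hαα
  let y : ∀ i, E.obj i ⟶ pullback (τ T) (τ c.pt) := fun i => hQ.lift (x i) (α.app i ≫ c.ι.app i) (τ_uniq _ _)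
  have hy₁ : ∀ i, y i ≫ pullback.fst _ _ = x i := fun i => hQ.lift_fst _ _ _
  have hy₂ : ∀ i, y i ≫ pullback.snd _ _ = α.app i ≫ c.ι.app i := fun i => hQ.lift_snd _ _ _
  let β : E ⟶ pbF (fun i => c.ι.app i) (cnat c) (pullback.snd (τ T) (τ c.pt)) :=
    { app := fun i => (h'.sq i).lift (y i) (α.app i) (hy₂ i)
      naturality := fun i j g => by
        apply (h'.sq j).hom_ext
        · rw [Category.assoc, (h'.sq j).lift_fst, Category.assoc, h'.nat g, (h'.sq i).lift_fst]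
          apply hQ.hom_ext
          · rw [Category.assoc, hy₁, hy₁, hx]
          · rw [Category.assoc, hy₂, hy₂, ← Category.assoc, α.naturality g, Category.assoc, c.w g]
        · rw [Category.assoc, (h'.sq j).lift_snd, Category.assoc, αα.naturality g, ← Category.assoc,
            (h'.sq i).lift_snd, α.naturality g] }
  have hβ₁ : ∀ i, β.app i ≫ ee i = y i := fun i => (h'.sq i).lift_fst _ _ _
  have hβ₂ : ∀ i, β.app i ≫ αα.app i = α.app i := fun i => (h'.sq i).lift_snd _ _ _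
  obtain ⟨m, ⟨hm, hm'⟩, huniq⟩ := hff.ff h h' β hβ₂
  refine ⟨m ≫ pullback.fst _ _, fun i => ?_, fun w hw => ?_⟩
  · rw [← Category.assoc, hm', hβ₁, hy₁]
  · have := huniq (hQ.lift w u (τ_uniq _ _)) ⟨hQ.lift_snd _ _ _, fun i => by
      rw [hβ₁]
      apply hQ.hom_ext
      · rw [Category.assoc, hQ.lift_fst, hw, hy₁]
      · rw [Category.assoc, hQ.lift_snd, hy₂, (h.sq i).w]⟩
    rw [← this, hQ.lift_fst]

/-- A scheme over `S` with a morphism to `B`, as an object over `B`. -/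
noncomputable abbrev ov {V : Over S} (b : (yon S).obj V ⟶ B.obj) : Over B :=
  Over.mk (Y := (ofScheme S).obj V) (ObjectProperty.homMk b)

/-- A morphism between such objects. -/
noncomputable abbrev ovMap {V W : Over S} (z : V ⟶ W) (b : (yon S).obj W ⟶ B.obj) : ov ((yon S).map z ≫ b) ⟶ ov b :=
  Over.homMk (ObjectProperty.homMk ((yon S).map z)) rfl

/-- The hypothesis `h₂`. -/
def AF (c : Cocone D) : Prop :=
  ∀ (B' Zs Us : Over S) (b : (AlgSp.yon S).obj B' ⟶ B.obj) (z : Zs ⟶ B') {XB : AlgSp.Space S}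
      (x₁ : XB ⟶ c.pt.left) (x₂ : XB.obj ⟶ (AlgSp.yon S).obj B') (uu : (AlgSp.yon S).obj Us ⟶ XB.obj)
      (DU : I ⥤ AlgSp.Space S) (αU : DU ⟶ D ⋙ Over.forget B)
      (ιU : DU ⟶ (Functor.const I).obj ((AlgSp.ofScheme S).obj Us))
      (φ : DU ⟶ (Functor.const I).obj ((AlgSp.ofScheme S).obj Zs)),
      IsAffine B'.left → IsAffine Zs.left → IsAffine Us.left → AlgSp.RepWith @Etale b →
      IsPullback x₁.hom x₂ c.pt.hom.hom b → AlgSp.RepWith @Etale uu →
      (∀ i, IsPullback (ιU.app i).hom (αU.app i).hom (uu ≫ x₁.hom) (c.ι.app i).left.hom) →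
      (∀ i, (φ.app i).hom ≫ (AlgSp.yon S).map z = (ιU.app i).hom ≫ uu ≫ x₂) →
        ∃! fz : Us ⟶ Zs, (AlgSp.yon S).map fz ≫ (AlgSp.yon S).map z = uu ≫ x₂ ∧
          ∀ i, (ιU.app i).hom ≫ (AlgSp.yon S).map fz = (φ.app i).hom

/-- (C1) The affine case on an affine étale chart `V` of `U`. -/
theorem AF.chart (haf : AF c) {U : Over B} {u : U ⟶ c.pt} {E : I ⥤ Over B} {α : E ⟶ D}
    {e : ∀ i, E.obj i ⟶ U} (h : Cart u α e) {B' Zs V : Over S} {b : (yon S).obj B' ⟶ B.obj} (z : Zs ⟶ B')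
    (hB : IsAffine B'.left) (hZ : IsAffine Zs.left) (hV : IsAffine V.left) (hb : RepWith @Etale b)
    (v : (yon S).obj V ⟶ U.left.obj) (hv : RepWith @Etale v) (w : U ⟶ ov b)
    (x : ∀ i, E.obj i ⟶ ov ((yon S).map z ≫ b))
    (hx : ∀ ⦃i j : I⦄ (g : i ⟶ j), E.map g ≫ x j = x i) (hxw : ∀ i, x i ≫ ovMap z b = e i ≫ w) :
    ∃! f : V ⟶ Zs, (yon S).map f ≫ (yon S).map z = v ≫ w.left.hom ∧
      ∀ (i : I) (T : Over S) (p : (yon S).obj T ⟶ (E.obj i).left.obj) (q : T ⟶ V),
        p ≫ (e i).left.hom = (yon S).map q ≫ v → (yon S).map q ≫ (yon S).map f = p ≫ (x i).left.hom := by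
  -- the fibre product `c.pt ×_B B'`
  have hQ := (IsPullback.of_hasPullback (C := Space S) c.pt.hom (ov b).hom)
  have hQ' := isPullback_iff.2 hQ
  have hw : u.left ≫ c.pt.hom = w.left ≫ (ov b).hom := by
    rw [Over.w u]; exact (Over.w w).symm
  let l : U.left ⟶ pullback c.pt.hom (ov b).hom := hQ.lift u.left w.left hw
  have hl₁ : l ≫ pullback.fst _ _ = u.left := hQ.lift_fst _ _ _
  have hl₂ : l ≫ pullback.snd _ _ = w.left := hQ.lift_snd _ _ _
  let uu : (yon S).obj V ⟶ (pullback c.pt.hom (ov b).hom).obj := v ≫ l.hom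
  have huu₁ : uu ≫ (pullback.fst c.pt.hom (ov b).hom).hom = v ≫ u.left.hom := by
    rw [Category.assoc]; exact congrArg (fun k => v ≫ k.hom) hl₁
  have huu₂ : uu ≫ (pullback.snd c.pt.hom (ov b).hom).hom = v ≫ w.left.hom := by
    rw [Category.assoc]; exact congrArg (fun k => v ≫ k.hom) hl₂
  have hfst : IsEtaleMor (pullback.fst c.pt.hom (ov b).hom).hom :=
    isEtaleMor_of_isPullback (ov b).left.property c.pt.left.property.diag hQ'.flip (isEtaleMor_of_repWith hb)
  have huu : RepWith @Etale uu := K642.EtCancel.repWith_of_comp_isEtaleMor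
    (pullback c.pt.hom (ov b).hom).property uu hfst (by rw [huu₁]; exact h.et v hv)
  let v' : (ofScheme S).obj V ⟶ U.left := ObjectProperty.homMk v
  let te : ∀ i, (E ⋙ Over.forget B).obj i ⟶ U.left := fun i => (e i).left
  have enat : ∀ ⦃i j : I⦄ (g : i ⟶ j), (E ⋙ Over.forget B).map g ≫ te j = te i :=
    fun i j g => congrArg (fun k => k.left) (h.nat g)
  let DU := pbF te enat v'
  let αU : DU ⟶ D ⋙ Over.forget B := pbα te enat v' ≫ Functor.whiskerRight α (Over.forget B)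
  let ιU : DU ⟶ (Functor.const I).obj ((ofScheme S).obj V) :=
    { app := fun i => pbβ te enat v' i
      naturality := fun i j g => (pbβ_nat te enat v' g).trans (Category.comp_id _).symm }
  let φ : DU ⟶ (Functor.const I).obj ((ofScheme S).obj Zs) :=
    { app := fun i => (pbα te enat v').app i ≫ (x i).left
      naturality := fun i j g => by
        rw [← Category.assoc, (pbα te enat v').naturality g, Category.assoc]
        have : (E ⋙ Over.forget B).map g ≫ (x j).left = (x i).left := congrArg (fun k => k.left) (hx g)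
        rw [this]
        exact (Category.comp_id _).symm }
  have hsq : ∀ i, IsPullback (pbβ te enat v' i).hom ((pbα te enat v').app i).hom v (e i).left.hom :=
    fun i => isPullback_iff.2 (isPullback_app te enat v' i)
  have hsq' : ∀ i, IsPullback (ιU.app i).hom (αU.app i).hom (uu ≫ (pullback.fst c.pt.hom (ov b).hom).hom)
      (c.ι.app i).left.hom := fun i => by
    rw [huu₁]
    exact ((hsq i).flip.paste_horiz (sq_forget (h.sq i)).flip).flip
  have hφ : ∀ i, (φ.app i).hom ≫ (yon S).map z = (ιU.app i).hom ≫ uu ≫ (pullback.snd c.pt.hom (ov b).hom).hom := by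
    intro i
    rw [huu₂]
    have h1 : (x i).left.hom ≫ (yon S).map z = (e i).left.hom ≫ w.left.hom :=
      congrArg (fun k => k.left.hom) (hxw i)
    change (((pbα te enat v').app i).hom ≫ (x i).left.hom) ≫ (yon S).map z = (pbβ te enat v' i).hom ≫ v ≫ w.left.hom
    rw [Category.assoc, h1, ← Category.assoc, ← Category.assoc, (hsq i).w]
  obtain ⟨f, ⟨hf, hf'⟩, huniq⟩ := haf B' Zs V b z (pullback.fst c.pt.hom (ov b).hom)
    (pullback.snd c.pt.hom (ov b).hom).hom uu DU αU ιU φ hB hZ hV hb hQ' huu hsq' hφ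
  have key : ∀ f : V ⟶ Zs, (∀ i, (ιU.app i).hom ≫ (yon S).map f = (φ.app i).hom) ↔
      ∀ (i : I) (T : Over S) (p : (yon S).obj T ⟶ (E.obj i).left.obj) (q : T ⟶ V),
        p ≫ (e i).left.hom = (yon S).map q ≫ v → (yon S).map q ≫ (yon S).map f = p ≫ (x i).left.hom := by
    intro f
    constructor
    · intro hf i T p q hpq
      obtain ⟨r, hr₁, hr₂⟩ : ∃ r : (yon S).obj T ⟶ (DU.obj i).obj,
          r ≫ (ιU.app i).hom = (yon S).map q ∧ r ≫ ((pbα te enat v').app i).hom = p :=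
        ⟨(hsq i).lift _ _ hpq.symm, (hsq i).lift_fst _ _ _, (hsq i).lift_snd _ _ _⟩
      rw [← hr₁, Category.assoc, hf i, ← hr₂, Category.assoc]
      rfl
    · intro hf i
      refine K613.Basic.hom_ext fun T y => ?_
      obtain ⟨q, hq⟩ := (yon S).map_surjective (y ≫ (ιU.app i).hom)
      have := hf i T (y ≫ ((pbα te enat v').app i).hom) q (by
        rw [hq, Category.assoc, Category.assoc, ← (hsq i).w])
      rw [hq, Category.assoc, Category.assoc] at this
      exact this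
  refine ⟨f, ⟨hf.trans huu₂, (key f).1 hf'⟩, fun g hg => huniq g ⟨hg.1.trans huu₂.symm, (key g).2 hg.2⟩⟩

/-- (P2) Maps from `U` to an affine `Zs → B' → B`, with `B' → B` étale and `B'` affine, are compatible families of
maps from the `E i`. -/
theorem existsUnique_to_affine (hff : FF c) (haf : AF c) {U : Over B} {u : U ⟶ c.pt} {E : I ⥤ Over B} {α : E ⟶ D}
    {e : ∀ i, E.obj i ⟶ U} (h : Cart u α e) {B' Zs : Over S} {b : (yon S).obj B' ⟶ B.obj} (z : Zs ⟶ B')
    (hB : IsAffine B'.left) (hZ : IsAffine Zs.left) (hb : RepWith @Etale b)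
    (x : ∀ i, E.obj i ⟶ ov ((yon S).map z ≫ b)) (hx : ∀ ⦃i j : I⦄ (g : i ⟶ j), E.map g ≫ x j = x i) :
    ∃! r : U ⟶ ov ((yon S).map z ≫ b), ∀ i, e i ≫ r = x i := by
  obtain ⟨w, hw, hwu⟩ := hff.etale_over_base h (T := ov b) (isEtaleMor_of_repWith hb) (fun i => x i ≫ ovMap z b)
    (fun i j g => by rw [← Category.assoc, hx])
  obtain ⟨ι, V, v, hV, hv, hvs⟩ := exists_affine_charts U.left.obj U.left.property
  have hJ : JLS (J := AlgSp.J S) (fun l => (yon S).obj (V l)) v := jls_of_repWith_etale v hv hvs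
  choose f hf hfu using fun l => haf.chart h z hB hZ (hV l) hb (v l) (hv l) w x hx (fun i => (hw i).symm)
  -- compatibility
  obtain ⟨r, hr⟩ := hJ.exists_hom (G := (yon S).obj Zs) (fun l => (yon S).map (f l)) (by
    intro l k T a₁ a₂ hab
    obtain ⟨a₁⟩ := a₁
    obtain ⟨a₂⟩ := a₂
    -- morphisms `T ⟶ V l`, `T ⟶ V k` with the same composite to `U`
    have hT : (yon S).map a₁ ≫ v l = (yon S).map a₂ ≫ v k := by
      rw [← ofSec_id ((yon S).map a₁ ≫ v l), ← ofSec_id ((yon S).map a₂ ≫ v k)]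
      congr 1
    obtain ⟨W, p₂, p₁, sqW⟩ := (hv l).1 (v k)
    obtain ⟨p₁, rfl⟩ := (yon S).map_surjective p₁
    obtain ⟨c₀, hc₀⟩ := (yon S).map_surjective (sqW.lift _ _ hT)
    have e₁ : c₀ ≫ p₁ = a₁ := (yon S).map_injective (by rw [Functor.map_comp, hc₀, sqW.lift_fst])
    have e₂ : c₀ ≫ p₂ = a₂ := (yon S).map_injective (by rw [Functor.map_comp, hc₀, sqW.lift_snd])
    suffices hW : p₁ ≫ f l = p₂ ≫ f k by
      change (⟨a₁ ≫ f l⟩ : ULift _) = ⟨a₂ ≫ f k⟩
      rw [← e₁, ← e₂, Category.assoc, Category.assoc, hW]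
    apply Over.OverMorphism.ext
    refine Scheme.hom_ext_of_forall _ _ fun y => ?_
    obtain ⟨O, hO, hyO, -⟩ := exists_isAffineOpen_mem_and_subset (X := W.left) (x := y) (U := ⊤) trivial
    refine ⟨O, hyO, ?_⟩
    let j : Over.mk (O.ι ≫ W.hom) ⟶ W := Over.homMk O.ι
    have hj : RepWith @Etale ((yon S).map (j ≫ p₁) ≫ v l) := by
      refine MorphismProperty.comp_mem _ _ _ ((repWith_yon_map_iff _ _).2 ?_) (hv l)
      have : Etale p₁.left := (hv k).2 _ _ _ sqW.flip
      have : Etale j.left := show Etale O.ι from inferInstance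
      rw [Over.comp_left]
      infer_instance
    have hj' : (yon S).map (j ≫ p₁) ≫ v l = (yon S).map (j ≫ p₂) ≫ v k := by
      rw [Functor.map_comp, Functor.map_comp, Category.assoc, sqW.w, Category.assoc]
    have hO' : IsAffine (Over.mk (O.ι ≫ W.hom)).left := hO
    obtain ⟨fO, -, hfO⟩ := haf.chart h z hB hZ hO' hb _ hj w x hx (fun i => (hw i).symm)
    have h₁ : j ≫ p₁ ≫ f l = fO := hfO _ ⟨by
        rw [Functor.map_comp, Functor.map_comp, Category.assoc, Category.assoc, (hf l).1, Functor.map_comp,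
          Category.assoc, Category.assoc],
      fun i T p q hpq => by
        have := (hf l).2 i T p (q ≫ j ≫ p₁) (by rw [hpq]; simp only [Functor.map_comp, Category.assoc])
        rw [← this]
        simp only [Functor.map_comp, Category.assoc]⟩
    have h₂ : j ≫ p₂ ≫ f k = fO := hfO _ ⟨by
        rw [hj', Functor.map_comp, Functor.map_comp, Category.assoc, Category.assoc, (hf k).1, Functor.map_comp,
          Category.assoc, Category.assoc],
      fun i T p q hpq => by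
        have := (hf k).2 i T p (q ≫ j ≫ p₂) (by rw [hpq, hj']; simp only [Functor.map_comp, Category.assoc])
        rw [← this]
        simp only [Functor.map_comp, Category.assoc]⟩
    exact congrArg (fun k => k.left) (h₁.trans h₂.symm))
  have hrw : r ≫ (yon S).map z = w.left.hom := hJ.hom_ext fun l => by
    rw [← Category.assoc, hr, (hf l).1]
  let R : U ⟶ ov ((yon S).map z ≫ b) := Over.homMk (ObjectProperty.homMk r) (ObjectProperty.hom_ext _ (by
    change r ≫ (yon S).map z ≫ b = U.hom.hom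
    rw [← Category.assoc, hrw]
    exact congrArg (fun k => k.hom) (Over.w w)))
  refine ⟨R, fun i => ?_, fun R' hR' => ?_⟩
  · refine Over.OverMorphism.ext (ObjectProperty.hom_ext _ ?_)
    have hJi := hJ.baseChange (e i).left.hom (V := fun l => pullback (v l) (e i).left.hom)
      (fun l => pullback.fst _ _) (fun l => pullback.snd _ _) (fun l => IsPullback.of_hasPullback _ _)
    refine hJi.hom_ext fun l => K613.Basic.hom_ext fun T y => ?_
    change y ≫ pullback.snd (v l) (e i).left.hom ≫ (e i).left.hom ≫ r = y ≫ pullback.snd _ _ ≫ (x i).left.hom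
    obtain ⟨q, hq⟩ := (yon S).map_surjective (y ≫ pullback.fst (v l) (e i).left.hom)
    have := (hf l).2 i T (y ≫ pullback.snd (v l) (e i).left.hom) q (by
      rw [hq, Category.assoc, Category.assoc, pullback.condition])
    rw [← Category.assoc, ← Category.assoc, ← Category.assoc, ← this, Category.assoc y, ← pullback.condition,
      ← Category.assoc, ← hq, Category.assoc, hr]
  · have hR'w : R' ≫ ovMap z b = w := hwu _ (fun i => by rw [← Category.assoc, hR'])
    refine Over.OverMorphism.ext (ObjectProperty.hom_ext _ (hJ.hom_ext fun l => ?_))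
    obtain ⟨g, hg⟩ := (yon S).map_surjective (v l ≫ R'.left.hom)
    change v l ≫ R'.left.hom = v l ≫ r
    rw [hr, ← hg]
    congr 1
    refine hfu l g ⟨?_, fun i T p q hpq => ?_⟩
    · rw [hg, Category.assoc]
      exact congrArg (fun k => v l ≫ k.left.hom) hR'w
    · rw [hg, ← Category.assoc, ← hpq, Category.assoc]
      exact congrArg (fun k => p ≫ k.left.hom) (hR' i)

theorem isIso_of_open {F G : Sp S} {f : F ⟶ G} (hf : RepWith @IsOpenImmersion f)
    (hs : Function.Surjective (Points.map f)) : IsIso f := by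
  have := K610.Factor.mono_of_isOpenImmersion hf
  refine K613.Basic.isIso_of_bijective fun T y => ?_
  obtain ⟨x, hx⟩ := K610.Factor.exists_lift_open hf y (fun z _ => hs z)
  exact ⟨x, hx, fun x' hx' => by rw [← cancel_mono f, hx, hx']⟩

theorem isIso_of_left_hom {X Y : Over B} (f : X ⟶ Y) (h : IsIso f.left.hom) : IsIso f := by
  have h1 : IsIso ((ObjectProperty.ι (IsAlgSpace (S := S))).map f.left) := h
  have h2 : IsIso f.left := isIso_of_reflects_iso f.left (ObjectProperty.ι (IsAlgSpace (S := S)))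
  have h3 : IsIso ((Over.forget B).map f) := h2
  exact isIso_of_reflects_iso f (Over.forget B)

/-- (P3) A family of étale maps to `W` (étale over `c.pt`) is jointly surjective if it is so after base change to
the members of the system. -/
theorem surj_of_cover (hff : FF c) {W : Over B} {w : W ⟶ c.pt} {E : I ⥤ Over B} {α : E ⟶ D}
    {e : ∀ i, E.obj i ⟶ W} (h : Cart w α e) {ι : Type*} {U : ι → Over B} (k : ∀ l, U l ⟶ W)
    (hk : ∀ l, IsEtaleMor (k l).left.hom)
    (hs : ∀ i (y : Points (E.obj i).left.obj), ∃ l, Points.map (e i).left.hom y ∈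
      Set.range (Points.map (k l).left.hom)) (x : Points W.left.obj) :
    ∃ l, x ∈ Set.range (Points.map (k l).left.hom) := by
  let O : Set (Points W.left.obj) := ⋃ l, Set.range (Points.map (k l).left.hom)
  have hO : IsOpen O := isOpen_iUnion fun l => (Groth.Agent.S10211.result (k l).left (hk l)).isOpen_range
  obtain ⟨X', j, hj, hr⟩ := K610.Sub.exists_open_subspace W.left O hO
  let W' : Over B := Over.mk (j ≫ W.hom)
  let jj : W' ⟶ W := Over.homMk j rfl
  have hje : RepWith @Etale jj.left.hom := repWith_mono (P := @IsOpenImmersion) (Q := @Etale) (fun _ _ f hf => by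
    have : IsOpenImmersion f := hf
    change Etale f
    infer_instance) hj
  have h' := h.restrict jj (isEtaleMor_of_repWith hje)
  have hiso : ∀ i, IsIso ((pbα e h.nat jj).app i) := fun i => by
    have sq := sq_forget (isPullback_app e h.nat jj i)
    refine isIso_of_left_hom _ (isIso_of_open (MorphismProperty.of_isPullback sq hj) fun y => ?_)
    have : Points.map (e i).left.hom y ∈ Set.range (Points.map jj.left.hom) := by
      change _ ∈ Set.range (Points.map j.hom)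
      rw [hr]
      exact Set.mem_iUnion.2 (hs i y)
    obtain ⟨z, hz⟩ := this
    obtain ⟨q, -, hq⟩ := K609.Points.exists_of_isPullback sq z y hz
    exact ⟨q, hq⟩
  have : IsIso (pbα e h.nat jj) := NatIso.isIso_of_isIso_app _
  obtain ⟨m, ⟨hm, hm'⟩, -⟩ := hff.ff h h' (inv (pbα e h.nat jj)) (fun i => by
    rw [← NatTrans.comp_app, IsIso.inv_hom_id_assoc])
  obtain ⟨m₀, -, hm₀⟩ := hff.ff h h (𝟙 _) (fun i => by simp)
  have e₁ : m ≫ jj = 𝟙 W := by
    rw [hm₀ (m ≫ jj) ⟨by rw [Category.assoc, hm], fun i => ?_⟩, hm₀ (𝟙 W) ⟨Category.id_comp _, fun i => by simp⟩]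
    rw [← Category.assoc, hm', Category.assoc, pb_w, ← Category.assoc, ← NatTrans.comp_app, IsIso.inv_hom_id]
  have e₂ : Points.map jj.left.hom (Points.map m.left.hom x) = x := by
    rw [← Points.map_comp]
    have : m.left.hom ≫ jj.left.hom = 𝟙 _ := congrArg (fun k => k.left.hom) e₁
    rw [this, Points.map_id]
  have : x ∈ O := by
    rw [← hr]
    exact ⟨_, e₂⟩
  exact Set.mem_iUnion.1 this

theorem exists_cart (hes : ES c) {Z M : Over B} (t : ∀ i, D.obj i ⟶ Z)
    (ht : ∀ ⦃i j : I⦄ (g : i ⟶ j), D.map g ≫ t j = t i) (m : M ⟶ Z) (hm : IsEtaleMor m.left.hom) :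
    ∃ (U : Over B) (u : U ⟶ c.pt) (e : ∀ i, (pbF t ht m).obj i ⟶ U), Cart u (pbα t ht m) e := by
  obtain ⟨c', a, h1, h2⟩ := hes (pbF t ht m) (pbα t ht m) (fun i j g => sq_forget (isPullback_map t ht m g))
    (fun i => et_of_pb (isPullback_app t ht m i) hm)
  exact ⟨c'.pt, a, fun i => c'.ι.app i, h1, fun i j g => c'.w g, fun i => isPullback_over_iff.1 (h2 i)⟩

theorem exists_cart_prod {Z : Over B} (t : ∀ i, D.obj i ⟶ Z)
    (ht : ∀ ⦃i j : I⦄ (g : i ⟶ j), D.map g ≫ t j = t i) {M₁ M₂ N : Over B} {m₁ : M₁ ⟶ Z} {m₂ : M₂ ⟶ Z}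
    {n₁ : N ⟶ M₁} {n₂ : N ⟶ M₂}
    (hN : IsPullback n₁ n₂ m₁ m₂) {U₁ U₂ W : Over B} {a₁ : U₁ ⟶ c.pt} {a₂ : U₂ ⟶ c.pt}
    {b₁ : ∀ i, (pbF t ht m₁).obj i ⟶ U₁} {b₂ : ∀ i, (pbF t ht m₂).obj i ⟶ U₂} (h₁ : Cart a₁ (pbα t ht m₁) b₁)
    (h₂ : Cart a₂ (pbα t ht m₂) b₂) {f₁ : W ⟶ U₁} {f₂ : W ⟶ U₂} (hW : IsPullback f₁ f₂ a₁ a₂) :
    ∃ b : ∀ i, (pbF t ht (n₁ ≫ m₁)).obj i ⟶ W,
      Cart (f₁ ≫ a₁) (pbα t ht (n₁ ≫ m₁)) b ∧ (∀ i, b i ≫ f₁ = (pbMap t ht m₁ (n₁ ≫ m₁) n₁ rfl).app i ≫ b₁ i) ∧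
        ∀ i, b i ≫ f₂ = (pbMap t ht m₂ (n₁ ≫ m₁) n₂ hN.w.symm).app i ≫ b₂ i := by
  let k₁ := pbMap t ht m₁ (n₁ ≫ m₁) n₁ rfl
  let k₂ := pbMap t ht m₂ (n₁ ≫ m₁) n₂ hN.w.symm
  have hk₁α : ∀ i, k₁.app i ≫ (pbα t ht m₁).app i = (pbα t ht (n₁ ≫ m₁)).app i := fun i => pbMap_α t ht _ _ _ _ i
  have hk₂α : ∀ i, k₂.app i ≫ (pbα t ht m₂).app i = (pbα t ht (n₁ ≫ m₁)).app i := fun i => pbMap_α t ht _ _ _ _ i
  have hk₁β : ∀ i, k₁.app i ≫ pbβ t ht m₁ i = pbβ t ht (n₁ ≫ m₁) i ≫ n₁ := fun i => pbMap_β t ht _ _ _ _ i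
  have hk₂β : ∀ i, k₂.app i ≫ pbβ t ht m₂ i = pbβ t ht (n₁ ≫ m₁) i ≫ n₂ := fun i => pbMap_β t ht _ _ _ _ i
  have hw : ∀ i, (k₁.app i ≫ b₁ i) ≫ a₁ = (k₂.app i ≫ b₂ i) ≫ a₂ := fun i => by
    rw [Category.assoc, (h₁.sq i).w, ← Category.assoc, hk₁α, Category.assoc, (h₂.sq i).w, ← Category.assoc, hk₂α]
  let b : ∀ i, (pbF t ht (n₁ ≫ m₁)).obj i ⟶ W := fun i => hW.lift (k₁.app i ≫ b₁ i) (k₂.app i ≫ b₂ i) (hw i)
  have hb₁ : ∀ i, b i ≫ f₁ = k₁.app i ≫ b₁ i := fun i => hW.lift_fst _ _ _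
  have hb₂ : ∀ i, b i ≫ f₂ = k₂.app i ≫ b₂ i := fun i => hW.lift_snd _ _ _
  refine ⟨b, ⟨?_, ?_, ?_⟩, hb₁, hb₂⟩
  · exact et_comp (et_of_pb hW.flip h₂.et) h₁.et
  · intro i j g
    apply hW.hom_ext
    · rw [Category.assoc, hb₁, hb₁, ← Category.assoc, k₁.naturality g, Category.assoc, h₁.nat g]
    · rw [Category.assoc, hb₂, hb₂, ← Category.assoc, k₂.naturality g, Category.assoc, h₂.nat g]
  · intro i
    exact K642.Cube.isPullback_cube hN (isPullback_app t ht m₁ i) (isPullback_app t ht m₂ i) rfl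
      (isPullback_app t ht (n₁ ≫ m₁) i) (hk₁α i) (hk₂α i) (hk₁β i) (hk₂β i) (h₁.sq i) (h₂.sq i) hW (hb₁ i) (hb₂ i)

/-- The square comparing the pullbacks along `M' → M → Z`. -/
theorem isPullback_pbMap {Z : Over B} (t : ∀ i, D.obj i ⟶ Z)
    (ht : ∀ ⦃i j : I⦄ (g : i ⟶ j), D.map g ≫ t j = t i) {M M' : Over B} (m : M ⟶ Z) (m' : M' ⟶ Z) (k : M' ⟶ M)
    (w : k ≫ m = m') (i : I) :
    IsPullback (pbβ t ht m' i) ((pbMap t ht m m' k w).app i) k (pbβ t ht m i) := by
  subst w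
  refine IsPullback.of_bot ?_ (pbMap_β t ht _ _ _ _ i).symm (isPullback_app t ht m i)
  rw [pbMap_α]
  exact isPullback_app t ht _ i

end K642.ColimEt
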