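import Groth.Prelude.Def_RelProj
import Groth.Agent.CalgB.ProjImm2
import Groth.Agent.Coherent.K49.AmpleCoprod
import Groth.Agent.Ega2.AmpleUnit
import Groth.Agent.Lefpen.H726.ProjGeo
import Groth.Agent.Fdesc.LocGenPullback
import Groth.Agent.S1616

/-!
# H-quasi-projective morphisms to an affine base: disjoint unions
-/

set_option autoImplicit false
universe u
open CategoryTheory CategoryTheory.Limits AlgebraicGeometry Opposite

namespace K642.HQProj

open CohB1

theorem exists_isAmple_of_isAffine (S : Scheme.{u}) [IsAffine S] : ∃ N : S.Modules, CohB1.IsAmple N :=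
  ⟨_, Groth.Agent.Ega2.Weight.isAmple_structureModule S⟩

theorem isSeparated {X Y : Scheme.{u}} {f : X ⟶ Y} (h : RelProj.IsHQuasiProjective f) : IsSeparated f := by
  obtain ⟨n, i, hi, hi', rfl⟩ := h
  infer_instance

theorem locallyOfFiniteType {X Y : Scheme.{u}} {f : X ⟶ Y} (h : RelProj.IsHQuasiProjective f) :
    LocallyOfFiniteType f := by
  obtain ⟨n, i, hi, hi', rfl⟩ := h
  infer_instance

/-- Two H-quasi-projective schemes are immersed in the same projective space. -/
theorem exists_common {S T₁ T₂ : Scheme.{u}} {f₁ : T₁ ⟶ S} {f₂ : T₂ ⟶ S} (h₁ : RelProj.IsHQuasiProjective f₁)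
    (h₂ : RelProj.IsHQuasiProjective f₂) :
    ∃ (N : ℕ) (j₁ : T₁ ⟶ ProjSpaceOver N S) (j₂ : T₂ ⟶ ProjSpaceOver N S), IsImmersion j₁ ∧ IsImmersion j₂ ∧
      QuasiCompact j₁ ∧ QuasiCompact j₂ ∧ j₁ ≫ ProjSpaceOver.toBase N S = f₁ ∧ j₂ ≫ ProjSpaceOver.toBase N S = f₂ := by
  obtain ⟨n, i₁, hi₁, hq₁, e₁⟩ := h₁
  obtain ⟨m, i₂, hi₂, hq₂, e₂⟩ := h₂
  obtain ⟨s₁, hs₁⟩ := Groth.Agent.Lefpen.H726.ProjGeo.exists_section S n
  obtain ⟨s₂, hs₂⟩ := Groth.Agent.Lefpen.H726.ProjGeo.exists_section S m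
  obtain ⟨s, hs, hs'⟩ := Groth.Agent.S1616.result S n m
  let k₁ : T₁ ⟶ pullback (ProjSpaceOver.toBase n S) (ProjSpaceOver.toBase m S) :=
    pullback.lift i₁ (f₁ ≫ s₂) (by rw [e₁, Category.assoc, hs₂, Category.comp_id])
  let k₂ : T₂ ⟶ pullback (ProjSpaceOver.toBase n S) (ProjSpaceOver.toBase m S) :=
    pullback.lift (f₂ ≫ s₁) i₂ (by rw [e₂, Category.assoc, hs₁, Category.comp_id])
  have a₁ : IsImmersion (k₁ ≫ pullback.fst _ _) := by rw [pullback.lift_fst]; exact hi₁
  have a₂ : IsImmersion (k₂ ≫ pullback.snd _ _) := by rw [pullback.lift_snd]; exact hi₂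
  have b₁ : QuasiCompact (k₁ ≫ pullback.fst _ _) := by rw [pullback.lift_fst]; exact hq₁
  have b₂ : QuasiCompact (k₂ ≫ pullback.snd _ _) := by rw [pullback.lift_snd]; exact hq₂
  have c₁ : IsImmersion k₁ := IsImmersion.of_comp _ (pullback.fst _ _)
  have c₂ : IsImmersion k₂ := IsImmersion.of_comp _ (pullback.snd _ _)
  have d₁ : QuasiCompact k₁ := QuasiCompact.of_comp _ (pullback.fst _ _)
  have d₂ : QuasiCompact k₂ := QuasiCompact.of_comp _ (pullback.snd _ _)
  refine ⟨_, k₁ ≫ s, k₂ ≫ s, MorphismProperty.comp_mem (W := @IsImmersion) _ _ c₁ inferInstance,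
    MorphismProperty.comp_mem (W := @IsImmersion) _ _ c₂ inferInstance, inferInstance, inferInstance, ?_, ?_⟩
  · rw [Category.assoc, hs', pullback.lift_fst_assoc, e₁]
  · rw [Category.assoc, hs', pullback.lift_fst_assoc, Category.assoc, hs₁, Category.comp_id]

/-- Disjoint unions of H-quasi-projective schemes over an affine base are H-quasi-projective. -/
theorem isHQuasiProjective_coprod {S T₁ T₂ : Scheme.{u}} [IsAffine S] {f₁ : T₁ ⟶ S} {f₂ : T₂ ⟶ S}
    (h₁ : RelProj.IsHQuasiProjective f₁) (h₂ : RelProj.IsHQuasiProjective f₂) :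
    RelProj.IsHQuasiProjective (coprod.desc f₁ f₂) := by
  have hS := exists_isAmple_of_isAffine S
  obtain ⟨N, j₁, j₂, hj₁, hj₂, hq₁, hq₂, e₁, e₂⟩ := exists_common h₁ h₂
  obtain ⟨E, hE⟩ := Groth.Agent.CalgB.AmpleProj.exists_isAmple_projSpaceOver N hS
  have hf₁ : LocallyOfFiniteType f₁ := by rw [← e₁]; infer_instance
  have hf₂ : LocallyOfFiniteType f₂ := by rw [← e₂]; infer_instance
  have hg₁ : QuasiCompact f₁ := by rw [← e₁]; infer_instance
  have hg₂ : QuasiCompact f₂ := by rw [← e₂]; infer_instance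
  have hc₁ : CompactSpace T₁ := QuasiCompact.compactSpace_of_compactSpace f₁
  have hc₂ : CompactSpace T₂ := QuasiCompact.compactSpace_of_compactSpace f₂
  let L : (T₁ ⨿ T₂ : Scheme.{u}).Modules := (Scheme.Modules.pullback (coprod.desc j₁ j₂)).obj E
  have hL : CohB1.IsAmple L := by
    let Z : Bool → Scheme.{u} := fun b => match b with | true => T₁ | false => T₂
    let F : ∀ b, Z b ⟶ T₁ ⨿ T₂ := fun b => match b with | true => coprod.inl | false => coprod.inr
    have hF : ∀ b, IsOpenImmersion (F b) := fun b => match b with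
      | true => (inferInstance : IsOpenImmersion (coprod.inl : T₁ ⟶ T₁ ⨿ T₂))
      | false => (inferInstance : IsOpenImmersion (coprod.inr : T₂ ⟶ T₁ ⨿ T₂))
    have hcompl : IsCompl (coprod.inl : T₁ ⟶ T₁ ⨿ T₂).opensRange (coprod.inr : T₂ ⟶ T₁ ⨿ T₂).opensRange :=
      isCompl_opensRange_inl_inr T₁ T₂
    refine K49.AmpleCoprod.isAmple_of_clopen_family Z F (fun x => ?_) (fun a b hab => ?_) L
      (Groth.Agent.Fdesc.LocGen.isInvertible_pullback _ hE.1) (fun b => ?_)
    · have h3 : x ∈ (coprod.inl : T₁ ⟶ T₁ ⨿ T₂).opensRange ⊔ (coprod.inr : T₂ ⟶ T₁ ⨿ T₂).opensRange := by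
        rw [hcompl.sup_eq_top]; trivial
      rcases h3 with h3 | h3
      · exact ⟨true, h3⟩
      · exact ⟨false, h3⟩
    · match a, b with
      | true, true => exact absurd rfl hab
      | false, false => exact absurd rfl hab
      | true, false => exact hcompl.disjoint
      | false, true => exact hcompl.disjoint.symm
    · match b with
      | true =>
        refine Groth.Agent.Flat2H.FamDict.isAmple_of_iso ?_
          (Groth.Agent.CalgB.AmpleBase.isAmple_pullback_of_isImmersion j₁ hE)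
        exact ((Scheme.Modules.pullbackComp (coprod.inl : T₁ ⟶ T₁ ⨿ T₂) (coprod.desc j₁ j₂)).app E ≪≫
          (Scheme.Modules.pullbackCongr (coprod.inl_desc j₁ j₂)).app E).symm
      | false =>
        refine Groth.Agent.Flat2H.FamDict.isAmple_of_iso ?_
          (Groth.Agent.CalgB.AmpleBase.isAmple_pullback_of_isImmersion j₂ hE)
        exact ((Scheme.Modules.pullbackComp (coprod.inr : T₂ ⟶ T₁ ⨿ T₂) (coprod.desc j₁ j₂)).app E ≪≫
          (Scheme.Modules.pullbackCongr (coprod.inr_desc j₁ j₂)).app E).symm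
  have hlft : LocallyOfFiniteType (coprod.desc f₁ f₂) := by
    rw [IsZariskiLocalAtSource.iff_of_openCover (P := @LocallyOfFiniteType) (coprodOpenCover.{u, 0} T₁ T₂)]
    rintro (_ | _)
    · change LocallyOfFiniteType (coprod.inl ≫ coprod.desc f₁ f₂)
      rw [coprod.inl_desc]; exact hf₁
    · change LocallyOfFiniteType (coprod.inr ≫ coprod.desc f₁ f₂)
      rw [coprod.inr_desc]; exact hf₂
  have hcs : CompactSpace (T₁ ⨿ T₂ : Scheme.{u}) := hL.2.1
  have hqc : QuasiCompact (coprod.desc f₁ f₂) := inferInstance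
  exact (Groth.Agent.CalgB.ProjImm.qc_immersion_iff hS _).2 ⟨hlft, hqc, L, hL⟩

end K642.HQProj
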