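import Mathlib.CategoryTheory.Sites.Sheaf
import Mathlib.CategoryTheory.Sites.LocallySurjective
import Mathlib.CategoryTheory.Sites.Limits
import Mathlib.CategoryTheory.Limits.Types.Pullbacks
/-!
Gluing morphisms of sheaves of sets along jointly locally surjective families.
-/

universe w v u

open CategoryTheory CategoryTheory.Limits Opposite

namespace K642.Glue

variable {C : Type u} [Category.{v} C] {J : GrothendieckTopology C}

/-- The family `p i : U i ⟶ F` of morphisms of sheaves of sets is jointly locally surjective. -/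
def JLS {ι : Type*} {F : Sheaf J (Type w)} (U : ι → Sheaf J (Type w)) (p : ∀ i, U i ⟶ F) : Prop :=
  ∀ (T : C) (x : F.obj.obj (op T)), ∃ R ∈ J T, ∀ ⦃T' : C⦄ (g : T' ⟶ T), R g →
    ∃ (i : ι) (y : (U i).obj.obj (op T')), (p i).hom.app (op T') y = F.obj.map g.op x

variable {ι : Type*} {F G : Sheaf J (Type w)} {U : ι → Sheaf J (Type w)} {p : ∀ i, U i ⟶ F}

theorem isSheaf (G : Sheaf J (Type w)) : Presieve.IsSheaf J G.obj :=
  (isSheaf_iff_isSheaf_of_type J G.obj).1 G.property

theorem sep (G : Sheaf J (Type w)) {T : C} {R : Sieve T} (hR : R ∈ J T) {a b : G.obj.obj (op T)}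
    (h : ∀ ⦃T' : C⦄ (g : T' ⟶ T), R g → G.obj.map g.op a = G.obj.map g.op b) : a = b :=
  ((isSheaf G) R hR).isSeparatedFor.ext h

/-- Two morphisms out of `F` agreeing on a jointly locally surjective family are equal. -/
theorem JLS.hom_ext (hp : JLS U p) {h h' : F ⟶ G} (e : ∀ i, p i ≫ h = p i ≫ h') : h = h' := by
  apply ObjectProperty.hom_ext
  ext T x
  obtain ⟨T⟩ := T
  obtain ⟨R, hR, H⟩ := hp T x
  refine sep G hR fun T' g hg => ?_
  obtain ⟨i, y, hy⟩ := H g hg
  have e1 := congrArg (fun k => k.hom.app (op T') y) (e i)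
  change h.hom.app _ ((p i).hom.app _ y) = h'.hom.app _ ((p i).hom.app _ y) at e1
  rw [hy, NatTrans.naturality_apply, NatTrans.naturality_apply] at e1
  exact e1

/-- Compatible morphisms out of the members of a jointly locally surjective family glue. -/
theorem JLS.exists_hom (hp : JLS U p) (g : ∀ i, U i ⟶ G)
    (w : ∀ (i j : ι) (T : C) (a : (U i).obj.obj (op T)) (b : (U j).obj.obj (op T)),
      (p i).hom.app _ a = (p j).hom.app _ b → (g i).hom.app _ a = (g j).hom.app _ b) :
    ∃ h : F ⟶ G, ∀ i, p i ≫ h = g i := by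
  classical
  -- the sieve of arrows along which `x` lifts
  let Rx : ∀ (T : C) (x : F.obj.obj (op T)), Sieve T := fun T x =>
    { arrows := fun T' f => ∃ (i : ι) (y : (U i).obj.obj (op T')), (p i).hom.app (op T') y = F.obj.map f.op x
      downward_closed := by
        rintro T' T'' f ⟨i, y, hy⟩ k
        refine ⟨i, (U i).obj.map k.op y, ?_⟩
        rw [NatTrans.naturality_apply, hy, ← Functor.map_comp_apply, op_comp] }
  have hRx : ∀ T x, Rx T x ∈ J T := fun T x => by
    obtain ⟨R, hR, H⟩ := hp T x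
    exact J.superset_covering (fun T' f hf => H f hf) hR
  -- the property characterising the value at `x`
  have key : ∀ (T : C) (x : F.obj.obj (op T)), ∃! z : G.obj.obj (op T),
      ∀ ⦃T' : C⦄ (f : T' ⟶ T) (i : ι) (y : (U i).obj.obj (op T')),
        (p i).hom.app (op T') y = F.obj.map f.op x → G.obj.map f.op z = (g i).hom.app _ y := by
    intro T x
    let fam : Presieve.FamilyOfElements G.obj (Rx T x : Presieve T) := fun T' f hf =>
      (g hf.choose).hom.app _ hf.choose_spec.choose
    have hfam : ∀ ⦃T' : C⦄ (f : T' ⟶ T) (hf : Rx T x f) (i : ι) (y : (U i).obj.obj (op T')),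
        (p i).hom.app (op T') y = F.obj.map f.op x → fam f hf = (g i).hom.app _ y := by
      intro T' f hf i y hy
      exact w _ _ _ _ _ (hf.choose_spec.choose_spec.trans hy.symm)
    have hcomp : fam.Compatible := by
      intro Y₁ Y₂ Z g₁ g₂ f₁ f₂ h₁ h₂ hc
      obtain ⟨i₁, y₁, e₁⟩ := h₁
      obtain ⟨i₂, y₂, e₂⟩ := h₂
      rw [hfam f₁ _ i₁ y₁ e₁, hfam f₂ _ i₂ y₂ e₂, ← NatTrans.naturality_apply, ← NatTrans.naturality_apply]
      refine w _ _ _ _ _ ?_
      rw [NatTrans.naturality_apply, NatTrans.naturality_apply, e₁, e₂, ← Functor.map_comp_apply,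
        ← Functor.map_comp_apply, ← op_comp, ← op_comp, hc]
    obtain ⟨z, hz, -⟩ := (isSheaf G) (Rx T x) (hRx T x) fam hcomp
    refine ⟨z, ?_, ?_⟩
    · intro T' f i y hy
      have hf : Rx T x f := ⟨i, y, hy⟩
      rw [hz f hf, hfam f hf i y hy]
    · intro z' hz'
      refine sep G (hRx T x) fun T' f hf => ?_
      obtain ⟨i, y, hy⟩ := hf
      rw [hz' f i y hy, hz f ⟨i, y, hy⟩, hfam f _ i y hy]
  choose val hval huniq using key
  let h : F ⟶ G := ObjectProperty.homMk
    { app := fun T => TypeCat.ofHom (fun x => val T.unop x)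
      naturality := by
        intro T T' f
        ext x
        change val T'.unop (F.obj.map f x) = G.obj.map f (val T.unop x)
        refine (huniq T'.unop _ _ ?_).symm
        intro T'' f' i y hy
        rw [← Functor.map_comp_apply]
        refine hval T.unop x (f' ≫ f.unop) i y ?_
        rw [hy, ← Functor.map_comp_apply]
        rfl }
  refine ⟨h, fun i => ?_⟩
  apply ObjectProperty.hom_ext
  ext T y
  obtain ⟨T⟩ := T
  change val T ((p i).hom.app _ y) = (g i).hom.app _ y
  have := hval T ((p i).hom.app _ y) (𝟙 _) i y (by simp)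
  simpa using this

section Pullback

variable {A B P D : Sheaf J (Type w)} {fst : P ⟶ A} {snd : P ⟶ B} {f : A ⟶ D} {g : B ⟶ D}

theorem isPullback_app (h : IsPullback fst snd f g) (T : Cᵒᵖ) :
    IsPullback (fst.hom.app T) (snd.hom.app T) (f.hom.app T) (g.hom.app T) :=
  h.map (sheafToPresheaf J (Type w) ⋙ (evaluation _ _).obj T)

theorem pb_ext (h : IsPullback fst snd f g) {T : Cᵒᵖ} {a b : P.obj.obj T}
    (h₁ : fst.hom.app T a = fst.hom.app T b) (h₂ : snd.hom.app T a = snd.hom.app T b) : a = b :=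
  Types.ext_of_isPullback (isPullback_app h T) h₁ h₂

theorem pb_exists (h : IsPullback fst snd f g) {T : Cᵒᵖ} (a : A.obj.obj T) (b : B.obj.obj T)
    (hab : f.hom.app T a = g.hom.app T b) : ∃ c : P.obj.obj T, fst.hom.app T c = a ∧ snd.hom.app T c = b :=
  Types.exists_of_isPullback (isPullback_app h T) a b hab

end Pullback

/-- Gluing along a jointly locally surjective family, with the compatibility expressed through pullback squares. -/
theorem JLS.exists_hom_of_isPullback (hp : JLS U p) (g : ∀ i, U i ⟶ G) (W : ι → ι → Sheaf J (Type w))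
    (a : ∀ i j, W i j ⟶ U i) (b : ∀ i j, W i j ⟶ U j) (H : ∀ i j, IsPullback (a i j) (b i j) (p i) (p j))
    (w : ∀ i j, a i j ≫ g i = b i j ≫ g j) : ∃! h : F ⟶ G, ∀ i, p i ≫ h = g i := by
  obtain ⟨h, hh⟩ := hp.exists_hom g (by
    intro i j T x y hxy
    obtain ⟨c, rfl, rfl⟩ := pb_exists (H i j) x y hxy
    exact congrArg (fun k => k.hom.app (op T) c) (w i j))
  exact ⟨h, hh, fun h' hh' => hp.hom_ext fun i => by rw [hh, hh']⟩

/-- A monomorphism through which a jointly locally surjective family factors is an isomorphism. -/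
theorem JLS.isIso_of_mono (hp : JLS U p) {F' : Sheaf J (Type w)} (m : F' ⟶ F) [Mono m]
    (l : ∀ i, U i ⟶ F') (hl : ∀ i, l i ≫ m = p i) : IsIso m := by
  obtain ⟨s, hs⟩ := hp.exists_hom l (by
    intro i j T x y hxy
    have hm : Function.Injective (m.hom.app (op T)) := by
      have : Mono (((sheafToPresheaf J (Type w)) ⋙ (evaluation _ _).obj (op T)).map m) := inferInstance
      exact (mono_iff_injective _).1 this
    apply hm
    have e1 := congrArg (fun k => k.hom.app (op T) x) (hl i)
    have e2 := congrArg (fun k => k.hom.app (op T) y) (hl j)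
    exact e1.trans (hxy.trans e2.symm))
  have h1 : s ≫ m = 𝟙 _ := hp.hom_ext fun i => by rw [← Category.assoc, hs, hl, Category.comp_id]
  exact ⟨s, by rw [← cancel_mono m, Category.assoc, h1, Category.id_comp, Category.comp_id], h1⟩

/-- Base change of jointly locally surjective families. -/
theorem JLS.baseChange (hp : JLS U p) {F' : Sheaf J (Type w)} (q : F' ⟶ F) {V : ι → Sheaf J (Type w)}
    (r : ∀ i, V i ⟶ U i) (p' : ∀ i, V i ⟶ F') (H : ∀ i, IsPullback (r i) (p' i) (p i) q) : JLS V p' := by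
  intro T x
  obtain ⟨R, hR, h⟩ := hp T (q.hom.app _ x)
  refine ⟨R, hR, fun T' g hg => ?_⟩
  obtain ⟨i, y, hy⟩ := h g hg
  obtain ⟨c, -, hc⟩ := pb_exists (H i) y (F'.obj.map g.op x) (by rw [hy, NatTrans.naturality_apply])
  exact ⟨i, c, hc⟩

/-- Composition of jointly locally surjective families. -/
theorem JLS.comp (hp : JLS U p) {κ : ι → Type*} {V : ∀ i, κ i → Sheaf J (Type w)} (q : ∀ i k, V i k ⟶ U i)
    (hq : ∀ i, JLS (V i) (q i)) :
    JLS (ι := Σ i, κ i) (fun z => V z.1 z.2) (fun z => q z.1 z.2 ≫ p z.1) := by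
  intro T x
  obtain ⟨R, hR, h⟩ := hp T x
  let R' : Sieve T :=
    { arrows := fun T' f => ∃ (z : Σ i, κ i) (y : (V z.1 z.2).obj.obj (op T')),
        (q z.1 z.2 ≫ p z.1).hom.app (op T') y = F.obj.map f.op x
      downward_closed := by
        rintro T' T'' f ⟨i, y, hy⟩ k
        refine ⟨i, (V i.1 i.2).obj.map k.op y, ?_⟩
        rw [NatTrans.naturality_apply, hy, ← Functor.map_comp_apply, op_comp] }
  refine ⟨R', J.transitive hR _ fun T' f hf => ?_, fun T' f hf => hf⟩
  obtain ⟨i, y, hy⟩ := h f hf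
  obtain ⟨R'', hR'', h''⟩ := hq i T' y
  refine J.superset_covering (fun T'' g hg => ?_) hR''
  obtain ⟨k, z, hz⟩ := h'' g hg
  refine ⟨⟨i, k⟩, z, ?_⟩
  change (p i).hom.app _ ((q i k).hom.app _ z) = _
  rw [hz, NatTrans.naturality_apply, hy, ← Functor.map_comp_apply, op_comp]

/-- A family through which a jointly locally surjective family factors is jointly locally surjective. -/
theorem JLS.of_factor (hp : JLS U p) {κ : Type*} {V : κ → Sheaf J (Type w)} (q : ∀ k, V k ⟶ F)
    (φ : ι → κ) (l : ∀ i, U i ⟶ V (φ i)) (hl : ∀ i, l i ≫ q (φ i) = p i) : JLS V q := by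
  intro T x
  obtain ⟨R, hR, h⟩ := hp T x
  refine ⟨R, hR, fun T' g hg => ?_⟩
  obtain ⟨i, y, hy⟩ := h g hg
  refine ⟨φ i, (l i).hom.app _ y, ?_⟩
  rw [← hy, ← hl i]
  rfl

/-- A single epimorphism of sheaves of sets is a jointly locally surjective family. -/
theorem jls_of_isLocallySurjective (f : G ⟶ F) (h : Sheaf.IsLocallySurjective f) :
    JLS (ι := PUnit) (fun _ => G) (fun _ => f) := by
  intro T x
  refine ⟨_, h.imageSieve_mem x, fun T' g hg => ?_⟩
  obtain ⟨t, ht⟩ := hg
  exact ⟨⟨⟩, t, ht⟩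

end K642.Glue
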