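import Groth.Prelude.Def_AlgSp3
import Groth.Prelude.Def_AlgSp2
import Groth.Agent.AlgSp.K642.Glue
/-!
Jointly surjective families of etale morphisms of algebraic spaces are jointly locally surjective.
-/

universe u

open CategoryTheory CategoryTheory.Limits AlgebraicGeometry Opposite AlgSp K642.Glue

set_option backward.isDefEq.respectTransparency false

namespace K642.EtCov

variable {S : Scheme.{u}}

/-- The morphism `h_T ⟶ F` defined by a section. -/
noncomputable def ofSec {F : Sp S} {T : Over S} (x : F.obj.obj (op T)) : (yon S).obj T ⟶ F :=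
  (AlgSp.J S).uliftYonedaEquiv.{u + 1}.symm x

theorem ofSec_app {F : Sp S} {T : Over S} (x : F.obj.obj (op T)) {T' : Over S} (h : T' ⟶ T) :
    (ofSec x).hom.app (op T') ⟨h⟩ = F.obj.map h.op x := by
  have h0 : (ofSec x).hom.app (op T) ⟨𝟙 T⟩ = x :=
    ((AlgSp.J S).uliftYonedaEquiv.{u + 1} (F := F)).apply_symm_apply x
  have h1 := NatTrans.naturality_apply (ofSec x).hom h.op (x := ⟨𝟙 T⟩)
  rw [h0] at h1
  rw [← h1]
  change _ = (ofSec x).hom.app (op T') ⟨h ≫ 𝟙 T⟩
  rw [Category.comp_id]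

theorem ofSec_id {F : Sp S} {T : Over S} (g : (yon S).obj T ⟶ F) : ofSec (g.hom.app _ ⟨𝟙 T⟩) = g :=
  ((AlgSp.J S).uliftYonedaEquiv.{u + 1} (F := F)).symm_apply_apply g

theorem ofPt_yon_map {T T' : Over S} (φ : T ⟶ T') {F : Sp S} (g : (yon S).obj T' ⟶ F) (t : ↥T.left) :
    Points.ofPt ((yon S).map φ ≫ g) t = Points.ofPt g (φ.left t) := by
  have e0 : Points.ofPt ((yon S).map φ) t = Points.ofPt (𝟙 ((yon S).obj T')) (φ.left t) := by
    rw [← Points.ofScheme_toScheme T' (Points.ofPt ((yon S).map φ) t), Points.toScheme_ofPt]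
  rw [← Points.map_ofPt, e0, Points.map_ofPt, Category.id_comp]

/-- If `W = U ×_F T` (square of sheaves with represented corners) and the points of `F` defined by `u` and `t` agree
then `t` is in the image of `W`. -/
theorem mem_range_of_ofPt_eq {F : Sp S} {U T W : Over S} {p : (yon S).obj U ⟶ F} {g : (yon S).obj T ⟶ F}
    {fst : (yon S).obj W ⟶ (yon S).obj U} {snd : W ⟶ T} (H : IsPullback fst ((yon S).map snd) p g)
    {u : ↥U.left} {t : ↥T.left} (h : Points.ofPt p u = Points.ofPt g t) : t ∈ Set.range snd.left := by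
  obtain ⟨Ω, _, w, a, b, hab⟩ := Points.mk_eq_mk_iff.1 h
  let b' : Over.mk w ⟶ T := b ≫ Over.homMk (T.left.fromSpecResidueField t) rfl
  let a' : Over.mk w ⟶ U := a ≫ Over.homMk (U.left.fromSpecResidueField u) rfl
  have h1 : F.obj.map a.op (p.hom.app _ ⟨Over.homMk (U.left.fromSpecResidueField u) rfl⟩) =
      p.hom.app (op (Over.mk w)) ⟨a'⟩ := by
    rw [← NatTrans.naturality_apply]; rfl
  have h2 : F.obj.map b.op (g.hom.app _ ⟨Over.homMk (T.left.fromSpecResidueField t) rfl⟩) =
      g.hom.app (op (Over.mk w)) ⟨b'⟩ := by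
    rw [← NatTrans.naturality_apply]; rfl
  obtain ⟨c, -, hc⟩ := pb_exists H (T := op (Over.mk w)) ⟨a'⟩ ⟨b'⟩ (h1.symm.trans (hab.trans h2))
  have hc' : c.down ≫ snd = b' := congrArg ULift.down hc
  refine ⟨c.down.left (IsLocalRing.closedPoint Ω), ?_⟩
  rw [← Scheme.Hom.comp_apply, ← Over.comp_left, hc']
  exact (Scheme.Hom.comp_apply b.left (T.left.fromSpecResidueField t) (IsLocalRing.closedPoint Ω)).trans
    (Scheme.fromSpecResidueField_apply _ _)

/-- A family of representable flat and locally finitely presented morphisms from schemes which hits all points is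
jointly locally surjective. -/
theorem jls_of_repWith_flat_lfp {ι : Type*} {F : Sp S} {U : ι → Over S} (p : ∀ i, (yon S).obj (U i) ⟶ F)
    (hp : ∀ i, RepWith (@Flat ⊓ @LocallyOfFinitePresentation) (p i))
    (hs : ∀ x : Points F, ∃ (i : ι) (u : ↥(U i).left), Points.ofPt (p i) u = x) :
    JLS (J := AlgSp.J S) (fun i => (yon S).obj (U i)) p := by
  intro T x
  let g : (yon S).obj T ⟶ F := ofSec x
  choose i u hu using fun t : ↥T.left => hs (Points.ofPt g t)
  choose W snd fst H using fun i => (hp i).1 g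
  let Wt : ↥T.left → Over S := fun t => W (i t)
  let st : ∀ t, Wt t ⟶ T := fun t => snd (i t)
  refine ⟨Sieve.ofArrows Wt st, ?_, ?_⟩
  · rw [GrothendieckTopology.mem_over_iff, Sieve.overEquiv_ofArrows]
    refine Precoverage.generate_mem_toGrothendieck ?_
    change Presieve.ofArrows _ _ ∈ Scheme.precoverage _ _
    rw [Scheme.ofArrows_mem_precoverage_iff]
    refine ⟨fun t => ⟨t, mem_range_of_ofPt_eq (H (i t)) (hu t)⟩, fun t => ?_⟩
    exact (hp (i t)).2 g _ _ (H (i t))
  · intro T' h hh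
    rw [Sieve.ofArrows, Sieve.generate_apply] at hh
    obtain ⟨Z, h₁, h₂, ⟨t⟩, rfl⟩ := hh
    refine ⟨i t, (fst (i t)).hom.app _ ⟨h₁⟩, ?_⟩
    have e := congrArg (fun k => k.hom.app (op T') ⟨h₁⟩) (H (i t)).w
    change (p (i t)).hom.app _ ((fst (i t)).hom.app _ ⟨h₁⟩) = g.hom.app _ ⟨h₁ ≫ st t⟩ at e
    rw [e, ofSec_app]

theorem repWith_mono {P Q : MorphismProperty Scheme.{u}} (h : P ≤ Q) {F G : Sp S} {f : F ⟶ G}
    (hf : RepWith P f) : RepWith Q f :=
  ⟨hf.1, fun _ _ g fst snd H => h _ (hf.2 g fst snd H)⟩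

/-- Etale version. -/
theorem jls_of_repWith_etale {ι : Type*} {F : Sp S} {U : ι → Over S} (p : ∀ i, (yon S).obj (U i) ⟶ F)
    (hp : ∀ i, RepWith @Etale (p i))
    (hs : ∀ x : Points F, ∃ (i : ι) (u : ↥(U i).left), Points.ofPt (p i) u = x) :
    JLS (J := AlgSp.J S) (fun i => (yon S).obj (U i)) p :=
  jls_of_repWith_flat_lfp p (fun i => repWith_mono (fun _ _ _ (_ : Etale _) =>
    ⟨inferInstance, inferInstance⟩) (hp i)) hs

/-- A representable surjective morphism from a scheme hits every point. -/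
theorem exists_ofPt_of_repWith_surjective {F : Sp S} {U : Over S} {p : (yon S).obj U ⟶ F}
    (hp : RepWith @Surjective p) (x : Points F) : ∃ u : ↥U.left, Points.ofPt p u = x := by
  induction x using Points.ind with
  | h x =>
    let g : (yon S).obj x.pt ⟶ F := ofSec x.val
    obtain ⟨W, snd, fst, H⟩ := hp.1 g
    have hsurj : Surjective snd.left := hp.2 g _ _ H
    obtain ⟨w, hw⟩ := hsurj.surj (IsLocalRing.closedPoint x.K)
    obtain ⟨φ, rfl⟩ := (yon S).map_surjective fst
    refine ⟨φ.left w, ?_⟩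
    rw [← ofPt_yon_map, H.w, ofPt_yon_map, hw, ← Category.id_comp g, ← Points.map_ofPt]
    have e3 : Points.ofPt (𝟙 ((yon S).obj x.pt)) (IsLocalRing.closedPoint x.K) =
        Points.mk (⟨x.K, x.str, ULift.up (Over.homMk (𝟙 _) (Category.id_comp _))⟩ : FieldPt ((yon S).obj x.pt)) :=
      Points.ofScheme_apply_eq_mk x.pt (K := x.K) (str := x.str) (𝟙 _) (Category.id_comp _)
    rw [e3, Points.map_mk]
    have h0 : g.hom.app _ ⟨Over.homMk (𝟙 _) (Category.id_comp _)⟩ = x.val := by
      have h0 := ofSec_app x.val (𝟙 x.pt)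
      simp only [op_id, Functor.map_id_apply] at h0
      exact h0
    exact congrArg (fun v => Points.mk (⟨x.K, x.str, v⟩ : FieldPt F)) h0
/-- Jointly surjective (on points) families of etale morphisms (`IsEtaleMor`) from algebraic spaces are jointly
locally surjective. -/
theorem jls_of_isEtaleMor {ι : Type*} {F : Sp S} {U : ι → Sp S} (p : ∀ i, U i ⟶ F)
    (hU : ∀ i, IsAlgSpace (U i)) (hp : ∀ i, IsEtaleMor (p i))
    (hs : ∀ x : Points F, ∃ i, x ∈ Set.range (Points.map (p i))) :
    JLS (J := AlgSp.J S) U p := by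
  choose V q hq hq' using fun i => (hU i).atlas
  have h : JLS (J := AlgSp.J S) (fun i => (yon S).obj (V i)) (fun i => q i ≫ p i) := by
    refine jls_of_repWith_etale _ (fun i => hp i _ (hq i)) fun x => ?_
    obtain ⟨i, y, rfl⟩ := hs x
    obtain ⟨v, rfl⟩ := exists_ofPt_of_repWith_surjective (hq' i) y
    exact ⟨i, v, (Points.map_ofPt _ _ _).symm⟩
  exact h.of_factor p id q (fun i => rfl)

end K642.EtCov
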