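import Groth.Agent.AlgSp.K613.Diag
import Groth.Agent.AlgSp.K642.EtCov
import Groth.Agent.Flat2G.EtaleSource
/-!
Pullbacks in `Space S` and `Over B`; etale morphisms of algebraic spaces: composition and base change.
-/

universe u

open CategoryTheory CategoryTheory.Limits AlgebraicGeometry Opposite AlgSp

set_option backward.isDefEq.respectTransparency false

namespace K642.Pb

variable {S : Scheme.{u}}

theorem closedUnderPullbacks : ObjectProperty.IsClosedUnderLimitsOfShape (IsAlgSpace (S := S)) WalkingCospan where
  limitsOfShape_le := by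
    rintro X ⟨h⟩
    have H := IsPullback.of_isLimit_cone h.isLimit
    exact K613.Chart.isAlgSpace_of_isPullback (h.prop_diag_obj .one).diag (h.prop_diag_obj .left)
      (h.prop_diag_obj .right) H

attribute [local instance] closedUnderPullbacks

theorem hasPullbacks : HasPullbacks (Space S) :=
  inferInstance

attribute [local instance] hasPullbacks

theorem preserves_ι : PreservesLimitsOfShape WalkingCospan (ObjectProperty.ι (IsAlgSpace (S := S))) :=
  inferInstance

attribute [local instance] preserves_ι

/-- Squares of algebraic spaces are cartesian iff they are so as squares of sheaves. -/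
theorem isPullback_iff {P X Y Z : Space S} {fst : P ⟶ X} {snd : P ⟶ Y} {f : X ⟶ Z} {g : Y ⟶ Z} :
    IsPullback fst.hom snd.hom f.hom g.hom ↔ IsPullback fst snd f g :=
  ⟨fun h => IsPullback.of_map_of_faithful (ObjectProperty.ι (IsAlgSpace (S := S))) h,
    fun h => h.map (ObjectProperty.ι (IsAlgSpace (S := S)))⟩

variable {B : Space S}

theorem isPullback_over_iff {P X Y Z : Over B} {fst : P ⟶ X} {snd : P ⟶ Y} {f : X ⟶ Z} {g : Y ⟶ Z} :
    IsPullback fst.left.hom snd.left.hom f.left.hom g.left.hom ↔ IsPullback fst snd f g := by
  rw [isPullback_iff]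
  exact ⟨fun h => IsPullback.of_map_of_faithful (Over.forget B) h, fun h => h.map (Over.forget B)⟩

/-- Descent of etaleness along a representable etale surjective map of schemes on the source. -/
theorem repWith_etale_of_cover {G : Sp S} (hG : Representable (Limits.diag G)) {U W : Over S} (c : W ⟶ U)
    (hc : Etale c.left) (hs : Surjective c.left) (p : (yon S).obj U ⟶ G)
    (h : RepWith @Etale ((yon S).map c ≫ p)) : RepWith @Etale p := by
  refine ⟨Functor.relativelyRepresentable.of_diag hG p, fun T V g fst snd sq => ?_⟩
  obtain ⟨fst, rfl⟩ := (yon S).map_surjective fst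
  have sq2 : IsPullback ((yon S).map (pullback.fst c fst)) ((yon S).map (pullback.snd c fst)) ((yon S).map c)
      ((yon S).map fst) := (IsPullback.of_hasPullback c fst).map (yon S)
  have sq3 := sq2.paste_vert sq
  rw [← Functor.map_comp] at sq3
  have h1 : Etale (pullback.snd c fst ≫ snd).left := h.2 g _ _ sq3
  have sq4 : IsPullback (pullback.fst c fst).left (pullback.snd c fst).left c.left fst.left :=
    (IsPullback.of_hasPullback c fst).map (Over.forget S)
  have h2 : Etale (pullback.snd c fst).left := MorphismProperty.of_isPullback sq4 hc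
  have h3 : Surjective (pullback.snd c fst).left := MorphismProperty.of_isPullback sq4 hs
  rw [Over.comp_left] at h1
  exact Groth.Agent.Flat2G.EtaleSource.etale_of_comp (pullback.snd c fst).left snd.left

theorem isEtaleMor_of_repWith {F G : Sp S} {f : F ⟶ G} (h : RepWith @Etale f) : IsEtaleMor f :=
  fun _ _ hφ => MorphismProperty.comp_mem _ _ _ hφ h

theorem isEtaleMor_comp {F G H : Sp S} {f : F ⟶ G} {g : G ⟶ H} (hf : IsEtaleMor f) (hg : IsEtaleMor g) :
    IsEtaleMor (f ≫ g) := fun _ φ hφ => by
  rw [← Category.assoc]; exact hg _ (hf _ hφ)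

/-- Base change of etale morphisms of algebraic spaces. -/
theorem isEtaleMor_of_isPullback {F G H P : Sp S} (hF : IsAlgSpace F) (hH : Representable (Limits.diag H))
    {f : F ⟶ G} {g : H ⟶ G} {fst : P ⟶ F} {snd : P ⟶ H} (sq : IsPullback fst snd f g) (hf : IsEtaleMor f) :
    IsEtaleMor snd := by
  intro U φ hφ
  obtain ⟨V, p, hp, hps⟩ := hF.atlas
  -- V' = V ×_F P
  have sqV := IsPullback.of_hasPullback p fst
  have h1 : RepWith @Etale (pullback.snd p fst) := MorphismProperty.of_isPullback sqV hp
  have h2 : RepWith @Surjective (pullback.snd p fst) := MorphismProperty.of_isPullback sqV hps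
  have h3 : RepWith @Etale (pullback.snd p fst ≫ snd) :=
    MorphismProperty.of_isPullback (sqV.paste_vert sq) (hf p hp)
  obtain ⟨W, c, q, sqW⟩ := h1.1 φ
  have hc : Etale c.left := h1.2 φ _ _ sqW
  have hcs : Surjective c.left := h2.2 φ _ _ sqW
  have h4 : RepWith @Etale q := MorphismProperty.of_isPullback sqW.flip hφ
  refine repWith_etale_of_cover hH c hc hcs _ ?_
  rw [← Category.assoc, ← sqW.w, Category.assoc]
  exact MorphismProperty.comp_mem _ _ _ h4 h3

end K642.Pb
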