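import Groth.Agent.CohqA.ChowProd
import Groth.Agent.CohqA.ChowAffine
import Mathlib.AlgebraicGeometry.Morphisms.SchemeTheoreticallyDominant

/-!
# Projective closures for the weak Chow lemma (scheme level)
-/

set_option autoImplicit false
universe u
open CategoryTheory CategoryTheory.Limits AlgebraicGeometry Opposite

namespace K642.Model

/-- An affine scheme of finite type has an immersion in a projective space. -/
theorem exists_immersion {S : Scheme.{u}} {U : Scheme.{u}} [IsAffine U] (g : U ⟶ S) [LocallyOfFiniteType g] :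
    ∃ (r : ℕ) (i : U ⟶ CohB1.ProjSpaceOver r S), IsImmersion i ∧ i ≫ CohB1.ProjSpaceOver.toBase r S = g := by
  obtain ⟨r, j, hj, hj'⟩ := Groth.Agent.CohqA.ChowAffine.exists_immersion_affineSpace g
  obtain ⟨k, hk, hk'⟩ := Groth.Agent.CohqA.ChowAff.exists_immersion r S
  refine ⟨r, j ≫ k, MorphismProperty.comp_mem (W := @IsImmersion) _ _ hj hk, ?_⟩
  rw [Category.assoc, hk', hj']

theorem isSchemeTheoreticallyDominant_toImage {X Y : Scheme.{u}} (f : X ⟶ Y) [QuasiCompact f] :
    IsSchemeTheoreticallyDominant f.toImage := by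
  have h1 : (f.toImage ≫ f.imageι).ker = f.imageι.ker := by
    rw [Scheme.Hom.toImage_imageι, Scheme.Hom.imageι, Scheme.IdealSheafData.ker_subschemeι]
  refine ⟨?_⟩
  have h2 : (f.toImage.ker.subschemeι ≫ f.imageι).ker = f.imageι.ker := by
    rw [← h1, Scheme.Hom.ker_comp, Scheme.Hom.ker_comp, Scheme.IdealSheafData.ker_subschemeι]
  have h3 : IsIso f.toImage.ker.subschemeι :=
    IsClosedImmersion.isIso_of_ker_eq (f.toImage.ker.subschemeι ≫ f.imageι) f.imageι _ rfl h2
  rw [← Scheme.IdealSheafData.ker_subschemeι f.toImage.ker]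
  exact Scheme.Hom.ker_eq_bot f.toImage.ker.subschemeι

/-- The scheme level data: a projective closure `Z` of `V` with morphisms to a closure `Y` of `W` extending the given
morphisms `V ⟶ W`. -/
theorem exists_model {S : Scheme.{u}} [IsAffine S] {V W : Over S} (hV : IsAffine V.left) (hW : IsAffine W.left)
    (hft : LocallyOfFiniteType W.hom) {m : ℕ} (a : Fin m → (V ⟶ W)) :
    ∃ (Y Z : Over S) (j : W ⟶ Y) (δ : V ⟶ Z) (g : Fin m → (Z ⟶ Y)) (N : ℕ)
      (c : Z.left ⟶ CohB1.ProjSpaceOver N S), IsClosedImmersion c ∧ c ≫ CohB1.ProjSpaceOver.toBase N S = Z.hom ∧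
        IsProper Z.hom ∧ IsSeparated Y.hom ∧ IsOpenImmersion j.left ∧ QuasiCompact j.left ∧
        IsSchemeTheoreticallyDominant δ.left ∧ QuasiCompact δ.left ∧ ∀ i, δ ≫ g i = a i ≫ j := by
  obtain ⟨r, i, hi, hi'⟩ := exists_immersion W.hom
  have hqc : QuasiCompact i := by
    have : QuasiCompact (i ≫ CohB1.ProjSpaceOver.toBase r S) := by rw [hi']; infer_instance
    exact QuasiCompact.of_comp i (CohB1.ProjSpaceOver.toBase r S)
  obtain ⟨N, P, c, π, φ, hc, hπ, hφ, hφπ⟩ := Groth.Agent.CohqA.ChowProd.exists_product S (fun _ : Fin m => r)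
    V.hom (fun k => (a k).left ≫ i) (fun k => by rw [Category.assoc, hi', Over.w])
  have hφq : QuasiCompact φ := by
    have : QuasiCompact (φ ≫ c ≫ CohB1.ProjSpaceOver.toBase N S) := by rw [hφ]; infer_instance
    exact QuasiCompact.of_comp φ (c ≫ CohB1.ProjSpaceOver.toBase N S)
  have hdom : IsSchemeTheoreticallyDominant φ.toImage := isSchemeTheoreticallyDominant_toImage φ
  have hker : ∀ k, i.imageι.ker ≤ (φ.imageι ≫ π k).ker := by
    intro k
    have h1 : (φ.imageι ≫ π k).ker = (φ.toImage ≫ φ.imageι ≫ π k).ker := by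
      rw [Scheme.Hom.ker_comp φ.toImage, φ.toImage.ker_eq_bot, Scheme.IdealSheafData.map_bot]
    rw [h1, ← Category.assoc, Scheme.Hom.toImage_imageι, hφπ, Scheme.Hom.imageι,
      Scheme.IdealSheafData.ker_subschemeι]
    exact Scheme.Hom.le_ker_comp _ _
  let g : ∀ k, φ.image ⟶ i.image := fun k => IsClosedImmersion.lift i.imageι (φ.imageι ≫ π k) (hker k)
  have hg : ∀ k, g k ≫ i.imageι = φ.imageι ≫ π k := fun k => IsClosedImmersion.lift_fac _ _ _
  let Y : Over S := Over.mk (i.imageι ≫ CohB1.ProjSpaceOver.toBase r S)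
  let Z : Over S := Over.mk (φ.imageι ≫ c ≫ CohB1.ProjSpaceOver.toBase N S)
  let j : W ⟶ Y := Over.homMk i.toImage (by
    change i.toImage ≫ i.imageι ≫ _ = _
    rw [Scheme.Hom.toImage_imageι_assoc, hi'])
  let δ : V ⟶ Z := Over.homMk φ.toImage (by
    change φ.toImage ≫ φ.imageι ≫ _ = _
    rw [Scheme.Hom.toImage_imageι_assoc, hφ])
  let g' : Fin m → (Z ⟶ Y) := fun k => Over.homMk (g k) (by
    change g k ≫ i.imageι ≫ _ = φ.imageι ≫ c ≫ _
    rw [reassoc_of% hg k, hπ])
  refine ⟨Y, Z, j, δ, g', N, φ.imageι ≫ c, inferInstance, by rw [Category.assoc]; rfl, ?_, ?_, ?_, ?_, hdom, ?_,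
    fun k => ?_⟩
  · change IsProper (φ.imageι ≫ c ≫ _)
    infer_instance
  · change IsSeparated (i.imageι ≫ _)
    infer_instance
  · exact (inferInstance : IsOpenImmersion i.toImage)
  · exact (inferInstance : QuasiCompact i.toImage)
  · exact (inferInstance : QuasiCompact φ.toImage)
  · ext1
    rw [← cancel_mono i.imageι]
    change (φ.toImage ≫ g k) ≫ i.imageι = ((a k).left ≫ i.toImage) ≫ i.imageι
    rw [Category.assoc, Category.assoc, hg, Scheme.Hom.toImage_imageι, Scheme.Hom.toImage_imageι_assoc, hφπ]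

end K642.Model
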