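import Groth.Agent.AlgSp.K642.HomDef
import Groth.Agent.Sga1.SectionSpread

/-!
# Limit preservation for the functor of morphisms
-/

set_option autoImplicit false

universe w v u

open CategoryTheory CategoryTheory.Limits AlgebraicGeometry Opposite
open K607.Artin K642.HomDef Groth.Agent.Sga1

namespace K642.HomLP

variable {Λ : Type u} [CommRing Λ] (X Y : Over (Spec (CommRingCat.of Λ)))

/-- Swap the two factors. -/
noncomputable def swap (B : Type u) [CommRing B] [Algebra Λ B] : xt X (sp Λ B) ≅ SectionSpread.bc X.hom B :=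
  pullbackSymmetry _ _

@[reassoc (attr := simp)]
lemma swap_hom_fst (B : Type u) [CommRing B] [Algebra Λ B] :
    (swap X B).hom ≫ pullback.fst X.hom (SectionSpread.str Λ B) = pullback.snd (sp Λ B).hom X.hom :=
  pullbackSymmetry_hom_comp_fst _ _

@[reassoc (attr := simp)]
lemma swap_hom_snd (B : Type u) [CommRing B] [Algebra Λ B] :
    (swap X B).hom ≫ pullback.snd X.hom (SectionSpread.str Λ B) = pullback.fst (sp Λ B).hom X.hom :=
  pullbackSymmetry_hom_comp_snd _ _

@[reassoc]
lemma swap_bcMap {B B' : Type u} [CommRing B] [Algebra Λ B] [CommRing B'] [Algebra Λ B'] (φ : B →ₐ[Λ] B') :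
    (swap X B').hom ≫ SectionSpread.bcMap X.hom φ = xmap X (spMap φ) ≫ (swap X B).hom := by
  apply pullback.hom_ext
  · rw [Category.assoc, Category.assoc, SectionSpread.bcMap_fst, swap_hom_fst, swap_hom_fst, xmap_snd]
  · rw [Category.assoc, Category.assoc, SectionSpread.bcMap_snd, swap_hom_snd_assoc, swap_hom_snd, xmap_fst]
    rfl

theorem lp_morF [QuasiCompact X.hom] [QuasiSeparated X.hom] [LocallyOfFinitePresentation Y.hom]
    (A : Type u) [CommRing A] [Algebra Λ A] (x : (morF X Y).obj (op (sp Λ A))) :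
    ∃ (C : Type u) (_ : CommRing C) (_ : Algebra Λ C) (_ : Algebra.FinitePresentation Λ C) (φ : C →ₐ[Λ] A)
      (y : (morF X Y).obj (op (sp Λ C))), (morF X Y).map (spMap φ).op y = x := by
  obtain ⟨C, i1, i2, i3, χ, τ, h1, h2⟩ := SectionSpread.exists_fp (p := X.hom) X.hom (C := A) Y.hom
    ((swap X A).inv ≫ x.1) (by
      rw [Category.assoc, x.2, Iso.inv_comp_eq, swap_hom_fst_assoc]
      exact pullback.condition)
  refine ⟨C, i1, i2, i3, χ, ⟨(swap X C).hom ≫ τ, ?_⟩, ?_⟩
  · rw [Category.assoc, h1, swap_hom_fst_assoc]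
    exact pullback.condition.symm
  · apply ext'
    rw [map_val, ← swap_bcMap_assoc, h2, Iso.hom_inv_id_assoc]

end K642.HomLP
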