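import Groth.Agent.AlgSp.K642.Pb
/-!
Etale charts of an algebraic space by affine schemes, as morphisms over a base space.
-/

universe u

open CategoryTheory CategoryTheory.Limits AlgebraicGeometry Opposite AlgSp

set_option backward.isDefEq.respectTransparency false

namespace K642.Charts

variable {S : Scheme.{u}}

theorem isSeparated_of_isAffine {V : Scheme.{u}} [IsAffine V] (f : V ⟶ S) : IsSeparated f := by
  have : IsSeparated (terminal.from V) := inferInstance
  have h : f ≫ terminal.from S = terminal.from V := Subsingleton.elim _ _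
  rw [← h] at this
  exact IsSeparated.of_comp f (terminal.from S)

/-- A morphism from an affine scheme (more generally a scheme separated over `S`) to a sheaf is separated. -/
theorem isSeparatedMor_of_yon {V : Over S} (hV : IsSeparated V.hom) {F : Sp S} (f : (yon S).obj V ⟶ F) :
    IsSeparatedMor f :=
  K613.Diag.repWith_diagonal_of_diag ((repWith_diag_yon_iff @IsClosedImmersion V).2 hV.1) f

theorem isSeparatedMor_of_isAffine {V : Over S} (hV : IsAffine V.left) {F : Sp S} (f : (yon S).obj V ⟶ F) :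
    IsSeparatedMor f :=
  isSeparatedMor_of_yon (isSeparated_of_isAffine _) f

theorem isSeparatedMor_comp {F G H : Sp S} {f : F ⟶ G} {g : G ⟶ H} (hf : IsSeparatedMor f) (hg : IsSeparatedMor g) :
    IsSeparatedMor (f ≫ g) :=
  K613.Diag.repWith_diagonal_comp hf hg

theorem isSeparatedMor_of_isPullback {F G H P : Sp S} {f : F ⟶ G} {g : H ⟶ G} {fst : P ⟶ F} {snd : P ⟶ H}
    (sq : IsPullback fst snd f g) (hf : IsSeparatedMor f) : IsSeparatedMor snd :=
  K613.Diag.repWith_diagonal_of_isPullback hf sq

/-- Every algebraic space is covered by affine schemes etale over it. -/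
theorem exists_affine_charts (Z : Sp S) (hZ : IsAlgSpace Z) :
    ∃ (ι : Type u) (V : ι → Over S) (m : ∀ a, (yon S).obj (V a) ⟶ Z),
      (∀ a, IsAffine (V a).left) ∧ (∀ a, RepWith @Etale (m a)) ∧
      ∀ x : Points Z, ∃ (a : ι) (v : ↥(V a).left), Points.ofPt (m a) v = x := by
  obtain ⟨V, p, hp, hps⟩ := hZ.atlas
  choose U hU hxU _ using fun v : ↥V.left => exists_isAffineOpen_mem_and_subset (X := V.left) (x := v) (U := ⊤) trivial
  refine ⟨V.left, fun v => Over.mk ((U v).ι ≫ V.hom), fun v => (yon S).map (Over.homMk (U v).ι) ≫ p,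
    fun v => hU v, fun v => ?_, fun x => ?_⟩
  · refine MorphismProperty.comp_mem _ _ _ ?_ hp
    exact (repWith_yon_map_iff _ _).2 (show Etale (U v).ι from inferInstance)
  · obtain ⟨v, rfl⟩ := K642.EtCov.exists_ofPt_of_repWith_surjective hps x
    refine ⟨v, ⟨v, hxU v⟩, ?_⟩
    exact K642.EtCov.ofPt_yon_map _ _ _

/-- Version over a base space. -/
theorem exists_charts_over {B : Space S} (Z : Over B) :
    ∃ (ι : Type u) (M : ι → Over B) (m : ∀ a, M a ⟶ Z),
      (∀ a, IsEtaleMor (m a).left.hom) ∧ (∀ a, IsSeparatedMor (m a).left.hom) ∧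
      (∀ a, IsSeparatedMor (M a).hom.hom) ∧
      ∀ x : Points Z.left.obj, ∃ a, x ∈ Set.range (Points.map (m a).left.hom) := by
  obtain ⟨ι, V, m, h₁, h₂, h₃⟩ := exists_affine_charts Z.left.obj Z.left.property
  let M : ι → Over B := fun a => Over.mk (Y := (ofScheme S).obj (V a)) (ObjectProperty.homMk (m a ≫ Z.hom.hom))
  refine ⟨ι, M, fun a => Over.homMk (ObjectProperty.homMk (m a)) rfl, fun a => ?_, fun a => ?_, fun a => ?_, fun x => ?_⟩
  · exact K642.Pb.isEtaleMor_of_repWith (h₂ a)
  · exact isSeparatedMor_of_isAffine (h₁ a) _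
  · exact isSeparatedMor_of_isAffine (h₁ a) _
  · obtain ⟨a, v, hv⟩ := h₃ x
    exact ⟨a, Points.ofScheme _ v, by
      rw [← hv]
      exact (Points.ofPt_eq_map_ofScheme _ _).symm⟩

end K642.Charts
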