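import Groth.Agent.AlgSp.K642.ChowCoprod
import Groth.Agent.AlgSp.K642.Model
import Groth.Agent.AlgSp.K598.Red

/-!
# Weak Chow lemma

`exists_weakChow`: an algebraic space separated over an affine base with an affine etale chart of finite type receives a
representable proper surjective morphism from an H-quasi-projective scheme.
-/

set_option autoImplicit false
universe u
open CategoryTheory CategoryTheory.Limits AlgebraicGeometry Opposite

namespace K642.WeakChow

open AlgSp K642.Conf K642.ChowGlue K642.ChowProper K642.ChowCoprod K617.EtFin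

variable {S : Scheme.{u}} {X : Sp S}

/-- The main step: a proper morphism whose image contains the image of the configuration scheme. -/
theorem step [IsAffine S] (hX : IsAlgSpace X) (hsep : IsSeparatedSp X) {W : Over S} (hW : IsAffine W.left)
    (hft : LocallyOfFiniteType W.hom) {p : (yon S).obj W ⟶ X} (hp : RepWith @Etale p)
    (hps : RepWith @Surjective p) {n : ℕ} (C : Cf p (n + 1)) (h0 : NoConf p (n + 2)) :
    ∃ (T : Over S) (g : (yon S).obj T ⟶ X) (l : C.V ⟶ T), RelProj.IsHQuasiProjective T.hom ∧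
      RepWith @IsProper g ∧ (yon S).map l ≫ g = C.v := by
  obtain ⟨Y, Z, j, δ, g, N, c, hc, hc', hZ, hY, hj, hjq, hδ, hδq, hg⟩ :=
    K642.Model.exists_model C.aff hW hft C.a
  let O : Fin (n + 1) → Z.left.Opens := fun i => (g i).left ⁻¹ᵁ j.left.opensRange
  have hk : ∀ i, ∃ k : ov Z (O i) ⟶ W, k ≫ j = ovι Z _ ≫ g i := fun i =>
    exists_lift_open j (ovι Z (O i) ≫ g i) (fun q => q.2)
  choose k hk using hk
  obtain ⟨f, hf, hlf⟩ := exists_glue hsep C j δ g hg k hk
  have hδO : ∀ i (v : C.V.left), δ.left v ∈ O i := by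
    intro i v
    have h1 := congrArg (fun m : C.V ⟶ Y => m.left v) (hg i)
    simp only [Over.comp_left, Scheme.Hom.comp_apply] at h1
    exact ⟨(C.a i).left v, h1.symm⟩
  obtain ⟨l, hl⟩ := exists_lift_ov (⨆ i, O i) δ (fun v =>
    TopologicalSpace.Opens.mem_iSup.2 ⟨0, hδO 0 v⟩)
  refine ⟨ov Z (⨆ i, O i), f, l, ?_, ?_, hlf l hl⟩
  · -- H-quasi-projectivity
    have hZc : CompactSpace Z.left := QuasiCompact.compactSpace_of_compactSpace Z.hom
    have hYq : QuasiSeparatedSpace Y.left := quasiSeparatedSpace_of_quasiSeparated Y.hom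
    have hZq : QuasiSeparatedSpace Z.left := quasiSeparatedSpace_of_quasiSeparated Z.hom
    have hOc : ∀ i, IsCompact (O i : Set Z.left) := by
      intro i
      have h1 : IsCompact (j.left.opensRange : Set Y.left) := by
        rw [Scheme.Hom.coe_opensRange, ← Set.image_univ]
        exact isCompact_univ.image j.left.continuous
      have h2 : QuasiCompact (g i).left := inferInstance
      exact QuasiCompact.isCompact_preimage (f := (g i).left) _ j.left.opensRange.2 h1
    have hc1 : IsCompact ((⨆ i, O i : Z.left.Opens) : Set Z.left) := by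
      rw [TopologicalSpace.Opens.coe_iSup]
      exact isCompact_iUnion hOc
    have hc2 : CompactSpace (⨆ i, O i : Z.left.Opens) := isCompact_iff_compactSpace.1 hc1
    have hq : QuasiCompact (⨆ i, O i : Z.left.Opens).ι := inferInstance
    refine ⟨N, (⨆ i, O i : Z.left.Opens).ι ≫ c,
      MorphismProperty.comp_mem (W := @IsImmersion) _ _ inferInstance inferInstance, inferInstance, ?_⟩
    rw [Category.assoc, hc']
    rfl
  · exact repWith_isProper_of_chart hX hp hps f fun B s t sq =>
      isProper_of_chart hsep hp C h0 j δ g hg (⨆ i, O i) (fun i => le_iSup O i) k hk f hf l hl (hlf l hl) s t sq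

theorem isSeparatedSp_of_mono (hsep : IsSeparatedSp X) {Z : Sp S} (i : Z ⟶ X) [Mono i] : IsSeparatedSp Z := by
  unfold IsSeparatedSp at *
  rw [K613.Chart.repWith_diag_iff] at hsep ⊢
  intro T a b
  obtain ⟨E, e, he, hc⟩ := hsep T (a ≫ i) (b ≫ i)
  refine ⟨E, e, ⟨?_, fun R r hr => he.lift R r ?_⟩, hc⟩
  · rw [← cancel_mono i, Category.assoc, Category.assoc, he.w]
  · rw [← Category.assoc, hr, Category.assoc]

theorem mono_of_closed {Z : Sp S} {i : Z ⟶ X} (hi : RepWith @IsClosedImmersion i) : Mono i := by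
  refine K613.Basic.mono_of_injective fun T x y hxy => ?_
  obtain ⟨E, e, e', sq⟩ := hi.1 (x ≫ i)
  have h1 : IsClosedImmersion e.left := hi.2 _ _ _ sq
  have hm : Mono e := K642.ChowCoprod.mono_of_left e
  obtain ⟨a, ha⟩ := (yon S).map_surjective (sq.lift x (𝟙 _) (by rw [Category.id_comp]))
  obtain ⟨b, hb⟩ := (yon S).map_surjective (sq.lift y (𝟙 _) (by rw [Category.id_comp, hxy]))
  have ha1 : (yon S).map a ≫ e' = x := by rw [ha, sq.lift_fst]
  have hb1 : (yon S).map b ≫ e' = y := by rw [hb, sq.lift_fst]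
  have ha2 : a ≫ e = 𝟙 _ := (yon S).map_injective (by
    rw [Functor.map_comp, ha, sq.lift_snd, CategoryTheory.Functor.map_id])
  have hb2 : b ≫ e = 𝟙 _ := (yon S).map_injective (by
    rw [Functor.map_comp, hb, sq.lift_snd, CategoryTheory.Functor.map_id])
  rw [← ha1, ← hb1, (cancel_mono e).1 (ha2.trans hb2.symm)]

/-- Weak Chow lemma for spaces with bounded charts. -/
theorem exists_of_noConf [IsAffine S] (n : ℕ) : ∀ {X : Sp S}, IsAlgSpace X → IsSeparatedSp X → ∀ {W : Over S},
    IsAffine W.left → LocallyOfFiniteType W.hom → ∀ {p : (yon S).obj W ⟶ X}, RepWith @Etale p →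
    RepWith @Surjective p → NoConf p (n + 1) →
    ∃ (T : Over S) (g : (yon S).obj T ⟶ X), RelProj.IsHQuasiProjective T.hom ∧ RepWith @IsProper g ∧
      Function.Surjective (Points.map g) := by
  induction n with
  | zero =>
    intro X hX hsep W hW hft p hp hps h0
    have hE : IsEmpty W.left := ⟨fun w => h0 (W.left.residueField w) _ (fun _ => rpι W w) _
      (fun i i' _ => Fin.ext (by omega)) (fun _ => rfl)⟩
    refine ⟨W, p, ?_, ?_, (K609.Points.surjective_ofPt_iff p).1 (K609.Points.surjective_ofPt_of_repWith_surjective hps)⟩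
    · obtain ⟨r, i, hi, hi'⟩ := K642.Model.exists_immersion W.hom
      have hqc : QuasiCompact i := by
        have : QuasiCompact (i ≫ CohB1.ProjSpaceOver.toBase r S) := by rw [hi']; infer_instance
        exact QuasiCompact.of_comp i (CohB1.ProjSpaceOver.toBase r S)
      exact ⟨r, i, hi, hqc, hi'⟩
    · refine repWith_isProper_of_chart hX hp hps p fun B s t sq => ?_
      have : IsIso t.left := isIso_of_isEmpty t.left
      infer_instance
  | succ n ih =>
    intro X hX hsep W hW hft p hp hps h0
    obtain ⟨C⟩ := exists_conf p hsep hW hp n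
    obtain ⟨T₁, g₁, l, hT₁, hg₁, hl⟩ := step hX hsep hW hft hp hps C h0
    have hopen : IsOpen (Set.range (Points.ofPt C.v)) := (K609.Points.isOpenMap_ofPt C.et).isOpen_range
    obtain ⟨Z, i, hZ, hi, hr, -⟩ := K598.Red.exists_isRedInduced hX (Set.range (Points.ofPt C.v))ᶜ
      hopen.isClosed_compl
    have hmono : Mono i := mono_of_closed hi
    obtain ⟨WZ, snd, pZ, sq⟩ := hi.1 p
    have hcl : IsClosedImmersion snd.left := hi.2 _ _ _ sq
    have hWZ : IsAffine WZ.left := isAffine_of_isAffineHom snd.left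
    have hftZ : LocallyOfFiniteType WZ.hom := by rw [← Over.w snd]; infer_instance
    have hpZ : RepWith @Etale pZ := MorphismProperty.of_isPullback sq.flip hp
    have hpsZ : RepWith @Surjective pZ := MorphismProperty.of_isPullback sq.flip hps
    have hno : NoConf pZ (n + 1) := by
      intro K _ κ b x hb hx
      obtain ⟨q, hq⟩ := C.univ K κ (fun k => b k ≫ snd) (x ≫ i) (fun k k' h => hb (by
        apply (yon S).map_injective
        refine sq.hom_ext ?_ ?_
        · rw [hx, hx]
        · rw [← Functor.map_comp, ← Functor.map_comp]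
          exact congrArg _ h)) (fun k => by
        rw [← hx k, Functor.map_comp, Category.assoc, Category.assoc, sq.w])
      have h1 : (yon S).map q ≫ C.v = x ≫ i := by
        rw [← C.ha 0, ← Category.assoc, ← Functor.map_comp, hq, ← hx 0, Functor.map_comp, Category.assoc,
          Category.assoc, sq.w]
      have h2 : Points.ofPt (x ≫ i) (pt K) ∈ Set.range (Points.map i) :=
        ⟨Points.ofPt x (pt K), (Points.map_ofPt _ _ _)⟩
      rw [hr, ← h1, K642.EtCov.ofPt_yon_map] at h2
      exact h2 ⟨_, rfl⟩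
    obtain ⟨T₂, g₂, hT₂, hg₂, hs₂⟩ := ih hZ (isSeparatedSp_of_mono hsep i) hWZ hftZ hpZ hpsZ hno
    have hg₂' : RepWith @IsProper (g₂ ≫ i) := MorphismProperty.comp_mem _ _ _ hg₂
      (K642.EtCov.repWith_mono (fun _ _ f (_ : IsClosedImmersion f) => (inferInstance : IsProper f)) hi)
    obtain ⟨T, g, i₁, i₂, hT, hg, hi₁, hi₂⟩ := exists_coprod hX hsep hp hps hT₁ hT₂ g₁ (g₂ ≫ i) hg₁ hg₂'
    refine ⟨T, g, hT, hg, ?_⟩
    rw [← K609.Points.surjective_ofPt_iff]
    intro x
    by_cases hx : x ∈ Set.range (Points.ofPt C.v)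
    · obtain ⟨v, rfl⟩ := hx
      refine ⟨i₁.left (l.left v), ?_⟩
      rw [← K642.EtCov.ofPt_yon_map, hi₁, ← K642.EtCov.ofPt_yon_map, hl]
    · have hx' : x ∈ Set.range (Points.map i) := by rw [hr]; exact hx
      obtain ⟨z, rfl⟩ := hx'
      obtain ⟨t, rfl⟩ := (K609.Points.surjective_ofPt_iff g₂).2 hs₂ z
      refine ⟨i₂.left t, ?_⟩
      rw [← K642.EtCov.ofPt_yon_map, hi₂, Points.map_ofPt]

/-- Charts of separated spaces over an affine base have bounded fibres. -/
theorem exists_noConf [IsAffine S] (hsep : IsSeparatedSp X) {W : Over S} (hW : IsAffine W.left)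
    {p : (yon S).obj W ⟶ X} (hp : RepWith @Etale p) : ∃ n, NoConf p (n + 1) := by
  obtain ⟨R, s, t, sq⟩ := hp.1 p
  obtain ⟨t, rfl⟩ := (yon S).map_surjective t
  have hR : IsAffine R.left := (K609.Sep.affine_pullback hsep sq).1
  have hs : Etale s.left := hp.2 _ _ _ sq
  obtain ⟨n, hn⟩ := K642.Bdd.exists_GE_eq_empty s.left
  refine ⟨n, fun K _ κ b x hb hx => ?_⟩
  have h1 : (b 0).left (pt K) ∈ GE s.left n := by
    have hlift : ∀ i : Fin n, ∃ y : Over.mk κ ⟶ R, y ≫ t = b i.succ ∧ y ≫ s = b 0 := by
      intro i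
      obtain ⟨y, hy⟩ := (yon S).map_surjective (sq.lift ((yon S).map (b i.succ)) ((yon S).map (b 0)) (by
        rw [hx, hx]))
      exact ⟨y, (yon S).map_injective (by rw [Functor.map_comp, hy, sq.lift_fst]),
        (yon S).map_injective (by rw [Functor.map_comp, hy, sq.lift_snd])⟩
    choose y hyt hys using hlift
    refine ⟨K, inferInstance, (b 0).left, fun i => (y i).left, fun z => ?_, fun i i' h => ?_, fun i => ?_⟩
    · rw [Spec_field_eq z (pt K)]
    · have h2 : y i = y i' := by
        ext1
        exact h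
      have h3 : b i.succ = b i'.succ := by rw [← hyt, ← hyt, h2]
      exact Fin.succ_injective _ (hb h3)
    · rw [← hys i]
      rfl
  rw [hn] at h1
  exact h1

/-- Weak Chow lemma. -/
theorem exists_weakChow [IsAffine S] (hX : IsAlgSpace X) (hsep : IsSeparatedSp X) {W : Over S}
    (hW : IsAffine W.left) (hft : LocallyOfFiniteType W.hom) {p : (yon S).obj W ⟶ X} (hp : RepWith @Etale p)
    (hps : RepWith @Surjective p) :
    ∃ (T : Over S) (g : (yon S).obj T ⟶ X), RelProj.IsHQuasiProjective T.hom ∧ RepWith @IsProper g ∧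
      Function.Surjective (Points.map g) := by
  obtain ⟨n, hn⟩ := exists_noConf hsep hW hp
  exact exists_of_noConf n hX hsep hW hft hp hps hn

end K642.WeakChow
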