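import Groth.Agent.AlgSp.K642.ChowProper
import Groth.Agent.AlgSp.K642.HQProj
import Groth.Agent.AlgSp.K642.EtCov
import Groth.Agent.AlgSp.K595.DescInst
import Groth.Agent.AlgSp.K609.Points
import Groth.Agent.Ega1.CDLift

/-!
# Weak Chow lemma: disjoint unions over an algebraic space
-/

set_option autoImplicit false
universe u
open CategoryTheory CategoryTheory.Limits AlgebraicGeometry Opposite

namespace K642.ChowCoprod

open AlgSp K642.Conf K642.ChowGlue K642.ChowProper K617.EtFin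

variable {S : Scheme.{u}} {X : Sp S}

/-- Properness of a morphism from a scheme can be tested on an etale chart. -/
theorem repWith_isProper_of_chart (hX : IsAlgSpace X) {W : Over S} {p : (yon S).obj W ⟶ X} (hp : RepWith @Etale p)
    (hps : RepWith @Surjective p) {T : Over S} (g : (yon S).obj T ⟶ X)
    (h : ∀ (B : Over S) (s : B ⟶ T) (t : B ⟶ W), IsPullback ((yon S).map s) ((yon S).map t) g p → IsProper t.left) :
    RepWith @IsProper g := by
  have hg : Representable g := Functor.relativelyRepresentable.of_diag hX.diag g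
  obtain ⟨B, t, s, sq⟩ := hg p
  obtain ⟨s, rfl⟩ := (yon S).map_surjective s
  have := K595.DescInst.isProper.{u}
  have hF : K613.Cover.FSurj p := (K613.Cover.ESurj.of_repWith hp hps).fSurj
  exact hF.repWith sq hg ((repWith_yon_map_iff _ _).2 (h B s t sq))

theorem hom_ext_of_isEmpty {R : Over S} [hR : IsEmpty R.left] (x y : (yon S).obj R ⟶ X) : x = y := by
  obtain ⟨z, -, hz⟩ := K613.Basic.glueFam (S := S) (F := X) (T := R) (ι := PEmpty.{u + 1}) (fun i => i.elim)
    (fun i => i.elim) (fun i => i.elim) (fun i => i.elim) (fun t => (hR.false t).elim) (fun i => i.elim)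
    (fun i => i.elim)
  exact (hz x fun i => i.elim).trans (hz y fun i => i.elim).symm

/-- The disjoint union of two schemes over the base. -/
noncomputable abbrev cop (T₁ T₂ : Over S) : Over S := Over.mk (coprod.desc T₁.hom T₂.hom)

noncomputable abbrev cinl (T₁ T₂ : Over S) : T₁ ⟶ cop T₁ T₂ := Over.homMk coprod.inl (coprod.inl_desc _ _)

noncomputable abbrev cinr (T₁ T₂ : Over S) : T₂ ⟶ cop T₁ T₂ := Over.homMk coprod.inr (coprod.inr_desc _ _)

theorem isOpenImmersion_cinl (T₁ T₂ : Over S) : IsOpenImmersion (cinl T₁ T₂).left :=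
  (inferInstance : IsOpenImmersion (coprod.inl : T₁.left ⟶ T₁.left ⨿ T₂.left))

theorem isOpenImmersion_cinr (T₁ T₂ : Over S) : IsOpenImmersion (cinr T₁ T₂).left :=
  (inferInstance : IsOpenImmersion (coprod.inr : T₂.left ⟶ T₁.left ⨿ T₂.left))

attribute [local instance] isOpenImmersion_cinl isOpenImmersion_cinr

theorem mem_cop {T₁ T₂ : Over S} (t : (cop T₁ T₂).left) :
    t ∈ (cinl T₁ T₂).left.opensRange ∨ t ∈ (cinr T₁ T₂).left.opensRange := by
  have hcompl : IsCompl (coprod.inl : T₁.left ⟶ T₁.left ⨿ T₂.left).opensRange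
      (coprod.inr : T₂.left ⟶ T₁.left ⨿ T₂.left).opensRange := isCompl_opensRange_inl_inr _ _
  have h3 : t ∈ (coprod.inl : T₁.left ⟶ T₁.left ⨿ T₂.left).opensRange ⊔
      (coprod.inr : T₂.left ⟶ T₁.left ⨿ T₂.left).opensRange := by
    rw [hcompl.sup_eq_top]; trivial
  exact h3

theorem mono_of_left {A B : Over S} (f : A ⟶ B) [Mono f.left] : Mono f := by
  have : Mono ((Over.forget S).map f) := (inferInstance : Mono f.left)
  exact (Over.forget S).mono_of_mono_map this

theorem isEmpty_of_inl_inr {T₁ T₂ R : Over S} (a : R ⟶ T₁) (b : R ⟶ T₂) (h : a ≫ cinl T₁ T₂ = b ≫ cinr T₁ T₂) :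
    IsEmpty R.left := by
  refine ⟨fun r => ?_⟩
  have hcompl : IsCompl (coprod.inl : T₁.left ⟶ T₁.left ⨿ T₂.left).opensRange
      (coprod.inr : T₂.left ⟶ T₁.left ⨿ T₂.left).opensRange := isCompl_opensRange_inl_inr _ _
  have h1 := hcompl.inf_eq_bot
  have h2 : (coprod.inl : T₁.left ⟶ T₁.left ⨿ T₂.left) (a.left r) ∈
      (coprod.inl : T₁.left ⟶ T₁.left ⨿ T₂.left).opensRange ⊓
        (coprod.inr : T₂.left ⟶ T₁.left ⨿ T₂.left).opensRange := by
    refine ⟨⟨_, rfl⟩, ⟨b.left r, ?_⟩⟩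
    have h4 := congrArg (fun m : R ⟶ cop T₁ T₂ => m.left r) h
    simp only [Over.comp_left, Scheme.Hom.comp_apply] at h4
    exact h4.symm
  rw [h1] at h2
  exact h2

theorem exists_desc {T₁ T₂ : Over S} (g₁ : (yon S).obj T₁ ⟶ X) (g₂ : (yon S).obj T₂ ⟶ X) :
    ∃ g : (yon S).obj (cop T₁ T₂) ⟶ X, (yon S).map (cinl T₁ T₂) ≫ g = g₁ ∧ (yon S).map (cinr T₁ T₂) ≫ g = g₂ := by
  let F : ULift.{u} Bool → Over S := fun b => match b with | ⟨true⟩ => T₁ | ⟨false⟩ => T₂
  let c : ∀ b, F b ⟶ cop T₁ T₂ := fun b => match b with | ⟨true⟩ => cinl T₁ T₂ | ⟨false⟩ => cinr T₁ T₂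
  let x : ∀ b, (yon S).obj (F b) ⟶ X := fun b => match b with | ⟨true⟩ => g₁ | ⟨false⟩ => g₂
  have hop : ∀ b, IsOpenImmersion (c b).left := fun b => match b with
    | ⟨true⟩ => (inferInstance : IsOpenImmersion (coprod.inl : T₁.left ⟶ T₁.left ⨿ T₂.left))
    | ⟨false⟩ => (inferInstance : IsOpenImmersion (coprod.inr : T₂.left ⟶ T₁.left ⨿ T₂.left))
  obtain ⟨g, hg, -⟩ := K613.Basic.glueFam (S := S) (F := X) (T := cop T₁ T₂) F c
    (fun b => by have := hop b; infer_instance) (fun b => by have := hop b; infer_instance)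
    (fun t => by
      rcases mem_cop t with ⟨y, hy⟩ | ⟨y, hy⟩
      · exact ⟨⟨true⟩, y, hy⟩
      · exact ⟨⟨false⟩, y, hy⟩) x
    (fun i j R a b hab => by
      match i, j with
      | ⟨true⟩, ⟨true⟩ =>
        have : Mono (cinl T₁ T₂) := by
          have : IsOpenImmersion (cinl T₁ T₂).left := hop ⟨true⟩
          exact mono_of_left _
        rw [(cancel_mono (cinl T₁ T₂)).1 hab]
      | ⟨false⟩, ⟨false⟩ =>
        have : Mono (cinr T₁ T₂) := by
          have : IsOpenImmersion (cinr T₁ T₂).left := hop ⟨false⟩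
          exact mono_of_left _
        rw [(cancel_mono (cinr T₁ T₂)).1 hab]
      | ⟨true⟩, ⟨false⟩ =>
        have := isEmpty_of_inl_inr a b hab
        exact hom_ext_of_isEmpty _ _
      | ⟨false⟩, ⟨true⟩ =>
        have := isEmpty_of_inl_inr b a hab.symm
        exact hom_ext_of_isEmpty _ _)
  exact ⟨g, hg ⟨true⟩, hg ⟨false⟩⟩

/-- Proper morphisms from two H-quasi-projective schemes to an algebraic space separated over an affine base give one
from the disjoint union. -/
theorem exists_coprod [IsAffine S] (hX : IsAlgSpace X) (hsep : IsSeparatedSp X) {W : Over S}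
    {p : (yon S).obj W ⟶ X} (hp : RepWith @Etale p) (hps : RepWith @Surjective p) {T₁ T₂ : Over S}
    (h₁ : RelProj.IsHQuasiProjective T₁.hom) (h₂ : RelProj.IsHQuasiProjective T₂.hom)
    (g₁ : (yon S).obj T₁ ⟶ X) (g₂ : (yon S).obj T₂ ⟶ X) (hg₁ : RepWith @IsProper g₁) (hg₂ : RepWith @IsProper g₂) :
    ∃ (T : Over S) (g : (yon S).obj T ⟶ X) (i₁ : T₁ ⟶ T) (i₂ : T₂ ⟶ T), RelProj.IsHQuasiProjective T.hom ∧
      RepWith @IsProper g ∧ (yon S).map i₁ ≫ g = g₁ ∧ (yon S).map i₂ ≫ g = g₂ := by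
  obtain ⟨g, hg1, hg2⟩ := exists_desc g₁ g₂
  have hT : RelProj.IsHQuasiProjective (cop T₁ T₂).hom := K642.HQProj.isHQuasiProjective_coprod h₁ h₂
  refine ⟨cop T₁ T₂, g, cinl T₁ T₂, cinr T₁ T₂, hT, ?_, hg1, hg2⟩
  refine repWith_isProper_of_chart hX hp hps g fun B s t sq => ?_
  have hTsep : IsSeparated (cop T₁ T₂).hom := K642.HQProj.isSeparated hT
  have hTlft : LocallyOfFiniteType (cop T₁ T₂).hom := K642.HQProj.locallyOfFiniteType hT
  have hcl := K609.Diag.prop_of_repWith_diag @IsClosedImmersion hsep sq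
  have ht : t.left = pullback.lift s.left t.left ((Over.w s).trans (Over.w t).symm) ≫
      pullback.snd (cop T₁ T₂).hom W.hom := by rw [pullback.lift_snd]
  have hts : IsSeparated t.left := by rw [ht]; infer_instance
  have htl : LocallyOfFiniteType t.left := by rw [ht]; infer_instance
  -- base changes of the two pieces
  have key : ∀ (T' : Over S) (i : T' ⟶ cop T₁ T₂) (g' : (yon S).obj T' ⟶ X), (yon S).map i ≫ g = g' →
      RepWith @IsProper g' → IsOpenImmersion i.left → ∃ (B' : Over S) (β : B' ⟶ B), IsProper (β ≫ t).left ∧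
        ∀ b : B.left, s.left b ∈ Set.range i.left → b ∈ Set.range β.left := by
    intro T' i g' hi hg' hop
    obtain ⟨B', t', s', sq'⟩ := hg'.1 p
    obtain ⟨s', rfl⟩ := (yon S).map_surjective s'
    have ht' : IsProper t'.left := hg'.2 _ _ _ sq'
    obtain ⟨β, hβ⟩ := (yon S).map_surjective (sq.lift ((yon S).map (s' ≫ i)) ((yon S).map t') (by
      rw [Functor.map_comp, Category.assoc, hi, sq'.w]))
    have hβs : β ≫ s = s' ≫ i := (yon S).map_injective (by rw [Functor.map_comp, hβ, sq.lift_fst])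
    have hβt : β ≫ t = t' := (yon S).map_injective (by rw [Functor.map_comp, hβ, sq.lift_snd])
    refine ⟨B', β, by rw [hβt]; exact ht', fun b hb => ?_⟩
    let x := rpι B b
    obtain ⟨x₁, hx₁⟩ := exists_lift_open i (x ≫ s) (fun q => by
      obtain ⟨y, hy⟩ := hb
      refine ⟨y, ?_⟩
      rw [hy, Over.comp_left, Scheme.Hom.comp_apply]
      congr 1
      exact (rpι_apply _ _ _).symm)
    obtain ⟨y, hy⟩ := (yon S).map_surjective (sq'.lift ((yon S).map x₁) ((yon S).map (x ≫ t)) (by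
      rw [← hi, ← Category.assoc, ← Functor.map_comp, hx₁, Functor.map_comp, Category.assoc, sq.w, Functor.map_comp,
        Category.assoc]))
    have hys : y ≫ s' = x₁ := (yon S).map_injective (by rw [Functor.map_comp, hy, sq'.lift_fst])
    have hyt : y ≫ t' = x ≫ t := (yon S).map_injective (by rw [Functor.map_comp, hy, sq'.lift_snd])
    have h3 : y ≫ β = x := by
      apply (yon S).map_injective
      refine sq.hom_ext ?_ ?_
      · rw [← Functor.map_comp, ← Functor.map_comp, Category.assoc, hβs, reassoc_of% hys, hx₁]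
      · rw [← Functor.map_comp, ← Functor.map_comp, Category.assoc, hβt, hyt]
    refine ⟨y.left (pt _), ?_⟩
    rw [← Scheme.Hom.comp_apply, ← Over.comp_left, h3]
    exact rpι_apply _ _ _
  obtain ⟨B₁, β₁, hb₁, hr₁⟩ := key T₁ (cinl T₁ T₂) g₁ hg1 hg₁
    (inferInstance : IsOpenImmersion (coprod.inl : T₁.left ⟶ T₁.left ⨿ T₂.left))
  obtain ⟨B₂, β₂, hb₂, hr₂⟩ := key T₂ (cinr T₁ T₂) g₂ hg2 hg₂
    (inferInstance : IsOpenImmersion (coprod.inr : T₂.left ⟶ T₁.left ⨿ T₂.left))
  let β : B₁.left ⨿ B₂.left ⟶ B.left := coprod.desc β₁.left β₂.left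
  have hβ : Surjective β := by
    refine ⟨fun b => ?_⟩
    rcases mem_cop (s.left b) with h | h
    · obtain ⟨y, hy⟩ := hr₁ b h
      refine ⟨(coprod.inl : B₁.left ⟶ B₁.left ⨿ B₂.left) y, ?_⟩
      rw [← Scheme.Hom.comp_apply, coprod.inl_desc, hy]
    · obtain ⟨y, hy⟩ := hr₂ b h
      refine ⟨(coprod.inr : B₂.left ⟶ B₁.left ⨿ B₂.left) y, ?_⟩
      rw [← Scheme.Hom.comp_apply, coprod.inr_desc, hy]
  have hβt : IsProper (β ≫ t.left) := by
    have h1 : β ≫ t.left = coprod.desc (β₁ ≫ t).left (β₂ ≫ t).left := by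
      rw [coprod.desc_comp]
      rfl
    rw [h1]
    exact Groth.Agent.Ega1.CDLift.isProper_coprodDesc _ _
  have huc : UniversallyClosed t.left := UniversallyClosed.of_comp_surjective β t.left
  exact { }

end K642.ChowCoprod
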