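import Groth.Agent.AlgSp.K642.Charts
import Groth.Agent.AlgSp.K609.Points
/-!
Affine étale charts refining affine étale charts of the base.
-/

universe u

open CategoryTheory CategoryTheory.Limits AlgebraicGeometry Opposite AlgSp

set_option backward.isDefEq.respectTransparency false

namespace K642.Charts2

open K642.Charts

variable {S : Scheme.{u}}

/-- Affine étale charts of `Z` refining affine étale charts of `B`, for `π : Z ⟶ B`. -/
theorem exists_affine_charts_over {Z B : Sp S} (hZ : IsAlgSpace Z) (hB : IsAlgSpace B) (π : Z ⟶ B) :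
    ∃ (ι : Type u) (B' Zs : ι → Over S) (b : ∀ a, (yon S).obj (B' a) ⟶ B) (z : ∀ a, Zs a ⟶ B' a)
      (m : ∀ a, (yon S).obj (Zs a) ⟶ Z), (∀ a, IsAffine (B' a).left) ∧ (∀ a, IsAffine (Zs a).left) ∧
        (∀ a, RepWith @Etale (b a)) ∧ (∀ a, RepWith @Etale (m a)) ∧
        (∀ a, m a ≫ π = (yon S).map (z a) ≫ b a) ∧
        ∀ x : Points Z, ∃ (a : ι) (v : ↥(Zs a).left), Points.ofPt (m a) v = x := by
  obtain ⟨ι₁, B', b, hB', hb, hbs⟩ := exists_affine_charts B hB
  have hP : ∀ k, IsAlgSpace (pullback π (b k)) := fun k =>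
    K613.Chart.isAlgSpace_pullback hZ (IsAlgSpace.yon_obj _) hB _ _
  choose ι₂ V m hV hm hms using fun k => exists_affine_charts (pullback π (b k)) (hP k)
  have hfst : ∀ k, RepWith @Etale (pullback.fst π (b k)) := fun k =>
    MorphismProperty.of_isPullback (IsPullback.of_hasPullback π (b k)).flip (hb k)
  choose z hz using fun (k : ι₁) (l : ι₂ k) => (yon S).map_surjective (m k l ≫ pullback.snd π (b k))
  refine ⟨Σ k, ι₂ k, fun a => B' a.1, fun a => V a.1 a.2, fun a => b a.1, fun a => z a.1 a.2,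
    fun a => m a.1 a.2 ≫ pullback.fst π (b a.1), fun a => hB' _, fun a => hV _ _, fun a => hb _,
    fun a => MorphismProperty.comp_mem _ _ _ (hm _ _) (hfst _), fun a => ?_, fun x => ?_⟩
  · rw [hz, Category.assoc, Category.assoc, pullback.condition]
  · obtain ⟨k, v, hv⟩ := hbs (Points.map π x)
    obtain ⟨q, hq, -⟩ := K609.Points.exists_of_isPullback (IsPullback.of_hasPullback π (b k)) x
      (Points.ofScheme _ v) (by rw [← hv]; exact Points.ofPt_eq_map_ofScheme _ _)
    obtain ⟨l, w, hw⟩ := hms k q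
    exact ⟨⟨k, l⟩, w, by rw [← hq, ← hw, Points.map_ofPt]⟩

end K642.Charts2
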