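import Groth.Agent.AlgSp.K617.EtFin2

/-!
# Etale separated quasi-compact morphisms to a quasi-compact quasi-separated scheme have bounded geometric fibres
-/

set_option autoImplicit false
universe u
open CategoryTheory CategoryTheory.Limits AlgebraicGeometry Opposite Topology

namespace K642.Bdd

open K617.EtFin

theorem quasiCompact_offSnd {Y T : Scheme.{u}} (f : Y ⟶ T) [Etale f] [IsSeparated f] [QuasiCompact f] :
    QuasiCompact (offSnd f) := by
  have h1 : IsClosed (Set.range (offDiag f).ι) := by
    rw [Scheme.Opens.range_ι]
    have h2 : ((offDiag f : (pullback f f).Opens) : Set ↑(pullback f f)) =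
        (Set.range (pullback.diagonal f))ᶜ := by
      ext z
      exact mem_offDiag f z
    rw [h2, isClosed_compl_iff]
    have h3 : IsOpenImmersion (pullback.diagonal f) := inferInstance
    exact h3.base_open.isOpen_range
  have h4 : IsClosedImmersion (offDiag f).ι := IsClosedImmersion.of_isPreimmersion _ h1
  unfold offSnd
  infer_instance

theorem isCompact_GE (n : ℕ) : ∀ {Y T : Scheme.{u}} (f : Y ⟶ T) [Etale f] [IsSeparated f] [QuasiCompact f]
    [CompactSpace T], IsCompact (GE f n) := by
  induction n with
  | zero => intro Y T f _ _ _ _; rw [GE_zero]; exact isCompact_univ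
  | succ n ih =>
    intro Y T f _ _ _ _
    have := quasiCompact_offSnd f
    have : CompactSpace Y := QuasiCompact.compactSpace_of_compactSpace f
    rw [GE_succ_eq_image]
    exact (ih (offSnd f)).image f.continuous

/-- Bounded geometric fibres. -/
theorem exists_GE_eq_empty {Y T : Scheme.{u}} (f : Y ⟶ T) [Etale f] [IsSeparated f] [QuasiCompact f]
    [CompactSpace T] [QuasiSeparatedSpace T] : ∃ n, GE f n = ∅ := by
  by_contra hne
  push Not at hne
  let K : ℕ → Set (WithConstructibleTopology T) := fun n =>
    (WithTopology.ofTopology (t := constructibleTopology T)) ⁻¹' (GE f n)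
  have hK : ∀ n, IsClosed (K n) := by
    intro n
    rw [WithConstructibleTopology.isClosed_iff]
    change IsClosed[constructibleTopology T] (GE f n)
    rw [← @isOpen_compl_iff _ _ (constructibleTopology T)]
    exact IsCompact.isOpen_constructibleTopology_of_isClosed
      (by rw [compl_compl]; exact isCompact_GE n f) (isOpen_GE n f).isClosed_compl
  have hKne : ∀ n, (K n).Nonempty := fun n => by
    obtain ⟨x, hx⟩ := hne n
    exact ⟨WithTopology.toTopology _ x, hx⟩
  have hanti : ∀ n, K (n + 1) ⊆ K n := fun n x hx => GE_antitone f (Nat.le_succ n) hx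
  obtain ⟨x, hx⟩ := IsCompact.nonempty_iInter_of_sequence_nonempty_isCompact_isClosed K hanti hKne
    (hK 0).isCompact hK
  rw [Set.mem_iInter] at hx
  let t : T := WithTopology.ofTopology x
  have ht : ∀ n, t ∈ GE f n := fun n => hx n
  obtain ⟨n, hn⟩ := GE_eq_empty_of_compactSpace (k := T.residueField t) (pullback.snd f (frf T t))
  have h1 := (mem_GE_of_isPullback (IsPullback.of_hasPullback f (frf T t)) n (pt _)).2
    (by rw [frf_apply]; exact ht n)
  rw [hn] at h1
  exact h1

end K642.Bdd
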