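import Groth.Agent.AlgSp.K642.Conf
import Groth.Agent.AlgSp.K613.Diag
import Mathlib.AlgebraicGeometry.Morphisms.SchemeTheoreticallyDominant

/-!
# Weak Chow lemma: glueing the projections of a closure of the configuration scheme
-/

set_option autoImplicit false
universe u
open CategoryTheory CategoryTheory.Limits AlgebraicGeometry Opposite

namespace K642.ChowGlue

open AlgSp K642.Conf

variable {S : Scheme.{u}} {X : Sp S}

/-- Two maps to a separated algebraic space which agree on a scheme theoretically dense part are equal. -/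
theorem hom_ext_of_dominant (hX : IsSeparatedSp X) {D T : Over S} (d : D ⟶ T)
    [hd : IsSchemeTheoreticallyDominant d.left] {x y : (yon S).obj T ⟶ X}
    (h : (yon S).map d ≫ x = (yon S).map d ≫ y) : x = y := by
  obtain ⟨E, e, he, hc⟩ := (K613.Chart.repWith_diag_iff _).1 hX T x y
  obtain ⟨l, hl, -⟩ := he.lift D d h
  have hker : e.left.ker = (𝟙 T.left : T.left ⟶ T.left).ker := by
    have h1 : d.left.ker = ⊥ := d.left.ker_eq_bot
    have h2 : e.left.ker ≤ d.left.ker := by
      rw [← hl, Over.comp_left]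
      exact Scheme.Hom.le_ker_comp _ _
    rw [h1, le_bot_iff] at h2
    rw [h2]
    exact (Scheme.Hom.ker_eq_bot (𝟙 T.left)).symm
  have h3 : IsIso e.left := IsClosedImmersion.isIso_of_ker_eq e.left (𝟙 T.left) e.left
    (Category.comp_id _) hker
  have h4 : IsIso e := by
    have : IsIso ((Over.forget S).map e) := h3
    exact isIso_of_reflects_iso e (Over.forget S)
  rw [← cancel_epi ((yon S).map e)]
  exact he.w

/-- An open subscheme as an object over the base. -/
abbrev ov (Z : Over S) (U : Z.left.Opens) : Over S := Over.mk (U.ι ≫ Z.hom)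

abbrev ovι (Z : Over S) (U : Z.left.Opens) : ov Z U ⟶ Z := Over.homMk U.ι rfl

noncomputable abbrev ovLE (Z : Over S) {U V : Z.left.Opens} (h : U ≤ V) : ov Z U ⟶ ov Z V :=
  Over.homMk (Z.left.homOfLE h) (by simp)

theorem ovLE_ι (Z : Over S) {U V : Z.left.Opens} (h : U ≤ V) : ovLE Z h ≫ ovι Z V = ovι Z U := by
  ext1
  exact Z.left.homOfLE_ι h

theorem mono_ovι (Z : Over S) (U : Z.left.Opens) : Mono (ovι Z U) := by
  have : Mono ((Over.forget S).map (ovι Z U)) := (inferInstance : Mono U.ι)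
  exact (Over.forget S).mono_of_mono_map this

/-- Lifting to an open subscheme. -/
theorem exists_lift_ov {Z Q : Over S} (U : Z.left.Opens) (f : Q ⟶ Z) (h : ∀ q : Q.left, f.left q ∈ U) :
    ∃ l : Q ⟶ ov Z U, l ≫ ovι Z U = f := by
  let r : Q.left ⟶ U := IsOpenImmersion.lift U.ι f.left (by
    rw [Scheme.Opens.range_ι]
    rintro _ ⟨q, rfl⟩
    exact h q)
  have hr : r ≫ U.ι = f.left := IsOpenImmersion.lift_fac _ _ _
  refine ⟨Over.homMk r ?_, ?_⟩
  · dsimp
    rw [reassoc_of% hr, Over.w]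
  · ext1
    exact hr

/-- Lifting along an open immersion. -/
theorem exists_lift_open {Z Q P : Over S} (j : P ⟶ Z) [IsOpenImmersion j.left] (f : Q ⟶ Z)
    (h : ∀ q : Q.left, f.left q ∈ j.left.opensRange) : ∃ l : Q ⟶ P, l ≫ j = f := by
  let r : Q.left ⟶ P.left := IsOpenImmersion.lift j.left f.left (by
    rintro _ ⟨q, rfl⟩
    exact h q)
  have hr : r ≫ j.left = f.left := IsOpenImmersion.lift_fac _ _ _
  refine ⟨Over.homMk r ?_, ?_⟩
  · rw [← Over.w j, reassoc_of% hr, Over.w]
  · ext1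
    exact hr

/-- A lift of a scheme theoretically dominant morphism to an open subscheme is scheme theoretically dominant. -/
theorem dominant_lift {Z Q : Over S} (U : Z.left.Opens) (f : Q ⟶ Z) [IsSchemeTheoreticallyDominant f.left]
    [QuasiCompact f.left] (l : Q ⟶ ov Z U) (hl : l ≫ ovι Z U = f) :
    IsSchemeTheoreticallyDominant l.left ∧ QuasiCompact l.left := by
  have h : l.left ≫ U.ι = 𝟙 _ ≫ f.left := by
    rw [Category.id_comp, ← hl]
    rfl
  have sq : IsPullback l.left (𝟙 _) U.ι f.left := IsPullback.of_vert_isIso_mono ⟨h⟩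
  exact ⟨IsSchemeTheoreticallyDominant.of_isPullback sq.flip,
    MorphismProperty.of_isPullback (P := @QuasiCompact) sq.flip inferInstance⟩

variable {W : Over S} {p : (yon S).obj W ⟶ X} {n : ℕ}

/-- Glueing of the projections. -/
theorem exists_glue (hX : IsSeparatedSp X) (C : Cf p (n + 1)) {Y Z : Over S} (j : W ⟶ Y) (δ : C.V ⟶ Z)
    (g : Fin (n + 1) → (Z ⟶ Y)) [IsOpenImmersion j.left] [IsSchemeTheoreticallyDominant δ.left]
    [QuasiCompact δ.left] (hg : ∀ i, δ ≫ g i = C.a i ≫ j) (k : ∀ i, ov Z ((g i).left ⁻¹ᵁ j.left.opensRange) ⟶ W)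
    (hk : ∀ i, k i ≫ j = ovι Z _ ≫ g i) :
    ∃ f : (yon S).obj (ov Z (⨆ i, (g i).left ⁻¹ᵁ j.left.opensRange)) ⟶ X,
      (∀ i, (yon S).map (ovLE Z (le_iSup (fun i => (g i).left ⁻¹ᵁ j.left.opensRange) i)) ≫ f =
        (yon S).map (k i) ≫ p) ∧
      ∀ l : C.V ⟶ ov Z (⨆ i, (g i).left ⁻¹ᵁ j.left.opensRange), l ≫ ovι Z _ = δ → (yon S).map l ≫ f = C.v := by
  let O : Fin (n + 1) → Z.left.Opens := fun i => (g i).left ⁻¹ᵁ j.left.opensRange
  have hmonoj : Mono j := by
    have : Mono ((Over.forget S).map j) := (inferInstance : Mono j.left)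
    exact (Over.forget S).mono_of_mono_map this
  have hδ : ∀ i (v : C.V.left), δ.left v ∈ O i := by
    intro i v
    have h1 := congrArg (fun m : C.V ⟶ Y => m.left v) (hg i)
    simp only [Over.comp_left, Scheme.Hom.comp_apply] at h1
    exact ⟨(C.a i).left v, h1.symm⟩
  have hagree : ∀ i i', (yon S).map (ovLE Z (inf_le_left : O i ⊓ O i' ≤ O i)) ≫ (yon S).map (k i) ≫ p =
      (yon S).map (ovLE Z (inf_le_right : O i ⊓ O i' ≤ O i')) ≫ (yon S).map (k i') ≫ p := by
    intro i i'
    obtain ⟨l, hl⟩ := exists_lift_ov (O i ⊓ O i') δ (fun v => ⟨hδ i v, hδ i' v⟩)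
    have h1 := (dominant_lift _ δ l hl).1
    refine hom_ext_of_dominant hX l ?_
    have key : ∀ (i'' : Fin (n + 1)) (h : O i ⊓ O i' ≤ O i''),
        (yon S).map l ≫ (yon S).map (ovLE Z h) ≫ (yon S).map (k i'') ≫ p = C.v := by
      intro i'' h
      rw [← Category.assoc, ← Category.assoc, ← Functor.map_comp, ← Functor.map_comp]
      have h2 : (l ≫ ovLE Z h) ≫ k i'' = C.a i'' := by
        rw [← cancel_mono j, Category.assoc, hk, ← hg i'', ← hl]
        simp only [Category.assoc]
        rw [reassoc_of% ovLE_ι]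
      rw [h2, C.ha]
    rw [key, key]
  obtain ⟨f, hf, -⟩ := K613.Basic.glueFam (S := S) (F := X) (T := ov Z (⨆ i, O i)) (ι := ULift.{u} (Fin (n + 1)))
    (fun i => ov Z (O i.down)) (fun i => ovLE Z (le_iSup O i.down))
    (fun i => (inferInstance : Flat (Z.left.homOfLE (le_iSup O i.down))))
    (fun i => (inferInstance : LocallyOfFinitePresentation (Z.left.homOfLE (le_iSup O i.down))))
    (fun t => by
      obtain ⟨i, hi⟩ := TopologicalSpace.Opens.mem_iSup.1 t.2
      refine ⟨⟨i⟩, ⟨t.1, hi⟩, ?_⟩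
      apply Subtype.ext
      exact Scheme.homOfLE_apply (le_iSup O i) _) (fun i => (yon S).map (k i.down) ≫ p)
    (fun i i' R a b hab => by
      have h1 : a ≫ ovι Z (O i.down) = b ≫ ovι Z (O i'.down) := by
        rw [← ovLE_ι Z (le_iSup O i.down), ← ovLE_ι Z (le_iSup O i'.down), reassoc_of% hab]
      obtain ⟨r, hr⟩ := exists_lift_ov (O i.down ⊓ O i'.down) (a ≫ ovι Z (O i.down)) (fun q => by
        refine ⟨(a.left q).2, ?_⟩
        rw [h1]
        exact (b.left q).2)
      have ha : r ≫ ovLE Z inf_le_left = a := by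
        have := mono_ovι Z (O i.down)
        rw [← cancel_mono (ovι Z (O i.down)), Category.assoc, ovLE_ι, hr]
      have hb : r ≫ ovLE Z inf_le_right = b := by
        have := mono_ovι Z (O i'.down)
        rw [← cancel_mono (ovι Z (O i'.down)), Category.assoc, ovLE_ι, hr, h1]
      rw [← ha, ← hb, Functor.map_comp, Functor.map_comp, Category.assoc, Category.assoc, hagree])
  refine ⟨f, fun i => hf ⟨i⟩, fun l hl => ?_⟩
  obtain ⟨l', hl'⟩ := exists_lift_ov (O 0) δ (hδ 0)
  have h1 : l = l' ≫ ovLE Z (le_iSup O 0) := by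
    have := mono_ovι Z (⨆ i, O i)
    rw [← cancel_mono (ovι Z (⨆ i, O i)), Category.assoc, ovLE_ι, hl', hl]
  have h2 : l' ≫ k 0 = C.a 0 := by
    rw [← cancel_mono j, Category.assoc, hk, reassoc_of% hl', hg]
  rw [h1, Functor.map_comp, Category.assoc, hf ⟨0⟩, ← Category.assoc, ← Functor.map_comp, h2, C.ha]

end K642.ChowGlue
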