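import Groth.Agent.AlgSp.K642.ChowGlue

/-!
# Weak Chow lemma: properness of the glued morphism, tested on the chart
-/

set_option autoImplicit false
universe u
open CategoryTheory CategoryTheory.Limits AlgebraicGeometry Opposite

namespace K642.ChowProper

open AlgSp K642.Conf K642.ChowGlue K617.EtFin

variable {S : Scheme.{u}} {X : Sp S}

/-- The spectrum of the residue field of a point, over the base. -/
noncomputable abbrev rp (T : Over S) (t : T.left) : Over S :=
  Over.mk (Y := Spec (CommRingCat.of ↑(T.left.residueField t))) (frf T.left t ≫ T.hom)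

noncomputable abbrev rpι (T : Over S) (t : T.left) : rp T t ⟶ T := Over.homMk (frf T.left t) rfl

theorem rpι_apply (T : Over S) (t : T.left) (x : (rp T t).left) : (rpι T t).left x = t := frf_apply _ _ _

/-- The product over the base. -/
noncomputable abbrev prd (Z W : Over S) : Over S := Over.mk (pullback.fst Z.hom W.hom ≫ Z.hom)

noncomputable abbrev prd₁ (Z W : Over S) : prd Z W ⟶ Z := Over.homMk (pullback.fst Z.hom W.hom) rfl

noncomputable abbrev prd₂ (Z W : Over S) : prd Z W ⟶ W :=
  Over.homMk (pullback.snd Z.hom W.hom) pullback.condition.symm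

theorem prd_ext {Z W Q : Over S} {x y : Q ⟶ prd Z W} (h₁ : x ≫ prd₁ Z W = y ≫ prd₁ Z W)
    (h₂ : x ≫ prd₂ Z W = y ≫ prd₂ Z W) : x = y := by
  ext1
  apply pullback.hom_ext
  · exact congrArg (fun m : Q ⟶ Z => m.left) h₁
  · exact congrArg (fun m : Q ⟶ W => m.left) h₂

theorem exists_prd {Z W Q : Over S} (x : Q ⟶ Z) (y : Q ⟶ W) :
    ∃ m : Q ⟶ prd Z W, m ≫ prd₁ Z W = x ∧ m ≫ prd₂ Z W = y ∧
      m.left = pullback.lift x.left y.left ((Over.w x).trans (Over.w y).symm) := by
  refine ⟨Over.homMk (pullback.lift x.left y.left ((Over.w x).trans (Over.w y).symm)) ?_, ?_, ?_, rfl⟩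
  · change _ ≫ _ ≫ _ = _
    rw [pullback.lift_fst_assoc, Over.w]
  · ext1
    exact pullback.lift_fst _ _ _
  · ext1
    exact pullback.lift_snd _ _ _

variable {W : Over S} {p : (yon S).obj W ⟶ X} {n : ℕ}

theorem isProper_of_chart (hX : IsSeparatedSp X) (hp : RepWith @Etale p) (C : Cf p n) (h0 : NoConf p (n + 1))
    {Y Z : Over S} (j : W ⟶ Y) (δ : C.V ⟶ Z) (g : Fin n → (Z ⟶ Y)) [IsOpenImmersion j.left]
    [IsSchemeTheoreticallyDominant δ.left] [QuasiCompact δ.left] [IsProper Z.hom] [IsSeparated Y.hom]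
    (hg : ∀ i, δ ≫ g i = C.a i ≫ j) (O : Z.left.Opens) (hO : ∀ i, (g i).left ⁻¹ᵁ j.left.opensRange ≤ O)
    (k : ∀ i, ov Z ((g i).left ⁻¹ᵁ j.left.opensRange) ⟶ W)
    (hk : ∀ i, k i ≫ j = ovι Z _ ≫ g i) (f : (yon S).obj (ov Z O) ⟶ X)
    (hf : ∀ i, (yon S).map (ovLE Z (hO i)) ≫ f = (yon S).map (k i) ≫ p)
    (l : C.V ⟶ ov Z O) (hl : l ≫ ovι Z O = δ) (hlf : (yon S).map l ≫ f = C.v)
    {B : Over S} (s : B ⟶ ov Z O) (t : B ⟶ W) (sq : IsPullback ((yon S).map s) ((yon S).map t) f p) :
    IsProper t.left := by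
  have hmonoj : Mono j := by
    have : Mono ((Over.forget S).map j) := (inferInstance : Mono j.left)
    exact (Over.forget S).mono_of_mono_map this
  obtain ⟨θ, hθ₁, hθ₂, hθ⟩ := exists_prd (s ≫ ovι Z O) t
  have hs : Etale s.left := hp.2 _ _ _ sq.flip
  -- `θ` is an immersion
  have himm : IsImmersion θ.left := by
    have h1 := K609.Diag.prop_of_repWith_diag @IsClosedImmersion hX sq
    have h2 : θ.left = pullback.lift s.left t.left ((Over.w s).trans (Over.w t).symm) ≫
        pullback.map (ov Z O).hom W.hom Z.hom W.hom O.ι (𝟙 _) (𝟙 _) (by rw [Category.comp_id]; rfl)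
          (by rw [Category.comp_id, Category.id_comp]) := by
      rw [hθ]
      apply pullback.hom_ext
      · rw [pullback.lift_fst, Category.assoc, pullback.lift_fst, pullback.lift_fst_assoc]
        rfl
      · rw [pullback.lift_snd, Category.assoc, pullback.lift_snd, pullback.lift_snd_assoc, Category.comp_id]
    rw [h2]
    exact MorphismProperty.comp_mem (W := @IsImmersion) _ _ inferInstance inferInstance
  -- its range
  let Γ : Fin n → Set (prd Z W).left := fun i =>
    Set.range (equalizer.ι (prd₁ Z W ≫ g i) (prd₂ Z W ≫ j)).left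
  have hΓ : IsClosed (⋃ i, Γ i) := isClosed_iUnion_of_finite fun i =>
    (Scheme.Hom.isClosedEmbedding (equalizer.ι (prd₁ Z W ≫ g i) (prd₂ Z W ≫ j)).left).isClosed_range
  have hrange : Set.range θ.left = ⋃ i, Γ i := by
    apply subset_antisymm
    · -- the dense part
      have sqD : IsPullback (pullback.fst l s).left (pullback.snd l s).left l.left s.left :=
        (IsPullback.of_hasPullback l s).map (Over.forget S)
      obtain ⟨hl1, hl2⟩ := dominant_lift O δ l hl
      have hd1 : IsSchemeTheoreticallyDominant (pullback.snd l s).left :=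
        IsSchemeTheoreticallyDominant.of_isPullback sqD
      have hd2 : QuasiCompact (pullback.snd l s).left :=
        MorphismProperty.of_isPullback (P := @QuasiCompact) sqD inferInstance
      have hd3 : DenseRange (pullback.snd l s).left := (inferInstance : IsDominant _).1
      have hsub : Set.range (pullback.snd l s).left ⊆ θ.left ⁻¹' (⋃ i, Γ i) := by
        rintro _ ⟨d, rfl⟩
        let x := rpι (pullback l s) d
        obtain ⟨i, hi⟩ := C.exists_eq h0 _ (x ≫ pullback.fst l s) (x ≫ pullback.snd l s ≫ t) (by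
          rw [← hlf, ← Category.assoc, ← Functor.map_comp, Category.assoc, pullback.condition, Functor.map_comp,
            Functor.map_comp, Category.assoc, Category.assoc, sq.w, Functor.map_comp, Functor.map_comp,
            Category.assoc, Category.assoc])
        have h1 : (x ≫ pullback.snd l s ≫ θ) ≫ prd₁ Z W ≫ g i = (x ≫ pullback.snd l s ≫ θ) ≫ prd₂ Z W ≫ j := by
          simp only [Category.assoc]
          rw [reassoc_of% hθ₁, reassoc_of% hθ₂, ← pullback.condition_assoc, reassoc_of% hl, hg, reassoc_of% hi]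
        refine Set.mem_iUnion.2 ⟨i, (equalizer.lift _ h1).left (pt _), ?_⟩
        rw [← Scheme.Hom.comp_apply, ← Over.comp_left, equalizer.lift_ι]
        simp only [Over.comp_left, Scheme.Hom.comp_apply]
        congr 2
        exact rpι_apply _ _ _
      rintro _ ⟨b, rfl⟩
      have h2 : closure (Set.range (pullback.snd l s).left) ⊆ θ.left ⁻¹' (⋃ i, Γ i) :=
        closure_minimal hsub (hΓ.preimage θ.left.continuous)
      exact h2 (hd3 b)
    · refine Set.iUnion_subset fun i => ?_
      rintro _ ⟨γ, rfl⟩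
      obtain ⟨x, hxd⟩ : ∃ x, x = rpι _ γ ≫ equalizer.ι (prd₁ Z W ≫ g i) (prd₂ Z W ≫ j) := ⟨_, rfl⟩
      have hx : x ≫ prd₁ Z W ≫ g i = x ≫ prd₂ Z W ≫ j := by
        rw [hxd, Category.assoc, Category.assoc, equalizer.condition]
      obtain ⟨x₁, hx₁⟩ := exists_lift_ov ((g i).left ⁻¹ᵁ j.left.opensRange) (x ≫ prd₁ Z W) (fun q => by
        have h1 := congrArg (fun m : _ ⟶ Y => m.left q) hx
        refine ⟨(x ≫ prd₂ Z W).left q, ?_⟩
        simp only [Over.comp_left, Scheme.Hom.comp_apply] at h1 ⊢
        exact h1.symm)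
      have h2 : x₁ ≫ k i = x ≫ prd₂ Z W := by
        rw [← cancel_mono j, Category.assoc, hk, reassoc_of% hx₁, Category.assoc, hx]
      obtain ⟨y, hy⟩ := (yon S).map_surjective (sq.lift ((yon S).map (x₁ ≫ ovLE Z (hO i)))
        ((yon S).map (x ≫ prd₂ Z W)) (by
          rw [Functor.map_comp, Category.assoc, hf, ← h2, Functor.map_comp, Category.assoc]))
      have hys : y ≫ s = x₁ ≫ ovLE Z (hO i) := (yon S).map_injective (by rw [Functor.map_comp, hy, sq.lift_fst])
      have hyt : y ≫ t = x ≫ prd₂ Z W := (yon S).map_injective (by rw [Functor.map_comp, hy, sq.lift_snd])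
      have h3 : y ≫ θ = x := by
        refine prd_ext ?_ ?_
        · rw [Category.assoc, hθ₁, reassoc_of% hys, ovLE_ι, hx₁]
        · rw [Category.assoc, hθ₂, hyt]
      refine ⟨y.left (pt _), ?_⟩
      rw [← Scheme.Hom.comp_apply, ← Over.comp_left, h3]
      simp only [hxd, Over.comp_left, Scheme.Hom.comp_apply]
      congr 1
      exact rpι_apply _ _ _
  have hcl : IsClosedImmersion θ.left := IsClosedImmersion.of_isPreimmersion _ (by rw [hrange]; exact hΓ)
  have h4 : t.left = θ.left ≫ pullback.snd Z.hom W.hom := by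
    rw [hθ, pullback.lift_snd]
  rw [h4]
  infer_instance

end K642.ChowProper
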