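import Groth.Agent.AlgSp.K642.Bdd
import Groth.Agent.AlgSp.K609.SepAff
import Groth.Agent.AlgSp.K609.Sep
import Mathlib.AlgebraicGeometry.Morphisms.FlatMono

/-!
# Configuration schemes of an etale chart

`Cf p n`: the scheme `V` of `n` pairwise distinct points of `W` over the same point of `X` (`p : h_W ⟶ X` etale, `W`
affine, `X` separated over an affine base), through its universal property for field valued points.
-/

set_option autoImplicit false
universe u
open CategoryTheory CategoryTheory.Limits AlgebraicGeometry Opposite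

namespace K642.Conf

open AlgSp

variable {S : Scheme.{u}} {X : Sp S} {W : Over S} (p : (yon S).obj W ⟶ X)

/-- There are no `n` distinct field valued points of `W` over the same point of `X`. -/
def NoConf (n : ℕ) : Prop :=
  ∀ (K : Type u) [Field K] (κ : Spec (CommRingCat.of K) ⟶ S) (b : Fin n → (Over.mk κ ⟶ W))
    (x : (yon S).obj (Over.mk κ) ⟶ X), Function.Injective b → (∀ i, (yon S).map (b i) ≫ p = x) → False

/-- The scheme of `n` distinct points of `W` over the same point of `X`. -/
structure Cf (n : ℕ) where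
  V : Over S
  aff : IsAffine V.left
  a : Fin n → (V ⟶ W)
  v : (yon S).obj V ⟶ X
  et : RepWith @Etale v
  ha : ∀ i, (yon S).map (a i) ≫ p = v
  inj : ∀ (K : Type u) [Field K] (κ : Spec (CommRingCat.of K) ⟶ S) (q : Over.mk κ ⟶ V),
    Function.Injective fun i => q ≫ a i
  univ : ∀ (K : Type u) [Field K] (κ : Spec (CommRingCat.of K) ⟶ S) (b : Fin n → (Over.mk κ ⟶ W))
    (x : (yon S).obj (Over.mk κ) ⟶ X), Function.Injective b → (∀ i, (yon S).map (b i) ≫ p = x) →
    ∃ q : Over.mk κ ⟶ V, ∀ i, q ≫ a i = b i

theorem conf_one (hW : IsAffine W.left) (hp : RepWith @Etale p) : Nonempty (Cf p 1) :=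
  ⟨{  V := W
      aff := hW
      a := fun _ => 𝟙 W
      v := p
      et := hp
      ha := fun _ => by rw [CategoryTheory.Functor.map_id, Category.id_comp]
      inj := fun K _ κ q i j _ => Subsingleton.elim _ _
      univ := fun K _ κ b x _ _ => ⟨b 0, fun i => by rw [Category.comp_id, Subsingleton.elim i 0]⟩ }⟩

/-- A section of an etale separated morphism is an open and closed immersion. -/
theorem section_clopen {V T : Scheme.{u}} (s : V ⟶ T) [Etale s] [IsSeparated s] (σ : T ⟶ V) (h : σ ≫ s = 𝟙 T) :
    IsOpenImmersion σ ∧ IsClosedImmersion σ := by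
  have h1 : Etale (σ ≫ s) := by rw [h]; infer_instance
  have h2 : IsClosedImmersion (σ ≫ s) := by rw [h]; infer_instance
  have h3 : Etale σ := Etale.of_comp σ s
  have h4 : Mono (σ ≫ s) := by rw [h]; infer_instance
  have h5 : Mono σ := mono_of_mono σ s
  exact ⟨IsOpenImmersion.of_flat_of_mono σ, IsClosedImmersion.of_comp σ s⟩

theorem Spec_field_range {K : Type u} [Field K] {T : Scheme.{u}} (z : Spec (CommRingCat.of K) ⟶ T) {U : T.Opens}
    (h : z (K617.EtFin.pt K) ∈ U) : Set.range z ⊆ U := by
  rintro _ ⟨y, rfl⟩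
  rwa [K617.EtFin.Spec_field_eq y (K617.EtFin.pt K)]

theorem conf_succ [S.IsSeparated] (hX : IsSeparatedSp X) (hW : IsAffine W.left) (hp : RepWith @Etale p) {n : ℕ}
    (C : Cf p (n + 1)) : Nonempty (Cf p (n + 2)) := by
  obtain ⟨W', s, t, sq⟩ := hp.1 C.v
  obtain ⟨t, rfl⟩ := (yon S).map_surjective t
  have := C.aff
  have haff : IsAffine W'.left := (K609.Sep.affine_pullback hX sq).1
  have hs : Etale s.left := hp.2 _ _ _ sq
  have hsep : IsSeparated s.left := inferInstance
  -- the sections
  have hex : ∀ i, ∃ σ : C.V ⟶ W', σ ≫ t = C.a i ∧ σ ≫ s = 𝟙 _ := by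
    intro i
    obtain ⟨σ, hσ⟩ := (yon S).map_surjective (sq.lift ((yon S).map (C.a i)) (𝟙 _) (by
      rw [C.ha i, Category.id_comp]))
    refine ⟨σ, (yon S).map_injective ?_, (yon S).map_injective ?_⟩
    · rw [Functor.map_comp, hσ, sq.lift_fst]
    · rw [Functor.map_comp, hσ, sq.lift_snd, CategoryTheory.Functor.map_id]
  choose σ hσt hσs using hex
  have hco : ∀ i, IsOpenImmersion (σ i).left ∧ IsClosedImmersion (σ i).left := fun i =>
    section_clopen s.left (σ i).left (by rw [← Over.comp_left, hσs]; rfl)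
  -- joint monomorphism
  have hext : ∀ {Q : Over S} (x y : Q ⟶ W'), x ≫ t = y ≫ t → x ≫ s = y ≫ s → x = y := by
    intro Q x y h1 h2
    apply (yon S).map_injective
    exact sq.hom_ext (by rw [← Functor.map_comp, ← Functor.map_comp, h1])
      (by rw [← Functor.map_comp, ← Functor.map_comp, h2])
  let Z : Set W'.left := ⋃ i, Set.range (σ i).left
  have hZo : IsOpen Z := isOpen_iUnion fun i => (hco i).1.base_open.isOpen_range
  have hZc : IsClosed Z := isClosed_iUnion_of_finite fun i => by
    have := (hco i).2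
    exact (σ i).left.isClosedEmbedding.isClosed_range
  let O : W'.left.Opens := ⟨Zᶜ, hZc.isOpen_compl⟩
  let j : Over.mk (O.ι ≫ W'.hom) ⟶ W' := Over.homMk O.ι rfl
  have hj : IsClosedImmersion O.ι := IsClosedImmersion.of_isPreimmersion _ (by
    rw [Scheme.Opens.range_ι]; exact hZo.isClosed_compl)
  have hv : (yon S).map (j ≫ t) ≫ p = (yon S).map (j ≫ s) ≫ C.v := by
    rw [Functor.map_comp, Functor.map_comp, Category.assoc, Category.assoc, sq.w]
  refine ⟨{  V := Over.mk (O.ι ≫ W'.hom)
             aff := ?_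
             a := Fin.cons (j ≫ t) fun i => (j ≫ s) ≫ C.a i
             v := (yon S).map (j ≫ s) ≫ C.v
             et := ?_
             ha := ?_
             inj := ?_
             univ := ?_ }⟩
  · exact isAffine_of_isAffineHom O.ι
  · refine MorphismProperty.comp_mem _ _ _ ((repWith_yon_map_iff _ _).2 ?_) C.et
    have : Etale j.left := (inferInstance : Etale O.ι)
    rw [Over.comp_left]
    infer_instance
  · intro i
    refine Fin.cases hv (fun i => ?_) i
    rw [Fin.cons_succ, Functor.map_comp _ (j ≫ s), Category.assoc, C.ha i]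
  · intro K _ κ q
    have h1 : (fun i => q ≫ (Fin.cons (j ≫ t) fun i => (j ≫ s) ≫ C.a i : Fin (n + 1 + 1) →
        (Over.mk (O.ι ≫ W'.hom) ⟶ W)) i) =
          (Fin.cons ((q ≫ j) ≫ t) (fun i => (q ≫ j ≫ s) ≫ C.a i) : Fin (n + 1 + 1) → (Over.mk κ ⟶ W)) := by
      funext i
      refine Fin.cases ?_ (fun i => ?_) i
      · simp only [Fin.cons_zero, Category.assoc]
      · simp only [Fin.cons_succ, Category.assoc]
    rw [h1, Fin.cons_injective_iff]
    refine ⟨?_, C.inj K κ (q ≫ j ≫ s)⟩
    rintro ⟨i, hi⟩
    have h2 : q ≫ j = (q ≫ j ≫ s) ≫ σ i := by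
      refine hext _ _ ?_ ?_
      · rw [Category.assoc, Category.assoc, Category.assoc, Category.assoc, hσt i]
        simp only [Category.assoc] at hi
        exact hi.symm
      · rw [Category.assoc, Category.assoc, Category.assoc, Category.assoc, hσs i, Category.comp_id]
    have h3 : O.ι (q.left (K617.EtFin.pt K)) = (σ i).left ((q ≫ j ≫ s).left (K617.EtFin.pt K)) := by
      have h4 := congrArg (fun m : Over.mk κ ⟶ W' => m.left (K617.EtFin.pt K)) h2
      simp only [Over.comp_left, Scheme.Hom.comp_apply] at h4 ⊢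
      exact h4
    have h5 : O.ι (q.left (K617.EtFin.pt K)) ∈ Z := Set.mem_iUnion.2 ⟨i, _, h3.symm⟩
    exact (q.left (K617.EtFin.pt K)).2 h5
  · intro K _ κ b x hb hx
    obtain ⟨q, hq⟩ := C.univ K κ (fun i => b i.succ) x (fun i i' h => Fin.succ_injective _ (hb h)) (fun i => hx _)
    obtain ⟨z, hz⟩ := (yon S).map_surjective (sq.lift ((yon S).map (b 0)) ((yon S).map q) (by
      rw [hx 0, ← hx (Fin.succ 0), ← hq 0, Functor.map_comp, Category.assoc, C.ha]))
    have hzt : z ≫ t = b 0 := (yon S).map_injective (by rw [Functor.map_comp, hz, sq.lift_fst])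
    have hzs : z ≫ s = q := (yon S).map_injective (by rw [Functor.map_comp, hz, sq.lift_snd])
    have hzO : z.left (K617.EtFin.pt K) ∈ O := by
      intro hmem
      obtain ⟨i, hi⟩ := Set.mem_iUnion.1 hmem
      have := (hco i).1
      let y : Spec (CommRingCat.of K) ⟶ C.V.left := IsOpenImmersion.lift (σ i).left z.left
        (Spec_field_range z.left (U := (σ i).left.opensRange) hi)
      have hy : y ≫ (σ i).left = z.left := IsOpenImmersion.lift_fac _ _ _
      let y' : Over.mk κ ⟶ C.V := Over.homMk y (by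
        have h1 := Over.w (σ i)
        have h2 := Over.w z
        rw [← h1, reassoc_of% hy]
        exact h2)
      have hy' : y' ≫ σ i = z := by
        ext1
        exact hy
      have h1 : y' = q := by
        rw [← hzs, ← hy', Category.assoc, hσs, Category.comp_id]
      have h2 : b 0 = b i.succ := by
        rw [← hzt, ← hy', Category.assoc, hσt, h1, hq]
      exact absurd (hb h2) (Fin.succ_ne_zero i).symm
    let r : Spec (CommRingCat.of K) ⟶ O := IsOpenImmersion.lift O.ι z.left (by
      rw [Scheme.Opens.range_ι]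
      exact Spec_field_range z.left hzO)
    have hr : r ≫ O.ι = z.left := IsOpenImmersion.lift_fac _ _ _
    let r' : Over.mk κ ⟶ Over.mk (O.ι ≫ W'.hom) := Over.homMk r (by
      have h2 := Over.w z
      dsimp
      rw [reassoc_of% hr]
      exact h2)
    have hr' : r' ≫ j = z := by
      ext1
      exact hr
    refine ⟨r', fun i => ?_⟩
    refine Fin.cases ?_ (fun i => ?_) i
    · rw [Fin.cons_zero, reassoc_of% hr', hzt]
    · rw [Fin.cons_succ, Category.assoc, reassoc_of% hr', reassoc_of% hzs, hq]

theorem exists_conf [S.IsSeparated] (hX : IsSeparatedSp X) (hW : IsAffine W.left) (hp : RepWith @Etale p) (n : ℕ) :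
    Nonempty (Cf p (n + 1)) := by
  induction n with
  | zero => exact conf_one p hW hp
  | succ n ih => exact conf_succ p hX hW hp ih.some

variable {p}

/-- If there are no configurations with `n + 1` points, every point over the point of `X` below a configuration is one of
its members. -/
theorem Cf.exists_eq {n : ℕ} (C : Cf p n) (h : NoConf p (n + 1)) {K : Type u} [Field K]
    (κ : Spec (CommRingCat.of K) ⟶ S) (q : Over.mk κ ⟶ C.V) (w : Over.mk κ ⟶ W)
    (hqw : (yon S).map q ≫ C.v = (yon S).map w ≫ p) : ∃ i, q ≫ C.a i = w := by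
  by_contra hne
  push Not at hne
  refine h K κ (Fin.cons w fun i => q ≫ C.a i) ((yon S).map w ≫ p) ?_ fun i => ?_
  · rw [Fin.cons_injective_iff]
    exact ⟨fun ⟨i, hi⟩ => hne i hi, C.inj K κ q⟩
  · refine Fin.cases rfl (fun i => ?_) i
    rw [Fin.cons_succ, Functor.map_comp, Category.assoc, C.ha, hqw]

end K642.Conf
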