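import Groth.Agent.AlgSp.K643.CechX
import Groth.Agent.AlgSp.K648.Chart
import Groth.Agent.AlgSp.K642.Conf

/-!
# Objects of `n` pairwise distinct points in the small etale site

`eqLoc b c` is the clopen equality locus of two morphisms `b, c : E ⟶ U` in `EtOver X`; `Dist b` says that the members of a
family `b : Fin n → (E ⟶ U)` are nowhere equal; `DU U n` is the affine object representing such families (`n ≥ 1`).
-/

set_option autoImplicit false
universe u
open CategoryTheory CategoryTheory.Limits AlgebraicGeometry Opposite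

set_option backward.isDefEq.respectTransparency false

namespace K642.Dist

open AlgSp K643.Site K643.Qcqs K643.CechX

variable {S : Scheme.{u}} {X : Sp S}

section Prod

variable {E₁ E₂ W W' : EtOver X}

/-- the morphism to a product in the small etale site -/
noncomputable def lift (a : W ⟶ E₁) (b : W ⟶ E₂) : W ⟶ EtOver.prodObj E₁ E₂ := (prodEquiv E₁ E₂ W).symm (a, b)

@[reassoc (attr := simp)] theorem lift_fst (a : W ⟶ E₁) (b : W ⟶ E₂) : lift a b ≫ EtOver.prodFst E₁ E₂ = a :=
  congrArg Prod.fst ((prodEquiv E₁ E₂ W).apply_symm_apply (a, b))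

@[reassoc (attr := simp)] theorem lift_snd (a : W ⟶ E₁) (b : W ⟶ E₂) : lift a b ≫ EtOver.prodSnd E₁ E₂ = b :=
  congrArg Prod.snd ((prodEquiv E₁ E₂ W).apply_symm_apply (a, b))

theorem prod_ext {x y : W ⟶ EtOver.prodObj E₁ E₂} (h1 : x ≫ EtOver.prodFst E₁ E₂ = y ≫ EtOver.prodFst E₁ E₂)
    (h2 : x ≫ EtOver.prodSnd E₁ E₂ = y ≫ EtOver.prodSnd E₁ E₂) : x = y :=
  (prodEquiv E₁ E₂ W).injective (Prod.ext h1 h2)

theorem comp_lift (q : W' ⟶ W) (a : W ⟶ E₁) (b : W ⟶ E₂) : q ≫ lift a b = lift (q ≫ a) (q ≫ b) :=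
  prod_ext (by simp) (by simp)

end Prod

/-- the diagonal -/
noncomputable def diag (U : EtOver X) : U ⟶ EtOver.prodObj U U := lift (𝟙 U) (𝟙 U)

/-- the diagonal of `U` over `X` is open and closed -/
def Good (U : EtOver X) : Prop := IsOpenImmersion (schMap (diag U)) ∧ IsClosedImmersion (schMap (diag U))

theorem isAffine_prodObj [S.IsSeparated] (hX : IsSeparatedSp X) {E₁ E₂ : EtOver X} (h1 : IsAffine (sch E₁))
    (h2 : IsAffine (sch E₂)) : IsAffine (sch (EtOver.prodObj E₁ E₂)) :=
  (K609.Sep.affine_pullback hX (isPullback_prodObj E₁ E₂)).1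

theorem good_of_isAffine [S.IsSeparated] (hX : IsSeparatedSp X) {U : EtOver X} (hU : IsAffine (sch U)) : Good U := by
  have := hU
  have := isAffine_prodObj hX hU hU
  exact K642.Conf.section_clopen (schMap (EtOver.prodSnd U U)) (schMap (diag U)) (by
    rw [← schMap_comp, diag, lift_snd, schMap_id])

section EqLoc

variable {U E E' : EtOver X} (b c d : E ⟶ U)

/-- the equality locus -/
def eqLoc : Set (sch E) := (schMap (lift b c)) ⁻¹' Set.range (schMap (diag U))

variable {b c d}

theorem isClopen_eqLoc (hU : Good U) (b c : E ⟶ U) : IsClopen (eqLoc b c) := by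
  have := hU.1
  have := hU.2
  exact ⟨(schMap (diag U)).isClosedEmbedding.isClosed_range.preimage (schMap (lift b c)).continuous,
    (schMap (diag U)).isOpenEmbedding.isOpen_range.preimage (schMap (lift b c)).continuous⟩

theorem eqLoc_comp (q : E' ⟶ E) (b c : E ⟶ U) : eqLoc (q ≫ b) (q ≫ c) = schMap q ⁻¹' eqLoc b c := by
  rw [eqLoc, ← comp_lift]
  rfl

/-- A morphism in the small etale site whose image lies in the image of an open immersion factors. -/
theorem exists_factor {E₁ E₂ E₃ : EtOver X} (j : E₁ ⟶ E₃) (hj : IsOpenImmersion (schMap j)) (f : E₂ ⟶ E₃)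
    (h : Set.range (schMap f) ⊆ Set.range (schMap j)) : ∃ g : E₂ ⟶ E₁, g ≫ j = f := by
  let g : sch E₂ ⟶ sch E₁ := IsOpenImmersion.lift (schMap j) (schMap f) h
  have hg : g ≫ schMap j = schMap f := IsOpenImmersion.lift_fac _ _ _
  let g' : E₂.obj.left ⟶ E₁.obj.left := Over.homMk g (by
    have h1 := Over.w j.hom.left
    have h2 := Over.w f.hom.left
    rw [← h1]
    exact (Category.assoc _ _ _).symm.trans ((congrArg (· ≫ _) hg).trans h2))
  have hg' : g' ≫ j.hom.left = f.hom.left := Over.OverMorphism.ext hg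
  refine ⟨EtOver.homMk g' ?_, EtOver.hom_ext _ _ hg'⟩
  rw [← EtOver.w j, ← Category.assoc, ← Functor.map_comp, hg', EtOver.w f]

theorem comp_eq_iff (hU : Good U) (q : E' ⟶ E) (b c : E ⟶ U) :
    q ≫ b = q ≫ c ↔ Set.range (schMap q) ⊆ eqLoc b c := by
  constructor
  · intro h
    rw [← Set.image_univ, Set.image_subset_iff, ← eqLoc_comp]
    intro x _
    refine ⟨schMap (q ≫ b) x, ?_⟩
    have h1 : (q ≫ b) ≫ diag U = lift (q ≫ b) (q ≫ c) := by
      rw [diag, comp_lift, Category.comp_id, ← h]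
    rw [← h1]
    rfl
  · intro h
    obtain ⟨y, hy⟩ := exists_factor (diag U) hU.1 (q ≫ lift b c) (by
      rintro _ ⟨x, rfl⟩
      exact h ⟨x, rfl⟩)
    have h1 := congrArg (· ≫ EtOver.prodFst U U) hy
    have h2 := congrArg (· ≫ EtOver.prodSnd U U) hy
    simp only [diag, Category.assoc, lift_fst, lift_snd, Category.comp_id] at h1 h2
    rw [← h1, ← h2]

theorem mem_eqLoc_self (b : E ⟶ U) (x : sch E) : x ∈ eqLoc b b :=
  ⟨schMap b x, by
    have h1 : b ≫ diag U = lift b b := by rw [diag, comp_lift, Category.comp_id]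
    rw [← h1]
    rfl⟩

/-- the open subobject -/
noncomputable abbrev opn (E : EtOver X) (V : (sch E).Opens) : EtOver X := K648.Chart.opn E V

noncomputable abbrev opnι (E : EtOver X) (V : (sch E).Opens) : opn E V ⟶ E := K648.Chart.opnι E V

theorem range_opnι (E : EtOver X) (V : (sch E).Opens) : Set.range (schMap (opnι E V)) = (V : Set (sch E)) :=
  Scheme.Opens.range_ι V

instance isOpenImmersion_opnι (E : EtOver X) (V : (sch E).Opens) : IsOpenImmersion (schMap (opnι E V)) :=
  inferInstanceAs (IsOpenImmersion V.ι)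

theorem mem_eqLoc_comm (hU : Good U) {x : sch E} (h : x ∈ eqLoc b c) : x ∈ eqLoc c b := by
  let V : (sch E).Opens := ⟨eqLoc b c, (isClopen_eqLoc hU b c).2⟩
  have h1 := (comp_eq_iff hU (opnι E V) b c).2 (range_opnι E V).subset
  exact (comp_eq_iff hU (opnι E V) c b).1 h1.symm ((range_opnι E V).symm ▸ h)

theorem mem_eqLoc_trans (hU : Good U) {x : sch E} (h : x ∈ eqLoc b c) (h' : x ∈ eqLoc c d) : x ∈ eqLoc b d := by
  let V : (sch E).Opens := ⟨eqLoc b c ∩ eqLoc c d, (isClopen_eqLoc hU b c).2.inter (isClopen_eqLoc hU c d).2⟩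
  have hV : Set.range (schMap (opnι E V)) = eqLoc b c ∩ eqLoc c d := range_opnι E V
  have h1 := (comp_eq_iff hU (opnι E V) b c).2 (hV.subset.trans Set.inter_subset_left)
  have h2 := (comp_eq_iff hU (opnι E V) c d).2 (hV.subset.trans Set.inter_subset_right)
  exact (comp_eq_iff hU (opnι E V) b d).1 (h1.trans h2) (hV ▸ ⟨h, h'⟩)

/-- Field valued points at which two morphisms agree lie on the equality locus. -/
theorem mem_eqLoc_of_field {K : Type u} [Field K] (z : Spec (CommRingCat.of K) ⟶ sch E) (y : Spec (CommRingCat.of K))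
    (h : z ≫ schMap b = z ≫ schMap c) : z y ∈ eqLoc b c := by
  let z' : Over.mk (z ≫ E.obj.left.hom) ⟶ E.obj.left := Over.homMk z rfl
  have hz : z' ≫ b.hom.left = z' ≫ c.hom.left := Over.OverMorphism.ext h
  have key : z' ≫ (lift b c).hom.left = (z' ≫ b.hom.left) ≫ (diag U).hom.left := by
    apply (yon S).map_injective
    apply (isPullback_prodObj U U).hom_ext
    · rw [← Functor.map_comp, ← Functor.map_comp]
      have h1 : (lift b c).hom.left ≫ (EtOver.prodFst U U).hom.left = b.hom.left :=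
        congrArg (fun k => k.hom.left) (lift_fst b c)
      have h2 : (diag U).hom.left ≫ (EtOver.prodFst U U).hom.left = 𝟙 _ :=
        congrArg (fun k => k.hom.left) (lift_fst (𝟙 U) (𝟙 U))
      rw [Category.assoc, h1, Category.assoc, h2, Category.comp_id]
    · rw [← Functor.map_comp, ← Functor.map_comp]
      have h1 : (lift b c).hom.left ≫ (EtOver.prodSnd U U).hom.left = c.hom.left :=
        congrArg (fun k => k.hom.left) (lift_snd b c)
      have h2 : (diag U).hom.left ≫ (EtOver.prodSnd U U).hom.left = 𝟙 _ :=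
        congrArg (fun k => k.hom.left) (lift_snd (𝟙 U) (𝟙 U))
      rw [Category.assoc, h1, Category.assoc, h2, Category.comp_id, hz]
  refine ⟨(z' ≫ b.hom.left).left y, ?_⟩
  have h3 := congrArg (fun m : Over.mk (z ≫ E.obj.left.hom) ⟶ (EtOver.prodObj U U).obj.left => m.left y) key
  exact h3.symm

end EqLoc

section Dist

variable {U E E' : EtOver X} {n : ℕ}

/-- a family of nowhere equal morphisms -/
def Dist (b : Fin n → (E ⟶ U)) : Prop := ∀ i j, i ≠ j → eqLoc (b i) (b j) = ∅

theorem Dist.comp {b : Fin n → (E ⟶ U)} (h : Dist b) (q : E' ⟶ E) : Dist fun i => q ≫ b i := fun i j hij => by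
  rw [eqLoc_comp, h i j hij, Set.preimage_empty]

theorem Dist.eq {b : Fin n → (E ⟶ U)} (h : Dist b) {i j : Fin n} {x : sch E} (hx : x ∈ eqLoc (b i) (b j)) : i = j := by
  by_contra hij
  rw [h i j hij] at hx
  exact hx

theorem dist_of_subsingleton [Subsingleton (Fin n)] (b : Fin n → (E ⟶ U)) : Dist b :=
  fun i j hij => absurd (Subsingleton.elim i j) hij

theorem dist_cons (hU : Good U) {b : Fin n → (E ⟶ U)} (h : Dist b) {c : E ⟶ U} (hc : ∀ i, eqLoc c (b i) = ∅) :
    Dist (Fin.cons c b : Fin (n + 1) → (E ⟶ U)) := by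
  intro i j
  refine Fin.cases ?_ (fun i => ?_) i <;> refine Fin.cases ?_ (fun j => ?_) j
  · exact fun h => absurd rfl h
  · intro _
    rw [Fin.cons_zero, Fin.cons_succ]
    exact hc j
  · intro _
    rw [Fin.cons_zero, Fin.cons_succ, Set.eq_empty_iff_forall_notMem]
    exact fun x hx => (hc i).le (mem_eqLoc_comm hU hx)
  · intro hij
    rw [Fin.cons_succ, Fin.cons_succ]
    exact h i j fun e => hij (congrArg Fin.succ e)

theorem Dist.tail {b : Fin (n + 1) → (E ⟶ U)} (h : Dist b) : Dist fun i : Fin n => b i.succ :=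
  fun _ _ hij => h _ _ fun e => hij (Fin.succ_injective _ e)

theorem Dist.perm {b : Fin n → (E ⟶ U)} (h : Dist b) (σ : Equiv.Perm (Fin n)) : Dist fun i => b (σ i) :=
  fun _ _ hij => h _ _ fun e => hij (σ.injective e)

variable (U n) in
/-- The object of `n` distinct points. -/
structure DU where
  V : EtOver X
  aff : IsAffine (sch V)
  a : Fin n → (V ⟶ U)
  dist : Dist a
  univ : ∀ {E : EtOver X} (b : Fin n → (E ⟶ U)), Dist b → ∃ q : E ⟶ V, ∀ i, q ≫ a i = b i
  ext : ∀ {E : EtOver X} (q q' : E ⟶ V), (∀ i, q ≫ a i = q' ≫ a i) → q = q'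

theorem du_one (hU : IsAffine (sch U)) : Nonempty (DU U 1) :=
  ⟨{  V := U
      aff := hU
      a := fun _ => 𝟙 U
      dist := dist_of_subsingleton _
      univ := fun b _ => ⟨b 0, fun i => by rw [Category.comp_id, Subsingleton.elim i 0]⟩
      ext := fun q q' h => by simpa using h 0 }⟩

theorem du_succ [S.IsSeparated] (hX : IsSeparatedSp X) (hU : IsAffine (sch U)) (D : DU U (n + 1)) :
    Nonempty (DU U (n + 2)) := by
  have hG := good_of_isAffine hX hU
  let W := EtOver.prodObj U D.V
  let c : W ⟶ U := EtOver.prodFst U D.V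
  let b : Fin (n + 1) → (W ⟶ U) := fun i => EtOver.prodSnd U D.V ≫ D.a i
  let Z : Set (sch W) := ⋃ i, eqLoc c (b i)
  have hZo : IsOpen Z := isOpen_iUnion fun i => (isClopen_eqLoc hG _ _).2
  have hZc : IsClosed Z := isClosed_iUnion_of_finite fun i => (isClopen_eqLoc hG _ _).1
  let O : (sch W).Opens := ⟨Zᶜ, hZc.isOpen_compl⟩
  let j : opn W O ⟶ W := opnι W O
  have hj : Set.range (schMap j) = Zᶜ := range_opnι W O
  have hjc : IsClosedImmersion (schMap j) := IsClosedImmersion.of_isPreimmersion _ (by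
    rw [hj]; exact hZo.isClosed_compl)
  have hW : IsAffine (sch W) := isAffine_prodObj hX hU D.aff
  have hcb : ∀ i, eqLoc (j ≫ c) (j ≫ b i) = ∅ := by
    intro i
    rw [eqLoc_comp, Set.eq_empty_iff_forall_notMem]
    intro x hx
    have h1 : schMap j x ∈ Zᶜ := hj ▸ ⟨x, rfl⟩
    exact h1 (Set.mem_iUnion.2 ⟨i, hx⟩)
  refine ⟨{  V := opn W O
             aff := isAffine_of_isAffineHom (schMap j)
             a := Fin.cons (j ≫ c) fun i => j ≫ b i
             dist := dist_cons hG ((D.dist.comp (EtOver.prodSnd U D.V)).comp j) hcb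
             univ := ?_
             ext := ?_ }⟩
  · intro E b' hb'
    obtain ⟨q, hq⟩ := D.univ (fun i => b' i.succ) hb'.tail
    let w : E ⟶ W := lift (b' 0) q
    have hwc : w ≫ c = b' 0 := lift_fst _ _
    have hwb : ∀ i, w ≫ b i = b' i.succ := fun i => by
      rw [← hq i, ← Category.assoc, lift_snd]
    obtain ⟨r, hr⟩ := exists_factor j (isOpenImmersion_opnι W O) w (by
      rw [hj]
      rintro _ ⟨x, rfl⟩ hx
      obtain ⟨i, hi⟩ := Set.mem_iUnion.1 hx
      have h1 : x ∈ eqLoc (w ≫ c) (w ≫ b i) := by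
        rw [eqLoc_comp]
        exact hi
      rw [hwc, hwb, hb' 0 i.succ (Fin.succ_ne_zero i).symm] at h1
      exact h1)
    refine ⟨r, fun i => ?_⟩
    refine Fin.cases ?_ (fun i => ?_) i
    · rw [Fin.cons_zero, ← Category.assoc, hr, hwc]
    · rw [Fin.cons_succ, ← Category.assoc, hr, hwb]
  · intro E q q' h
    have h0 := h 0
    rw [Fin.cons_zero, ← Category.assoc, ← Category.assoc] at h0
    have h1 : ∀ i, ((q ≫ j) ≫ EtOver.prodSnd U D.V) ≫ D.a i = ((q' ≫ j) ≫ EtOver.prodSnd U D.V) ≫ D.a i := by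
      intro i
      have hi := h i.succ
      rw [Fin.cons_succ] at hi
      simpa only [Category.assoc, b] using hi
    have h2 := D.ext _ _ h1
    have h3 : q ≫ j = q' ≫ j := prod_ext h0 h2
    have hm : Mono (schMap j) := inferInstance
    refine EtOver.hom_ext _ _ (Over.OverMorphism.ext ?_)
    exact (cancel_mono (schMap j)).1 (congrArg schMap h3)

theorem exists_du [S.IsSeparated] (hX : IsSeparatedSp X) (hU : IsAffine (sch U)) (n : ℕ) :
    Nonempty (DU U (n + 1)) := by
  induction n with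
  | zero => exact du_one hU
  | succ n ih => exact du_succ hX hU ih.some

end Dist

end K642.Dist
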