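import Groth.Agent.AlgSp.K642.SymPush
import Groth.Agent.S10240
import Groth.Agent.S10751
import Groth.Agent.S10754
import Groth.Agent.AlgSp.K617.PushQc
import Groth.Agent.AlgSp.K648.Exact

/-!
# Vanishing of quasi-coherent cohomology above the fibre cardinality of an affine etale cover
-/

set_option autoImplicit false
universe u
open CategoryTheory CategoryTheory.Limits AlgebraicGeometry Opposite
open CategoryTheory.Abelian (Ext)
open CategoryTheory.Abelian.Ext

set_option backward.isDefEq.respectTransparency false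

namespace K642.FibDim

open AlgSp K643.Site K643.CechX K642.Dist K642.SymW K642.Trace K642.SymPush

variable {S : Scheme.{u}} {X : Sp S}

section Coh

attribute [local instance 3000] hasSheafify_et wEqualsLocallyBijective_et hasSheafCompose_et hasExt_et

variable {T : ShortComplex (AbEt X)} (hT : T.ShortExact)

include hT in
theorem sub_X₁ (q : ℕ) (h3 : Subsingleton (HEt X T.X₃ q)) (h2 : Subsingleton (HEt X T.X₂ (q + 1))) :
    Subsingleton (HEt X T.X₁ (q + 1)) := by
  refine subsingleton_of_forall_eq 0 fun x => ?_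
  obtain ⟨y, hy⟩ := covariant_sequence_exact₁ _ hT x (Subsingleton.elim (α := HEt X T.X₂ (q + 1)) _ _) rfl
  rw [← hy, Subsingleton.elim (α := HEt X T.X₃ q) y 0, Ext.zero_comp]

include hT in
theorem sub_X₂ (q : ℕ) (h1 : Subsingleton (HEt X T.X₁ q)) (h3 : Subsingleton (HEt X T.X₃ q)) :
    Subsingleton (HEt X T.X₂ q) := by
  refine subsingleton_of_forall_eq 0 fun x => ?_
  obtain ⟨y, hy⟩ := covariant_sequence_exact₂ _ hT x (Subsingleton.elim (α := HEt X T.X₃ q) _ _)
  rw [← hy, Subsingleton.elim (α := HEt X T.X₁ q) y 0, Ext.zero_comp]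

theorem sub_retract {F G : AbEt X} (i : F ⟶ G) (r : G ⟶ F) (h : i ≫ r = 𝟙 F) (q : ℕ)
    (hG : Subsingleton (HEt X G q)) : Subsingleton (HEt X F q) := by
  refine subsingleton_of_forall_eq 0 fun x => ?_
  have h1 : Ext.comp x (mk₀ i) (add_zero q) = 0 := Subsingleton.elim (α := HEt X G q) _ _
  have h2 : Ext.comp (Ext.comp x (mk₀ i) (add_zero q)) (mk₀ r) (add_zero q) = x := by
    rw [Ext.comp_assoc_of_third_deg_zero, mk₀_comp_mk₀, h, Ext.comp_mk₀_id]
  rw [← h2, h1, Ext.zero_comp]

theorem sub_isZero {F : AbEt X} (h : IsZero F) (q : ℕ) : Subsingleton (HEt X F q) := by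
  refine subsingleton_of_forall_eq 0 fun x => ?_
  have h2 : Ext.comp x (mk₀ (𝟙 F)) (add_zero q) = x := Ext.comp_mk₀_id _
  rw [← h2, (IsZero.iff_id_eq_zero F).1 h, Ext.mk₀_zero, Ext.comp_zero]

end Coh

section Mod

theorem sc_sub_of_mono {M N : ModEt X} (i : M ⟶ N) [Mono i] {E : EtOver X} {m m' : sc M E} (h : ap i m = ap i m') :
    m = m' := K648.Exact.secMap_injective_of_mono i E h

theorem isZero_of_forall {M : ModEt X} (h : ∀ E : EtOver X, Subsingleton (sc M E)) : IsZero M :=
  (IsZero.iff_id_eq_zero M).2 (hom_ext_ap fun E _ => Subsingleton.elim (h := h E) _ _)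

theorem locSurj {M N : ModEt X} (p : M ⟶ N) [Epi p] {E : EtOver X} (s : sc N E) (x : sch E) :
    ∃ (E' : EtOver X) (g : E' ⟶ E) (v : sch E') (t : sc M E'), schMap g v = x ∧ ap p t = rs N g s := by
  have h : Epi ((toAbEt X).map p) := inferInstance
  obtain ⟨W, g, ⟨v, hv⟩, t, ht⟩ := (K643.PushEt.epi_iff _).1 h E s x
  exact ⟨W, g, v, t, hv, ht⟩

end Mod

variable {U : EtOver X}

/-- `M` vanishes over the objects with `n` distinct points -/
def Van (U : EtOver X) (M : ModEt X) (n : ℕ) : Prop :=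
  ∀ (E : EtOver X) (c : Fin n → (E ⟶ U)), Dist c → Subsingleton (sc M E)

theorem van_one (hs : Surj U) {M : ModEt X} (h : Van U M 1) : IsZero M := by
  refine isZero_of_forall fun E => ⟨fun x y => sec_ext fun p => ?_⟩
  have h1 : Surjective (schMap (EtOver.prodFst E U)) := hs.2 _ _ _ (K643.Qcqs.isPullback_prodObj E U).flip
  obtain ⟨v, hv⟩ := h1.surj p
  have := h (EtOver.prodObj E U) (fun _ => EtOver.prodSnd E U) (dist_of_subsingleton _)
  exact ⟨_, EtOver.prodFst E U, v, hv, Subsingleton.elim _ _⟩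

theorem isAffineMor_hom [S.IsSeparated] (hX : IsSeparatedSp X) {V : EtOver X} (hV : IsAffine (sch V)) :
    IsAffineMor V.obj.hom := by
  intro Z hZ g
  refine ⟨V.property.1.pullback g, V.property.1.snd g, V.property.1.fst g, V.property.1.isPullback g, ?_⟩
  have h := V.property.1.isPullback g
  rw [← V.property.1.map_fst'] at h
  exact (K609.Sep.affine_pullback hX h).1

theorem isQuasicoherent_PM [S.IsSeparated] (hX : IsSeparatedSp X) {V : EtOver X} (hV : IsAffine (sch V)) (M : ModEt X)
    (hM : M.IsQuasicoherent) : (PM V M).IsQuasicoherent := by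
  have h1 : ((K612.ResEt.resModEt (isEtaleMor_hom V)).obj M).IsQuasicoherent := by
    rw [K644.Chart.isQuasicoherent_iff_isCart] at hM ⊢
    intro E E1 g hE hE1
    exact hM ((EtOver.postcomp V.obj.hom (isEtaleMor_hom V)).map g) hE hE1
  exact K617.PushQc.isQuasicoherent_push V.property.1 (isAffineMor_hom hX hV) _

/-- the scheme of an object of the small etale site as an algebraic space -/
noncomputable def spc (V : EtOver X) : Space S := ⟨(yon S).obj V.obj.left, IsAlgSpace.yon_obj _⟩

theorem sub_PM [S.IsSeparated] (hXa : IsAlgSpace X) (hX : IsSeparatedSp X) {V : EtOver X} (hV : IsAffine (sch V))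
    (M : ModEt X) (hM : M.IsQuasicoherent) (q : ℕ) : Subsingleton (HModEt X (PM V M) (q + 1)) := by
  have h1 : ((K612.ResEt.resModEt (isEtaleMor_hom V)).obj M).IsQuasicoherent := by
    rw [K644.Chart.isQuasicoherent_iff_isCart] at hM ⊢
    intro E E1 g hE hE1
    exact hM ((EtOver.postcomp V.obj.hom (isEtaleMor_hom V)).map g) hE hE1
  let Y : Space S := ⟨X, hXa⟩
  let f : spc V ⟶ Y := ObjectProperty.homMk V.obj.hom
  have h2 : Subsingleton (HModEt (spc V).obj ((K612.ResEt.resModEt (isEtaleMor_hom V)).obj M) (q + 1)) :=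
    Groth.Agent.S10754.result (spc V) V.obj.left hV (Iso.refl _) _ (q + 1) (Nat.succ_pos q)
  obtain ⟨e⟩ := Groth.Agent.S10751.result f V.property.1 (isAffineMor_hom hX hV)
    ((K612.ResEt.resModEt (isEtaleMor_hom V)).obj M) (q + 1)
  exact e.symm.toEquiv.subsingleton

theorem step [S.IsSeparated] (hXa : IsAlgSpace X) (hX : IsSeparatedSp X) (hU : IsAffine (sch U)) (e : ℕ)
    (ih : ∀ M : ModEt X, M.IsQuasicoherent → Van U M (e + 1) → ∀ q, e ≤ q → Subsingleton (HModEt X M q))
    (M : ModEt X) (hM : M.IsQuasicoherent) (hv : Van U M (e + 2)) (q : ℕ) (hq : e + 1 ≤ q) :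
    Subsingleton (HModEt X M q) := by
  obtain ⟨q, rfl⟩ : ∃ k, q = k + 1 := ⟨q - 1, by omega⟩
  have hq' : e ≤ q := by omega
  have hG := good_of_isAffine hX hU
  obtain ⟨D⟩ := exists_du hX hU e
  obtain ⟨b, hb⟩ := exists_trace_one' D
  let Y : Space S := ⟨X, hXa⟩
  have hqc := (Groth.Agent.S10240.result Y).2.1
  let P : ModEt X := PM D.V M
  have hP : P.IsQuasicoherent := isQuasicoherent_PM hX D.aff M hM
  let π : P ⟶ P := proj D M b
  have hππ : π ≫ (π - 𝟙 P) = 0 := by
    rw [Preadditive.comp_sub, Category.comp_id, sub_eq_zero]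
    exact proj_proj D M hb
  have hηπ : eta D M ≫ (π - 𝟙 P) = 0 := by
    rw [Preadditive.comp_sub, Category.comp_id, sub_eq_zero]
    exact eta_proj D M hb
  let F : ModEt X := kernel (π - 𝟙 P)
  have hF : F.IsQuasicoherent := (hqc P P (π - 𝟙 P) hP hP).1
  let ι : F ⟶ P := kernel.ι (π - 𝟙 P)
  have hιπ : ι ≫ π = ι := by
    have h1 : ι ≫ (π - 𝟙 P) = 0 := kernel.condition _
    rwa [Preadditive.comp_sub, Category.comp_id, sub_eq_zero] at h1
  let r : P ⟶ F := kernel.lift (π - 𝟙 P) π hππ
  have hιr : ι ≫ r = 𝟙 F := by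
    rw [← cancel_mono ι, Category.assoc, kernel.lift_ι, hιπ, Category.id_comp]
  let η : M ⟶ F := kernel.lift (π - 𝟙 P) (eta D M) hηπ
  have hηι : η ≫ ι = eta D M := kernel.lift_ι _ _ _
  have hFH : Subsingleton (HModEt X F (q + 1)) := by
    refine sub_retract ((toAbEt X).map ι) ((toAbEt X).map r) ?_ (q + 1) (sub_PM hXa hX D.aff M hM q)
    rw [← Functor.map_comp, hιr, CategoryTheory.Functor.map_id]
  -- the cokernel
  let Q : ModEt X := cokernel η
  have hQ : Q.IsQuasicoherent := (hqc M F η hM hF).2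
  have hQv : Van U Q (e + 1) := by
    intro E c hc
    obtain ⟨k, -⟩ := D.univ c hc
    refine subsingleton_of_forall_eq 0 fun s => sec_ext fun x => ?_
    obtain ⟨E', g, v, t, hgv, ht⟩ := locSurj (cokernel.π η) s x
    refine ⟨E', g, v, hgv, ?_⟩
    have h1 : ap π (ap ι t) = ap ι t := by
      rw [← ap_comp, hιπ]
    obtain ⟨m, hm⟩ := exists_eta D M hG hv (g ≫ k) (ap ι t) h1
    have h2 : ap η m = t := by
      refine sc_sub_of_mono ι ?_
      rw [← ap_comp, hηι, hm]
    rw [← ht, ← h2, ← ap_comp, cokernel.condition]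
    exact (map_zero (Q.val.map g.op).hom).symm
  have hQH := ih Q hQ hQv q hq'
  -- the image
  let I : ModEt X := kernel (cokernel.π η)
  have hI : I.IsQuasicoherent := (hqc F Q (cokernel.π η) hF hQ).1
  have hIH : Subsingleton (HModEt X I (q + 1)) := by
    have hT : (ShortComplex.mk (kernel.ι (cokernel.π η)) (cokernel.π η) (kernel.condition _)).ShortExact :=
      { exact := ShortComplex.exact_kernel _ }
    exact sub_X₁ (hT.map_of_exact (toAbEt X)) q hQH hFH
  -- the kernel
  let θ : M ⟶ I := Abelian.factorThruImage η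
  have hθ : θ ≫ kernel.ι (cokernel.π η) = η := Abelian.image.fac η
  let K : ModEt X := kernel θ
  have hK : K.IsQuasicoherent := (hqc M I θ hM hI).1
  have hKv : Van U K (e + 1) := by
    intro E c hc
    obtain ⟨k, -⟩ := D.univ c hc
    refine subsingleton_of_forall_eq 0 fun s => sc_sub_of_mono (kernel.ι θ) (eta_injective D M k _ _ ?_)
    have hk : kernel.ι θ ≫ eta D M = 0 := by
      rw [← hηι, ← hθ, Category.assoc, kernel.condition_assoc, Limits.zero_comp]
    rw [← ap_comp, ← ap_comp, hk]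
    rfl
  have hKH := ih K hK hKv (q + 1) (by omega)
  have hT : (ShortComplex.mk (kernel.ι θ) θ (kernel.condition _)).ShortExact :=
    { exact := ShortComplex.exact_kernel _
      epi_g := inferInstanceAs (Epi (Abelian.factorThruImage η)) }
  exact sub_X₂ (hT.map_of_exact (toAbEt X)) (q + 1) hKH hIH

theorem main [S.IsSeparated] (hXa : IsAlgSpace X) (hX : IsSeparatedSp X) (hU : IsAffine (sch U)) (hs : Surj U) (e : ℕ)
    (M : ModEt X) (hM : M.IsQuasicoherent) (hv : Van U M (e + 1)) (q : ℕ) (hq : e ≤ q) :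
    Subsingleton (HModEt X M q) := by
  induction e generalizing M q with
  | zero =>
    exact sub_isZero (Functor.map_isZero (toAbEt X) (van_one hs hv)) q
  | succ e ih => exact step hXa hX hU e (fun M hM hv q hq => ih M hM hv q hq) M hM hv q hq

end K642.FibDim
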