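import Groth.Agent.AlgSp.K642.SEMain
import Groth.Agent.AlgSp.K642.HomLP
import Groth.Agent.AlgSp.K642.HomPR

/-!
# The functor of morphisms `X_T ⟶ Y` satisfies Artin's axioms
-/

set_option autoImplicit false

universe v u

open CategoryTheory CategoryTheory.Limits AlgebraicGeometry Opposite

namespace K642.HomAx

open K642.HomDef K607.Artin

variable {Λ : Type u} [CommRing Λ] (X Y : Over (Spec (CommRingCat.of Λ)))

/-- `T ↦ Hom(X_T, Y)` satisfies Artin's axioms, `X` proper flat of finite presentation and `Y` separated of finite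
presentation. -/
theorem faxioms_morF [IsProper X.hom] [Flat X.hom] [LocallyOfFinitePresentation X.hom] [IsSeparated Y.hom]
    [LocallyOfFinitePresentation Y.hom] [QuasiCompact Y.hom] : FAxioms (morF X Y) where
  lp A _ _ x := by
    obtain ⟨C, i1, i2, i3, φ, y, h⟩ := K642.HomLP.lp_morF X Y A x
    exact ⟨C, i1, i2, inferInstance, φ, y, h⟩
  se R _ _ t h1 h2 R' _ _ π h3 x hx := K642.SEMain.se_morF X Y R t h1 h2 R' π h3 x hx
  rs f g p q h1 h2 _ x x' h := K642.HomDef.rs_morF X Y f g p q h1 h2 x x' h
  sm k _ _ _ := inferInstance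
  pr A B x y := K642.HomPR.pr_morF X Y A B x y

/-- The same for the Weil restriction functor of the constant family. -/
theorem faxioms_functor [IsProper X.hom] [Flat X.hom] [LocallyOfFinitePresentation X.hom] [IsSeparated Y.hom]
    [LocallyOfFinitePresentation Y.hom] [QuasiCompact Y.hom] :
    FAxioms (WeilRes.functor X.hom (Red.bc X.hom Y) ⋙ uliftFunctor.{v, u}) :=
  faxioms_weilRes X Y (faxioms_morF X Y)

end K642.HomAx
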