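import Mathlib.RingTheory.Nakayama
import Mathlib.RingTheory.FinitePresentation
import Mathlib.RingTheory.Flat.EquationalCriterion
import Mathlib.Algebra.Module.FinitePresentation
import Mathlib.LinearAlgebra.TensorProduct.Quotient

/-!
# Modules of rank one along a closed subscheme

Algebra for strong formal effectiveness of the functor of morphisms.
-/

set_option autoImplicit false

universe u

namespace K642.SEAlg

section

variable {A M A₀ : Type u} [CommRing A] [AddCommGroup M] [Module A M] [CommRing A₀] (ρ : A →+* A₀) (q : M →+ A₀)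

/-- A finite module which becomes free of rank one modulo an ideal is generated by one element near that ideal. -/
theorem exists_gen [Module.Finite A M] (hq : ∀ a m, q (a • m) = ρ a * q m) (hs : Function.Surjective q)
    (hρ : Function.Surjective ρ)
    (hk : ∀ m, q m = 0 → m ∈ (RingHom.ker ρ) • (⊤ : Submodule A M)) :
    ∃ (m : M) (r : A), ρ r = 1 ∧ ∀ x : M, ∃ a : A, r • x = a • m := by
  obtain ⟨m, hm⟩ := hs 1
  have h1 : (⊤ : Submodule A M) ≤ Submodule.span A {m} ⊔ (RingHom.ker ρ) • ⊤ := by
    intro x _
    obtain ⟨a, ha⟩ := hρ (q x)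
    have h2 : x - a • m ∈ (RingHom.ker ρ) • (⊤ : Submodule A M) := by
      apply hk
      rw [map_sub, hq, hm, mul_one, ha, sub_self]
    have h3 : x = a • m + (x - a • m) := by abel
    rw [h3]
    exact Submodule.add_mem_sup (Submodule.smul_mem _ _ (Submodule.mem_span_singleton_self m)) h2
  obtain ⟨r, hr1, hr2⟩ := Submodule.exists_sub_one_mem_and_smul_le_of_fg_of_le_sup (I := RingHom.ker ρ)
    (N := Submodule.span A {m}) (N' := ⊤) (P := ⊤) Module.Finite.fg_top le_rfl h1
  refine ⟨m, r, ?_, fun x => ?_⟩
  · have := (RingHom.mem_ker).1 hr1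
    rwa [map_sub, map_one, sub_eq_zero] at this
  · obtain ⟨a, ha⟩ := Submodule.mem_span_singleton.1 (hr2 (Submodule.smul_mem_pointwise_smul x r ⊤ trivial))
    exact ⟨a, ha.symm⟩

end

section

variable {R A B M A₀ : Type u} [CommRing R] [CommRing A] [CommRing B] [AddCommGroup M] [CommRing A₀]
  [Algebra R A] [Algebra R B] [Algebra A B] [IsScalarTower R A B] [Module B M] [Module A M] [Module R M]
  [IsScalarTower A B M] [IsScalarTower R B M] [IsScalarTower R A M]

theorem finite_of_quot [Module.Finite B M] {C : Type u} [CommRing C] (ψ : B →+* C) (hψ : Function.Surjective ψ)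
    (hk : RingHom.ker ψ ≤ Module.annihilator B M) (hf : (ψ.comp (algebraMap A B)).Finite) : Module.Finite A M := by
  classical
  let i1 : Algebra A C := (ψ.comp (algebraMap A B)).toAlgebra
  have i2 : Module.Finite A C := hf
  obtain ⟨s, hs⟩ := i2.fg_top
  obtain ⟨t, ht⟩ := (Module.Finite.fg_top : (⊤ : Submodule B M).FG)
  choose g hg using hψ
  refine ⟨⟨(s ×ˢ t).image (fun z => g z.1 • z.2), ?_⟩⟩
  rw [eq_top_iff]
  -- elements of `B • t` are in the span
  have h1 : ∀ (b : B) (m : M), m ∈ t → b • m ∈ Submodule.span A (((s ×ˢ t).image (fun z => g z.1 • z.2) : Finset M) : Set M) := by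
    intro b m hm
    have h2 : ψ b ∈ Submodule.span A (s : Set C) := by rw [hs]; trivial
    have h3 : ∀ c ∈ Submodule.span A (s : Set C), ∀ b : B, ψ b = c →
        b • m ∈ Submodule.span A (((s ×ˢ t).image (fun z => g z.1 • z.2) : Finset M) : Set M) := by
      intro c hc
      induction hc using Submodule.span_induction with
      | mem x hx =>
        intro b hb
        have h4 : b - g x ∈ Module.annihilator B M := by
          apply hk
          rw [RingHom.mem_ker, map_sub, hg, hb, sub_self]
        have h5 : b • m = g x • m := by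
          have := Module.mem_annihilator.1 h4 m
          rwa [sub_smul, sub_eq_zero] at this
        rw [h5]
        apply Submodule.subset_span
        simp only [Finset.coe_image, Set.mem_image]
        exact ⟨(x, m), by simpa using ⟨hx, hm⟩, rfl⟩
      | zero =>
        intro b hb
        have h5 : b • m = 0 := Module.mem_annihilator.1 (hk ((RingHom.mem_ker).2 hb)) m
        rw [h5]
        exact Submodule.zero_mem _
      | add x y _ _ hx hy =>
        intro b hb
        have h6 := Submodule.add_mem _ (hx (g x) (hg x)) (hy (g y) (hg y))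
        have h4 : b - (g x + g y) ∈ Module.annihilator B M := by
          apply hk
          rw [RingHom.mem_ker, map_sub, map_add, hg, hg, hb, sub_self]
        have h5 : b • m = g x • m + g y • m := by
          have := Module.mem_annihilator.1 h4 m
          rwa [sub_smul, sub_eq_zero, add_smul] at this
        rw [h5]
        exact h6
      | smul a x _ hx =>
        intro b hb
        have h6 := Submodule.smul_mem _ a (hx (g x) (hg x))
        have h4 : b - algebraMap A B a * g x ∈ Module.annihilator B M := by
          apply hk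
          rw [RingHom.mem_ker, map_sub, map_mul, hg, hb, Algebra.smul_def]
          exact sub_self _
        have h5 : b • m = a • g x • m := by
          have := Module.mem_annihilator.1 h4 m
          rwa [sub_smul, sub_eq_zero, mul_smul, algebraMap_smul] at this
        rw [h5]
        exact h6
    exact h3 _ h2 b rfl
  intro x _
  have hx : x ∈ Submodule.span B (t : Set M) := by rw [ht]; trivial
  obtain ⟨c, -, rfl⟩ := Submodule.mem_span_finset.1 hx
  exact Submodule.sum_mem _ fun m hm => h1 (c m) m hm

omit [IsScalarTower R B M] in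
/-- The main computation. -/
theorem main [Algebra.FinitePresentation R A] [Algebra.FinitePresentation R B] [Module.FinitePresentation B M]
    [Module.Flat R M] (I : Ideal R) (ρ : A →+* A₀) (hρk : RingHom.ker ρ = I.map (algebraMap R A))
    (q : M →+ A₀) (hq : ∀ (a : A) m, q (a • m) = ρ a * q m) (hs : Function.Surjective q)
    (m : M) (hm : ∀ x : M, ∃ a : A, x = a • m) :
    (∀ b : B, ∃ a : A, b - algebraMap A B a ∈ Module.annihilator B M) ∧
      ∃ r : A, ρ r = 1 ∧ ∀ a : A, algebraMap A B a ∈ Module.annihilator B M → r * a = 0 := by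
  have hann : ∀ b : B, b • m = 0 → b ∈ Module.annihilator B M := by
    intro b hb
    rw [Module.mem_annihilator]
    intro x
    obtain ⟨a, rfl⟩ := hm x
    rw [← algebraMap_smul B a m, ← mul_smul, mul_comm, mul_smul, hb, smul_zero]
  have h1 : ∀ b : B, ∃ a : A, b - algebraMap A B a ∈ Module.annihilator B M := by
    intro b
    obtain ⟨a, ha⟩ := hm (b • m)
    refine ⟨a, hann _ ?_⟩
    rw [sub_smul, ha, algebraMap_smul, sub_self]
  refine ⟨h1, ?_⟩
  let 𝔟 : Ideal A := (Module.annihilator B M).comap (algebraMap A B)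
  have hb : ∀ a : A, a • m = 0 → a ∈ 𝔟 := fun a ha => hann _ (by rwa [algebraMap_smul])
  have hb' : ∀ a ∈ 𝔟, a • m = 0 := fun a ha => by
    rw [← algebraMap_smul B a m]
    exact Module.mem_annihilator.1 ha m
  -- finite generation
  have hfg : 𝔟.FG := by
    have h2 : (Module.annihilator B M).FG := by
      have h3 : LinearMap.ker (LinearMap.toSpanSingleton B M m) = Module.annihilator B M := by
        ext b
        rw [LinearMap.mem_ker, LinearMap.toSpanSingleton_apply]
        exact ⟨hann b, fun h => Module.mem_annihilator.1 h m⟩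
      rw [← h3]
      refine Module.FinitePresentation.fg_ker _ ?_
      intro x
      obtain ⟨a, rfl⟩ := hm x
      exact ⟨algebraMap A B a, by rw [LinearMap.toSpanSingleton_apply, algebraMap_smul]⟩
    have h4 : Algebra.FinitePresentation R (B ⧸ Module.annihilator B M) := Algebra.FinitePresentation.quotient h2
    let ψ : A →ₐ[R] (B ⧸ Module.annihilator B M) :=
      (Ideal.Quotient.mkₐ R (Module.annihilator B M)).comp (IsScalarTower.toAlgHom R A B)
    have h5 : Function.Surjective ψ := by
      intro c
      obtain ⟨b, rfl⟩ := Ideal.Quotient.mk_surjective c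
      obtain ⟨a, ha⟩ := h1 b
      exact ⟨a, (Ideal.Quotient.eq.2 ha).symm⟩
    have h6 : RingHom.ker ψ = 𝔟 := by
      ext a
      rw [RingHom.mem_ker]
      exact Ideal.Quotient.eq_zero_iff_mem
    rw [← h6]
    exact Algebra.FinitePresentation.ker_fG_of_surjective ψ h5
  -- `𝔟 ⊆ I A`
  have hle : 𝔟 ≤ I.map (algebraMap R A) := by
    intro a ha
    rw [← hρk, RingHom.mem_ker]
    obtain ⟨y, hy⟩ := hs 1
    obtain ⟨c, rfl⟩ := hm y
    rw [hq] at hy
    have h7 : ρ a * q m = 0 := by rw [← hq, hb' a ha, map_zero]
    calc ρ a = ρ a * (ρ c * q m) := by rw [hy, mul_one]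
      _ = ρ c * (ρ a * q m) := by ring
      _ = 0 := by rw [h7, mul_zero]
  have hle2 : 𝔟 ≤ I.map (algebraMap R A) • 𝔟 := by
    intro x hx
    have h8 := hle hx
    rw [Ideal.map, Ideal.span, Submodule.mem_span_image_iff_exists_fun] at h8
    obtain ⟨t, ht, c, hc⟩ := h8
    have h9 : ∑ i : t, (i : R) • (c i • m) = 0 := by
      rw [← hb' x hx, ← hc, Finset.sum_smul]
      refine Finset.sum_congr rfl fun i _ => ?_
      rw [smul_eq_mul, mul_comm, mul_smul, algebraMap_smul]
    obtain ⟨k, α, y, hy1, hy2⟩ := Module.Flat.isTrivialRelation_of_sum_smul_eq_zero h9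
    choose d hd using fun j => hm (y j)
    have h10 : ∀ i, c i - ∑ j, α i j • d j ∈ 𝔟 := by
      intro i
      apply hb
      have hy1' : c i • m = ∑ j, α i j • y j := hy1 i
      rw [sub_smul, hy1', Finset.sum_smul, sub_eq_zero]
      refine Finset.sum_congr rfl fun j _ => ?_
      rw [hd j, smul_assoc]
    have h11 : x = ∑ i : t, algebraMap R A (i : R) • (c i - ∑ j, α i j • d j) := by
      have h12 : ∑ i : t, algebraMap R A (i : R) • (∑ j, α i j • d j) = 0 := by
        simp only [Finset.smul_sum]
        rw [Finset.sum_comm]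
        refine Finset.sum_eq_zero fun j _ => ?_
        have h13 : ∑ i : t, algebraMap R A (i : R) • α i j • d j = (∑ i : t, (i : R) * α i j) • d j := by
          rw [Finset.sum_smul]
          refine Finset.sum_congr rfl fun i _ => ?_
          rw [algebraMap_smul, mul_smul]
        rw [h13, hy2 j, zero_smul]
      simp only [smul_sub, Finset.sum_sub_distrib, h12, sub_zero]
      rw [← hc]
      refine Finset.sum_congr rfl fun i _ => ?_
      rw [smul_eq_mul, smul_eq_mul, mul_comm]
    rw [h11]
    refine Submodule.sum_mem _ fun i _ => ?_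
    exact Submodule.smul_mem_smul (Ideal.mem_map_of_mem _ (ht i.2)) (h10 i)
  obtain ⟨r, hr1, hr2⟩ := Submodule.exists_sub_one_mem_and_smul_eq_zero_of_fg_of_le_smul _ _ hfg hle2
  refine ⟨r, ?_, fun a ha => hr2 a ha⟩
  rw [← hρk, RingHom.mem_ker, map_sub, map_one, sub_eq_zero] at hr1
  exact hr1

end

section

open scoped TensorProduct

theorem mem_smul_top_of_tmul_eq_zero {B T M : Type u} [CommRing B] [CommRing T] [Algebra B T] [AddCommGroup M] [Module B M]
    (hs : Function.Surjective (algebraMap B T)) (m : M) (h : (1 : T) ⊗ₜ[B] m = 0) :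
    m ∈ (RingHom.ker (algebraMap B T)) • (⊤ : Submodule B M) := by
  let e₁ : (B ⧸ RingHom.ker (Algebra.ofId B T)) ≃ₐ[B] T := Ideal.quotientKerAlgEquivOfSurjective (f := Algebra.ofId B T) hs
  let e₂ : (B ⧸ RingHom.ker (Algebra.ofId B T)) ⊗[B] M ≃ₗ[B] T ⊗[B] M :=
    TensorProduct.congr e₁.toLinearEquiv (LinearEquiv.refl B M)
  have h1 : (1 : B ⧸ RingHom.ker (Algebra.ofId B T)) ⊗ₜ[B] m = 0 := by
    apply e₂.injective
    rw [map_zero, ← h]
    change e₁ 1 ⊗ₜ[B] m = _
    rw [map_one]
  have h2 := congrArg (TensorProduct.quotTensorEquivQuotSMul M (RingHom.ker (Algebra.ofId B T))) h1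
  rw [map_zero] at h2
  have h3 : (TensorProduct.quotTensorEquivQuotSMul M (RingHom.ker (Algebra.ofId B T)))
      ((1 : B ⧸ RingHom.ker (Algebra.ofId B T)) ⊗ₜ[B] m) = Submodule.Quotient.mk m := by
    exact TensorProduct.quotTensorEquivQuotSMul_mk_one_tmul _ m
  rw [h3] at h2
  exact (Submodule.Quotient.mk_eq_zero _).1 h2

end

end K642.SEAlg
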