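import Groth.Agent.AlgSp.K642.SESec
import Groth.Agent.Ega1.AnnIdeal
import Groth.Agent.S10860
import Groth.Agent.S4357
import Groth.Agent.Etrest.ProperOver
import Groth.Agent.Sga67.ClosedPush
import Groth.Agent.DefT.K693.LHGeo
import Groth.Agent.PerfB.ApproxSupp
import Groth.Agent.Models2.FPCoh
import Groth.Agent.Variety.K434.Asymp

/-!
# The support of a module whose restriction to a closed fibre is the structure sheaf of a section
-/

set_option autoImplicit false

universe u

open CategoryTheory CategoryTheory.Limits AlgebraicGeometry Opposite TopologicalSpace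
open scoped TensorProduct

namespace K642.SEGeom

section Aux

variable {W X : Scheme.{u}} (h : W ⟶ X)

theorem away_bijective {A C Ar Cr : Type u} [CommRing A] [CommRing C] [CommRing Ar] [CommRing Cr] [Algebra A Ar] [Algebra C Cr]
    (φ : A →+* C) (hφ : Function.Surjective φ) (r : A) [IsLocalization.Away r Ar] [IsLocalization.Away (φ r) Cr]
    (hr : ∀ a, φ a = 0 → r * a = 0) : Function.Bijective (IsLocalization.Away.map Ar Cr φ r) := by
  have hmap : ∀ a : A, IsLocalization.Away.map Ar Cr φ r (algebraMap A Ar a) = algebraMap C Cr (φ a) := by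
    intro a
    exact IsLocalization.map_eq _ a
  constructor
  · rw [injective_iff_map_eq_zero]
    intro x hx
    obtain ⟨n, a, ha⟩ := IsLocalization.Away.surj r x
    have h1 : algebraMap C Cr (φ a) = 0 := by
      rw [← hmap, ← ha, map_mul, hx, zero_mul]
    rw [IsLocalization.map_eq_zero_iff (Submonoid.powers (φ r))] at h1
    obtain ⟨⟨_, k, rfl⟩, hk⟩ := h1
    have h2 : r * (r ^ k * a) = 0 := by
      apply hr
      rw [map_mul, map_pow]
      exact hk
    have h3 : algebraMap A Ar a = 0 := by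
      rw [IsLocalization.map_eq_zero_iff (Submonoid.powers r)]
      exact ⟨⟨r ^ (k + 1), k + 1, rfl⟩, by simpa [pow_succ', mul_assoc] using h2⟩
    rw [h3] at ha
    exact ((IsLocalization.Away.algebraMap_isUnit r).pow n).mul_left_eq_zero.1 ha
  · intro y
    obtain ⟨n, c, hc⟩ := IsLocalization.Away.surj (φ r) y
    obtain ⟨a, rfl⟩ := hφ c
    refine ⟨IsLocalization.mk' Ar a (⟨r ^ n, n, rfl⟩ : Submonoid.powers r), ?_⟩
    apply ((IsLocalization.Away.algebraMap_isUnit (S := Cr) (φ r)).pow n).mul_right_cancel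
    rw [hc, ← hmap a, ← map_pow, ← map_pow, ← hmap, ← map_mul]
    congr 1
    exact IsLocalization.mk'_spec Ar a (⟨r ^ n, n, rfl⟩ : Submonoid.powers r)

set_option backward.isDefEq.respectTransparency false in
theorem finite_app {U₁ : X.Opens} (H : IsFinite (h ∣_ U₁)) {U : X.Opens} (hU : IsAffineOpen U) (hle : U ≤ U₁) :
    IsAffineOpen (h ⁻¹ᵁ U) ∧ (h.app U).hom.Finite := by
  have h1 : U₁.ι ''ᵁ (U₁.ι ⁻¹ᵁ U) = U := by
    rw [Scheme.Hom.image_preimage_eq_opensRange_inf, Scheme.Opens.opensRange_ι, inf_eq_right.2 hle]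
  have hV : IsAffineOpen (U₁.ι ⁻¹ᵁ U) := by
    rw [← U₁.ι.isAffineOpen_iff_of_isOpenImmersion, h1]
    exact hU
  have h2 := IsFinite.finite_app (f := h ∣_ U₁) _ hV
  have h3 := hV.preimage (h ∣_ U₁)
  rw [← (h ⁻¹ᵁ U₁).ι.isAffineOpen_iff_of_isOpenImmersion, image_morphismRestrict_preimage, h1] at h3
  refine ⟨h3, ?_⟩
  rw [morphismRestrict_app, CommRingCat.hom_comp] at h2
  have h4 : ∀ U' : X.Opens, U' = U → (h.app U').hom.Finite → (h.app U).hom.Finite := by
    rintro _ rfl h
    exact h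
  refine h4 _ h1 ?_
  let e := W.presheaf.mapIso (eqToIso (image_morphismRestrict_preimage h U₁ (U₁.ι ⁻¹ᵁ U))).op
  have h5 : (h.app (U₁.ι ''ᵁ (U₁.ι ⁻¹ᵁ U))).hom = (e.inv.hom).comp ((e.hom.hom).comp (h.app (U₁.ι ''ᵁ (U₁.ι ⁻¹ᵁ U))).hom) := by
    rw [← RingHom.comp_assoc, ← CommRingCat.hom_comp, e.hom_inv_id]
    rfl
  rw [h5]
  exact RingHom.Finite.comp (RingHom.Finite.of_surjective _ (ConcreteCategory.bijective_of_isIso e.inv).2) h2

set_option backward.isDefEq.respectTransparency false in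
/-- A morphism which is surjective on functions over an affine open and whose kernel is killed by `r` is an
isomorphism over `D(r)`. -/
theorem isIso_basicOpen {U : X.Opens} (hU : IsAffineOpen U) (hU' : IsAffineOpen (h ⁻¹ᵁ U)) (hs : Function.Surjective (h.app U))
    (r : Γ(X, U)) (hr : ∀ a, h.app U a = 0 → r * a = 0) : IsIso (h ∣_ (X.basicOpen r)) := by
  have l1 := hU.isLocalization_basicOpen r
  have l2 := hU'.isLocalization_basicOpen (h.app U r)
  have h1 : IsIso (h.app (X.basicOpen r)) := by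
    rw [IsAffineOpen.app_basicOpen_eq_away_map h hU hU' r]
    have h2 : IsIso (CommRingCat.ofHom (IsLocalization.Away.map Γ(X, X.basicOpen r) Γ(W, W.basicOpen (h.app U r)) (h.app U).hom r)) :=
      (ConcreteCategory.isIso_iff_bijective _).2 (away_bijective _ hs r hr)
    infer_instance
  have hD : IsAffineOpen (X.basicOpen r) := hU.basicOpen r
  have hD' : IsAffineOpen (h ⁻¹ᵁ X.basicOpen r) := by
    rw [Scheme.preimage_basicOpen]
    exact hU'.basicOpen _
  have a1 : IsAffine (X.basicOpen r).toScheme := hD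
  have a2 : IsAffine (h ⁻¹ᵁ X.basicOpen r).toScheme := hD'
  have h3 : IsIso (h ∣_ (X.basicOpen r)).appTop := by
    rw [morphismRestrict_appTop]
    have h4 : ∀ U' : X.Opens, U' = X.basicOpen r → IsIso (h.app U') := by
      rintro _ rfl
      exact h1
    have := h4 _ (X.basicOpen r).ι_image_top
    infer_instance
  exact (HasAffineProperty.iff_of_isAffine (P := MorphismProperty.isomorphisms Scheme)).2 ⟨a2, h3⟩

end Aux

section Good

variable {X Z : Scheme.{u}} (p : Z ⟶ X) {W : Scheme.{u}} (i : W ⟶ Z)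

/-- Adapted pairs of affine opens. -/
structure Good (U : X.Opens) (V : Z.Opens) : Prop where
  aU : IsAffineOpen U
  aV : IsAffineOpen V
  le : V ≤ p ⁻¹ᵁ U
  mem : ∀ w : W, p (i w) ∈ U → i w ∈ V
  fin : ∃ U₁ : X.Opens, U ≤ U₁ ∧ IsFinite ((i ≫ p) ∣_ U₁)

variable {p i}

theorem Good.pre {U : X.Opens} {V : Z.Opens} (H : Good p i U V) : i ⁻¹ᵁ V = (i ≫ p) ⁻¹ᵁ U := by
  apply le_antisymm
  · intro w hw
    exact H.le hw
  · intro w hw
    exact H.mem w hw

theorem Good.basicOpen {U : X.Opens} {V : Z.Opens} (H : Good p i U V) (r : Γ(X, U)) :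
    Good p i (X.basicOpen r) (Z.basicOpen (p.appLE U V H.le r)) := by
  have h1 : Z.basicOpen (p.appLE U V H.le r) = V ⊓ p ⁻¹ᵁ X.basicOpen r := Scheme.basicOpen_appLE _ _ _ _ _
  refine ⟨H.aU.basicOpen r, H.aV.basicOpen _, ?_, ?_, ?_⟩
  · rw [h1]
    exact inf_le_right
  · intro w hw
    rw [h1]
    exact ⟨H.mem w (X.basicOpen_le r hw), hw⟩
  · obtain ⟨U₁, h2, h3⟩ := H.fin
    exact ⟨U₁, (X.basicOpen_le r).trans h2, h3⟩

/-- Existence of adapted pairs. -/
theorem exists_good [IsClosedImmersion i] [IsProper (i ≫ p)] (x : X) (z : Z) (hzx : p z = x)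
    (hz : ∀ w : W, p (i w) = x → i w = z) : ∃ (U : X.Opens) (V : Z.Opens), x ∈ U ∧ Good p i U V := by
  obtain ⟨U₁, hU₁, hfin⟩ := Groth.Agent.S10860.result (i ≫ p)
  have hx1 : x ∈ U₁ := by
    rw [← SetLike.mem_coe, hU₁]
    apply Set.Subsingleton.finite
    intro w hw w' hw'
    apply i.injective
    rw [hz w hw, hz w' hw']
  obtain ⟨U₂, hU₂, hxU₂, hU₂₁⟩ := exists_isAffineOpen_mem_and_subset (U := U₁) (x := x) hx1
  have hzU : z ∈ p ⁻¹ᵁ U₂ := by
    change p z ∈ U₂
    rw [hzx]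
    exact hxU₂
  obtain ⟨V₁, hV₁, hzV₁, hV₁₂⟩ := exists_isAffineOpen_mem_and_subset (U := p ⁻¹ᵁ U₂) (x := z) hzU
  have hcl : IsClosed ((i ≫ p) '' {w | i w ∉ V₁}) :=
    (i ≫ p).isClosedMap _ (V₁.isOpen.preimage i.continuous).isClosed_compl
  let U₃ : X.Opens := ⟨((i ≫ p) '' {w | i w ∉ V₁})ᶜ, hcl.isOpen_compl⟩
  have hx3 : x ∈ U₂ ⊓ U₃ := by
    refine ⟨hxU₂, ?_⟩
    rintro ⟨w, hw, hwx⟩
    apply hw
    rw [hz w hwx]
    exact hzV₁
  obtain ⟨r, hr1, hr2⟩ := hU₂.exists_basicOpen_le ⟨x, hx3⟩ hxU₂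
  have h1 : Z.basicOpen (p.appLE U₂ V₁ hV₁₂ r) = V₁ ⊓ p ⁻¹ᵁ X.basicOpen r := Scheme.basicOpen_appLE _ _ _ _ _
  refine ⟨X.basicOpen r, Z.basicOpen (p.appLE U₂ V₁ hV₁₂ r), hr2, hU₂.basicOpen r, hV₁.basicOpen _, ?_, ?_, U₁, ?_, hfin⟩
  · rw [h1]
    exact inf_le_right
  · intro w hw
    rw [h1]
    refine ⟨?_, hw⟩
    by_contra hne
    exact (hr1 hw).2 ⟨w, hne, rfl⟩
  · exact (X.basicOpen_le r).trans hU₂₁

end Good

section Local

open K642.SESec Groth.Agent.Flat2B.GEx Groth.Agent.Flat2B.GExGlob Groth.Agent.Ega1.AnnIdeal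

variable {A A₁ : Type u} [CommRing A] [CommRing A₁] {π : A →+* A₁} {X Z X₁ : Scheme.{u}}
  (f : X ⟶ Spec (CommRingCat.of A)) (p : Z ⟶ X) {j : X₁ ⟶ X} {g : X₁ ⟶ Spec (CommRingCat.of A₁)}
  (s : X₁ ⟶ Z) (hs : s ≫ p = j)

theorem finitePresentation_aMap [LocallyOfFinitePresentation f] {U : X.Opens} (hU : IsAffineOpen U) :
    (aMap f U).FinitePresentation := by
  have h1 := f.finitePresentation_appLE (isAffineOpen_top _) hU le_top
  exact RingHom.FinitePresentation.comp h1 (RingHom.FinitePresentation.of_bijective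
    (ConcreteCategory.bijective_of_isIso (Scheme.ΓSpecIso (CommRingCat.of A)).inv))

/-- Data for the local computation. -/
structure Ctx (π : A →+* A₁) (f : X ⟶ Spec (CommRingCat.of A)) (p : Z ⟶ X) (j : X₁ ⟶ X) (g : X₁ ⟶ Spec (CommRingCat.of A₁))
    (s : X₁ ⟶ Z) (G : Z.Modules) : Prop where
  hs : s ≫ p = j
  hπ : Function.Surjective π
  lfp : LocallyOfFinitePresentation f
  sepf : IsSeparated f
  hpb : IsPullback j g f (Spec.map (CommRingCat.ofHom π))
  sep : IsSeparated p
  lfp' : LocallyOfFinitePresentation p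
  qc : Coh.IsQCoh G
  fp : CohB1.IsFP G
  flat : FlatMod.IsFlatOver (p ≫ f) G
  proper : ClSub.IsProperOver (p ≫ f) (CohB1.support G)
  iso : Nonempty ((Scheme.Modules.pullback (pullback.fst p j)).obj G ≅
      (Scheme.Modules.pushforward (sec p s hs)).obj (Coh.structureModule X₁))

variable {f p s} {G : Z.Modules} (C : Ctx π f p j g s G)

include C

theorem Ctx.ft : CohB1.IsFT G := Groth.Agent.Models2.FPCoh.isFT_of_isFP C.fp

/-- The schematic support. -/
noncomputable abbrev Ctx.I : Z.IdealSheafData := annIdeal G C.qc C.ft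

theorem Ctx.closed_j : IsClosedImmersion j := by
  have := IsClosedImmersion.spec_of_surjective (CommRingCat.ofHom π) C.hπ
  exact MorphismProperty.of_isPullback C.hpb.flip this

theorem Ctx.closed_sec : IsClosedImmersion (sec p s C.hs) := by
  have := C.sep
  have h1 : IsSeparated (pullback.snd p j) := inferInstance
  have h2 : IsClosedImmersion (sec p s C.hs ≫ pullback.snd p j) := by
    rw [sec_snd]
    infer_instance
  exact IsClosedImmersion.of_comp _ (pullback.snd p j)

theorem Ctx.range_ι : Set.range C.I.subschemeι = CohB1.support G := by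
  rw [Scheme.IdealSheafData.range_subschemeι, support_annIdeal]

theorem Ctx.support : (pullback.fst p j) ⁻¹' (CohB1.support G) = Set.range (sec p s C.hs) := by
  obtain ⟨e⟩ := C.iso
  have h0 : Coh.IsQCoh G := C.qc
  have h1 := Groth.Agent.S4357.result (pullback.fst p j) G C.ft
  have h2 := C.closed_sec
  rw [Groth.Agent.PerfB.ApproxSupp.support_iso e, Groth.Agent.Sga67.ClosedPush.support_pushforward,
    K434.Asymp.support_structureModule, Set.image_univ] at h1
  exact h1.symm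

theorem Ctx.mem_support (x : X₁) : s x ∈ CohB1.support G := by
  have h1 : sec p s C.hs x ∈ (pullback.fst p j) ⁻¹' (CohB1.support G) := by
    rw [C.support]
    exact ⟨x, rfl⟩
  have h2 : (pullback.fst p j) (sec p s C.hs x) = s x := by
    rw [← Scheme.Hom.comp_apply, sec_fst]
  rw [← h2]
  exact h1

theorem Ctx.eq_of_mem_support (x : X₁) (z : Z) (hz : z ∈ CohB1.support G) (hx : p z = j x) : z = s x := by
  obtain ⟨y, hy1, hy2⟩ := Scheme.Pullback.exists_preimage_pullback z x hx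
  have h1 : y ∈ (pullback.fst p j) ⁻¹' (CohB1.support G) := by
    change (pullback.fst p j) y ∈ CohB1.support G
    rw [hy1]
    exact hz
  rw [C.support] at h1
  obtain ⟨x', rfl⟩ := h1
  have h2 : x' = x := by
    rw [← hy2, ← Scheme.Hom.comp_apply, sec_snd]
    rfl
  subst h2
  rw [← hy1, ← Scheme.Hom.comp_apply, sec_fst]

theorem Ctx.proper_ι : IsProper (C.I.subschemeι ≫ p) := by
  have := C.lfp
  have := C.lfp'
  have := C.sep
  have := C.sepf
  have h1 : IsProper (C.I.subschemeι ≫ p ≫ f) :=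
    (Groth.Agent.Etrest.ProperOver.isProperOver_iff' C.I.subschemeι (p ≫ f) C.range_ι).1 C.proper
  rw [← Category.assoc] at h1
  exact IsProper.of_comp (C.I.subschemeι ≫ p) f

theorem Ctx.exists_good (x : X₁) : ∃ (U : X.Opens) (V : Z.Opens), j x ∈ U ∧ Good p C.I.subschemeι U V := by
  have := C.proper_ι
  refine K642.SEGeom.exists_good (j x) (s x) (by rw [← Scheme.Hom.comp_apply, C.hs]) (fun w hw => ?_)
  refine C.eq_of_mem_support x _ ?_ hw
  rw [← C.range_ι]
  exact ⟨w, rfl⟩

theorem Ctx.preimage_eq {U : X.Opens} {V : Z.Opens} (H : Good p C.I.subschemeι U V) : s ⁻¹ᵁ V = j ⁻¹ᵁ U := by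
  apply le_antisymm
  · intro x hx
    have := H.le hx
    change p (s x) ∈ U at this
    rwa [← Scheme.Hom.comp_apply, C.hs] at this
  · intro x hx
    have h1 := C.mem_support x
    rw [← C.range_ι] at h1
    obtain ⟨w, hw⟩ := h1
    have h2 := H.mem w (by rw [hw, ← Scheme.Hom.comp_apply, C.hs]; exact hx)
    rwa [hw] at h2

end Local

end K642.SEGeom
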