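import Groth.Agent.AlgSp.K642.SELocal

/-!
# The schematic support is a section
-/

set_option autoImplicit false

universe u

open CategoryTheory CategoryTheory.Limits AlgebraicGeometry Opposite TopologicalSpace
open scoped TensorProduct

namespace K642.SEGeom

open K642.SESec Groth.Agent.Flat2B.GEx Groth.Agent.Flat2B.GExGlob Groth.Agent.Ega1.AnnIdeal

variable {A A₁ : Type u} [CommRing A] [CommRing A₁] {π : A →+* A₁} {X Z X₁ : Scheme.{u}}
  {f : X ⟶ Spec (CommRingCat.of A)} {p : Z ⟶ X} {j : X₁ ⟶ X} {g : X₁ ⟶ Spec (CommRingCat.of A₁)}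
  {s : X₁ ⟶ Z} {G : Z.Modules} (C : Ctx π f p j g s G)

include C

theorem Ctx.le_ker : C.I ≤ s.ker := by
  obtain ⟨e⟩ := C.iso
  have hj := C.closed_j
  have hs : IsClosedImmersion s := by
    have h1 := C.closed_sec
    rw [← sec_fst p s C.hs]
    infer_instance
  intro V b hb
  rw [mem_annIdeal] at hb
  obtain ⟨q, q1, q2, q3⟩ := exists_q C.hs G C.qc e V.2
  rw [Scheme.Hom.ker_apply, RingHom.mem_ker]
  exact q2 b hb

theorem Ctx.exists_lift : ∃ t : X₁ ⟶ C.I.subscheme, t ≫ C.I.subschemeι = s :=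
  ⟨IsClosedImmersion.lift C.I.subschemeι s (by rw [Scheme.IdealSheafData.ker_subschemeι]; exact C.le_ker),
    IsClosedImmersion.lift_fac _ _ _⟩

theorem Ctx.isIso [IsProper f] (hI : RingHom.ker π ≤ Ideal.jacobson ⊥) : IsIso (C.I.subschemeι ≫ p) := by
  let ι := {D : X.Opens // IsIso ((C.I.subschemeι ≫ p) ∣_ D)}
  have h1 : (⋃ D : ι, (D.1 : Set X))ᶜ = ∅ := by
    refine eq_empty_of_isClosed f (RingHom.ker π) hI _ (isOpen_iUnion fun D => D.1.2).isClosed_compl fun x hx hxI => ?_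
    apply hx
    have h2 : f x ∈ Set.range (Spec.map (CommRingCat.ofHom π)) := by
      have h3 : Set.range (PrimeSpectrum.comap π) = PrimeSpectrum.zeroLocus (RingHom.ker π) :=
        _root_.range_comap_of_surjective _ π C.hπ
      have h4 : f x ∈ Set.range (PrimeSpectrum.comap π) := by
        rw [h3]
        exact hxI
      exact h4
    obtain ⟨y, hy⟩ := h2
    obtain ⟨x₁, hx₁, -⟩ := Scheme.exists_preimage_of_isPullback C.hpb x y hy.symm
    obtain ⟨D, hD, hiso⟩ := C.exists_isIso x₁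
    rw [hx₁] at hD
    exact Set.mem_iUnion.2 ⟨⟨D, hiso⟩, hD⟩
  have h2 : (⨆ D : ι, D.1) = ⊤ := by
    apply Opens.ext
    rw [Opens.coe_iSup, Opens.coe_top]
    rwa [Set.compl_empty_iff] at h1
  exact IsZariskiLocalAtTarget.of_iSup_eq_top (P := MorphismProperty.isomorphisms Scheme) (fun D : ι => D.1) h2 (fun D => D.2)

end K642.SEGeom
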