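import Groth.Agent.AlgSp.K642.SEGeom

/-!
# The support of a module whose restriction to a closed fibre is the structure sheaf of a section: local computation
-/

set_option autoImplicit false

universe u

open CategoryTheory CategoryTheory.Limits AlgebraicGeometry Opposite TopologicalSpace
open scoped TensorProduct

namespace K642.SEGeom

open K642.SESec Groth.Agent.Flat2B.GEx Groth.Agent.Flat2B.GExGlob Groth.Agent.Ega1.AnnIdeal

theorem mem_smul_top_of_map {A B M : Type u} [CommRing A] [CommRing B] [Algebra A B] [AddCommGroup M] [Module B M] [Module A M]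
    [IsScalarTower A B M] (J : Ideal A) (m : M) (hm : m ∈ J.map (algebraMap A B) • (⊤ : Submodule B M)) :
    m ∈ J • (⊤ : Submodule A M) := by
  induction hm using Submodule.smul_induction_on' with
  | smul b hb m hm =>
    clear hm
    induction hb using Submodule.span_induction generalizing m with
    | mem x hx =>
      obtain ⟨a, ha, rfl⟩ := hx
      rw [algebraMap_smul]
      exact Submodule.smul_mem_smul ha trivial
    | zero => rw [zero_smul]; exact Submodule.zero_mem _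
    | add x y _ _ hx hy => rw [add_smul]; exact Submodule.add_mem _ (hx m) (hy m)
    | smul b x _ hx => rw [smul_eq_mul, mul_comm, mul_smul]; exact hx _
  | add x hx y hy h1 h2 => exact Submodule.add_mem _ h1 h2

variable {A A₁ : Type u} [CommRing A] [CommRing A₁] {π : A →+* A₁} {X Z X₁ : Scheme.{u}}
  {f : X ⟶ Spec (CommRingCat.of A)} {p : Z ⟶ X} {j : X₁ ⟶ X} {g : X₁ ⟶ Spec (CommRingCat.of A₁)}
  {s : X₁ ⟶ Z} {G : Z.Modules} (C : Ctx π f p j g s G)

include C

/-- The action of functions downstairs. -/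
noncomputable abbrev algUV (p : Z ⟶ X) {U : X.Opens} {V : Z.Opens} (h : V ≤ p ⁻¹ᵁ U) : Algebra Γ(X, U) Γ(Z, V) :=
  (p.appLE U V h).hom.toAlgebra

noncomputable abbrev modUV (p : Z ⟶ X) (G : Z.Modules) {U : X.Opens} {V : Z.Opens} (h : V ≤ p ⁻¹ᵁ U) : Module Γ(X, U) Γ(G, V) :=
  Module.compHom Γ(G, V) (p.appLE U V h).hom

omit C in
theorem towerUV (p : Z ⟶ X) (G : Z.Modules) {U : X.Opens} {V : Z.Opens} (h : V ≤ p ⁻¹ᵁ U) :
    letI := algUV p h
    letI := modUV p G h
    IsScalarTower Γ(X, U) Γ(Z, V) Γ(G, V) :=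
  letI := algUV p h
  letI := modUV p G h
  IsScalarTower.of_algebraMap_smul fun _ _ => rfl

theorem Ctx.exists_data {U : X.Opens} {V : Z.Opens} (H : Good p C.I.subschemeι U V) :
    letI := modUV p G H.le
    ∃ (A₀ : Type u) (_ : CommRing A₀) (ρ : Γ(X, U) →+* A₀) (q : Γ(G, V) →+ A₀), Function.Surjective ρ ∧
      RingHom.ker ρ = (RingHom.ker π).map (aMap f U) ∧ (∀ (a : Γ(X, U)) m, q (a • m) = ρ a * q m) ∧
      Function.Surjective q ∧ (∀ m, q m = 0 → m ∈ (RingHom.ker ρ) • (⊤ : Submodule Γ(X, U) Γ(G, V))) ∧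
      ∀ r, ρ r = 1 → ∀ x : X₁, j x ∈ U → j x ∈ X.basicOpen r := by
  let i1 : Algebra Γ(X, U) Γ(Z, V) := algUV p H.le
  let i2 : Module Γ(X, U) Γ(G, V) := modUV p G H.le
  have i3 : IsScalarTower Γ(X, U) Γ(Z, V) Γ(G, V) := towerUV p G H.le
  have hj := C.closed_j
  obtain ⟨e⟩ := C.iso
  obtain ⟨q, q1, q2, q3⟩ := exists_q C.hs G C.qc e H.aV
  have hpre := C.preimage_eq H
  let ρ : Γ(X, U) →+* Γ(X₁, s ⁻¹ᵁ V) := (s.app V).hom.comp (p.appLE U V H.le).hom
  have hρ : ∀ a, ρ a = X₁.presheaf.map (eqToHom hpre).op (j.app U a) := by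
    intro a
    have h1 : p.appLE U V H.le ≫ s.app V = j.app U ≫ X₁.presheaf.map (eqToHom hpre).op := by
      rw [← Scheme.Hom.appLE_eq_app, Scheme.Hom.appLE_comp_appLE]
      have : ∀ j' : X₁ ⟶ X, (hj' : j' = j) → ∀ e, j'.appLE U (s ⁻¹ᵁ V) e = j.app U ≫ X₁.presheaf.map (eqToHom hpre).op := by
        rintro _ rfl e
        rfl
      exact this _ C.hs _
    exact congr($(h1).hom a)
  have hπ' := IsClosedImmersion.spec_of_surjective (CommRingCat.ofHom π) C.hπ
  have h1 := K693.LHSit.ker_app_eq π C.hπ C.hpb ⟨U, H.aU⟩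
  have h2 := (Groth.Agent.Flat2C.Thick.surjective_app_and_ker_app C.hpb (U := ⊤) (isAffineOpen_top _)
    H.aU (by simp)).1
  have hbij : Function.Bijective (X₁.presheaf.map (eqToHom hpre).op) := ConcreteCategory.bijective_of_isIso _
  have hsq : IsPullback (pullback.fst p j) (pullback.snd p j ≫ g) (p ≫ f) (Spec.map (CommRingCat.ofHom π)) :=
    (IsPullback.of_hasPullback p j).paste_vert C.hpb
  have h3 := K693.LHSit.ker_app_eq π C.hπ hsq ⟨V, H.aV⟩
  have h4 := (Groth.Agent.Flat2C.Thick.surjective_app_and_ker_app hsq (U := ⊤) (isAffineOpen_top _)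
    H.aV (by simp)).1
  obtain ⟨q3, q4⟩ := q3 h4
  have hker : RingHom.ker ρ = (RingHom.ker π).map (aMap f U) := by
    refine Eq.trans ?_ h1
    ext a
    rw [RingHom.mem_ker, RingHom.mem_ker, hρ]
    constructor
    · intro h
      exact hbij.1 (h.trans (map_zero (X₁.presheaf.map (eqToHom hpre).op).hom).symm)
    · intro h
      change X₁.presheaf.map (eqToHom hpre).op (j.app U a) = 0
      rw [show j.app U a = 0 from h, map_zero]
  refine ⟨Γ(X₁, s ⁻¹ᵁ V), inferInstance, ρ, q, ?_, hker, ?_, q3, ?_, ?_⟩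
  · intro y
    obtain ⟨y, rfl⟩ := hbij.2 y
    obtain ⟨a, rfl⟩ := h2 y
    exact ⟨a, hρ a⟩
  · intro a m
    exact q1 _ m
  · intro m hm
    have h5 := q4 m hm
    rw [hker]
    apply mem_smul_top_of_map (B := Γ(Z, V))
    have h6 : (algebraMap Γ(X, U) Γ(Z, V)).comp (aMap f U) = aMap (p ≫ f) V := by
      ext a
      exact Groth.Agent.Flat2B.GExGlob.appLE_aMap p U V H.le a
    rw [Ideal.map_map, h6]
    rw [h3] at h5
    exact h5
  · intro r hr x hx
    rw [hρ] at hr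
    have h5 : j.app U r = 1 := hbij.1 (hr.trans (map_one (X₁.presheaf.map (eqToHom hpre).op).hom).symm)
    change x ∈ j ⁻¹ᵁ X.basicOpen r
    rw [Scheme.preimage_basicOpen, h5, Scheme.basicOpen_of_isUnit _ isUnit_one]
    exact hx

omit C in
theorem Ctx.exists_ψ (C : Ctx π f p j g s G) {U : X.Opens} {V : Z.Opens} (H : Good p C.I.subschemeι U V) :
    ∃ ψ : Γ(Z, V) →+* Γ(C.I.subscheme, (C.I.subschemeι ≫ p) ⁻¹ᵁ U), Function.Surjective ψ ∧
      RingHom.ker ψ = Module.annihilator Γ(Z, V) Γ(G, V) ∧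
      ∀ a, ψ (p.appLE U V H.le a) = (C.I.subschemeι ≫ p).app U a := by
  have h1 := C.I.ker_subschemeι_app ⟨V, H.aV⟩
  have h2 := C.I.subschemeι.app_surjective V H.aV
  have h0 := H.pre
  have hbij : Function.Bijective (C.I.subscheme.presheaf.map (eqToHom h0.symm).op) := ConcreteCategory.bijective_of_isIso _
  refine ⟨(C.I.subschemeι.app V ≫ C.I.subscheme.presheaf.map (eqToHom h0.symm).op).hom, ?_, ?_, ?_⟩
  · intro y
    obtain ⟨y, rfl⟩ := hbij.2 y
    obtain ⟨a, rfl⟩ := h2 y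
    exact ⟨a, rfl⟩
  · refine Eq.trans ?_ h1
    ext a
    rw [RingHom.mem_ker, RingHom.mem_ker]
    constructor
    · intro h
      exact hbij.1 (h.trans (map_zero (C.I.subscheme.presheaf.map (eqToHom h0.symm).op).hom).symm)
    · intro h
      change C.I.subscheme.presheaf.map (eqToHom h0.symm).op (C.I.subschemeι.app V a) = 0
      rw [show C.I.subschemeι.app V a = 0 from h, map_zero]
  · intro a
    have h3 : p.appLE U V H.le ≫ C.I.subschemeι.app V ≫ C.I.subscheme.presheaf.map (eqToHom h0.symm).op = (C.I.subschemeι ≫ p).app U := by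
      have h4 : C.I.subschemeι.app V ≫ C.I.subscheme.presheaf.map (eqToHom h0.symm).op =
        C.I.subschemeι.appLE V ((C.I.subschemeι ≫ p) ⁻¹ᵁ U) h0.ge := rfl
      rw [h4, Scheme.Hom.appLE_comp_appLE, Scheme.Hom.appLE_eq_app]
    exact congr($(h3).hom a)

theorem Ctx.finite {U : X.Opens} {V : Z.Opens} (H : Good p C.I.subschemeι U V) :
    letI := modUV p G H.le
    Module.Finite Γ(X, U) Γ(G, V) := by
  let i1 : Algebra Γ(X, U) Γ(Z, V) := algUV p H.le
  let i2 : Module Γ(X, U) Γ(G, V) := modUV p G H.le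
  have i3 : IsScalarTower Γ(X, U) Γ(Z, V) Γ(G, V) := towerUV p G H.le
  have h0 : Coh.IsQCoh G := C.qc
  have h1 : Module.Finite Γ(Z, V) Γ(G, V) := Groth.Agent.CohqB.FiniteType2.finite_sections_of_isFT G C.ft H.aV
  obtain ⟨ψ, hψ, hk, hc⟩ := C.exists_ψ H
  refine K642.SEAlg.finite_of_quot ψ hψ hk.le ?_
  obtain ⟨U₁, hU₁, hfin⟩ := H.fin
  have h2 := (finite_app _ hfin H.aU hU₁).2
  have h3 : ψ.comp (algebraMap Γ(X, U) Γ(Z, V)) = ((C.I.subschemeι ≫ p).app U).hom := by
    ext a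
    exact hc a
  rw [h3]
  exact h2

theorem Ctx.shrink (x : X₁) : ∃ (U : X.Opens) (V : Z.Opens) (H : Good p C.I.subschemeι U V), j x ∈ U ∧
    letI := modUV p G H.le
    ∃ m : Γ(G, V), ∀ y : Γ(G, V), ∃ a : Γ(X, U), y = a • m := by
  obtain ⟨U, V, hx, H⟩ := C.exists_good x
  obtain ⟨A₀, _, ρ, q, h1, -, h2, h3, h4, h5⟩ := C.exists_data H
  have h6 := C.finite H
  let i2 : Module Γ(X, U) Γ(G, V) := modUV p G H.le
  obtain ⟨m, r, hr1, hr2⟩ := K642.SEAlg.exists_gen ρ q h2 h3 h1 h4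
  refine ⟨X.basicOpen r, Z.basicOpen (p.appLE U V H.le r), H.basicOpen r, h5 r hr1 x hx, ?_⟩
  refine ⟨G.presheaf.map (homOfLE (Z.basicOpen_le _)).op m, fun y => ?_⟩
  obtain ⟨n, t, ht⟩ := Groth.Agent.Fdesc.QCohStalk.exists_map_eq_pow_smul G H.aV C.qc (p.appLE U V H.le r) y
  obtain ⟨a, ha⟩ := hr2 t
  have ha' : (p.appLE U V H.le r) • t = (p.appLE U V H.le a) • m := ha
  have hres : ∀ a : Γ(X, U), Z.presheaf.map (homOfLE (Z.basicOpen_le (p.appLE U V H.le r))).op (p.appLE U V H.le a) =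
      p.appLE (X.basicOpen r) (Z.basicOpen (p.appLE U V H.le r)) (H.basicOpen r).le
        (X.presheaf.map (homOfLE (X.basicOpen_le r)).op a) := by
    intro a
    have h1 : p.appLE U V H.le ≫ Z.presheaf.map (homOfLE (Z.basicOpen_le (p.appLE U V H.le r))).op =
        X.presheaf.map (homOfLE (X.basicOpen_le r)).op ≫
          p.appLE (X.basicOpen r) (Z.basicOpen (p.appLE U V H.le r)) (H.basicOpen r).le := by
      rw [Scheme.Hom.appLE_map, Scheme.Hom.map_appLE]
    exact congr($(h1).hom a)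
  have h7 := congrArg (fun z => G.presheaf.map (homOfLE (Z.basicOpen_le (p.appLE U V H.le r))).op z) ha'
  simp only at h7
  rw [Groth.Agent.Fdesc.QCohStalk.map_smul', Groth.Agent.Fdesc.QCohStalk.map_smul', ht, smul_smul, ← pow_succ', hres, hres] at h7
  have hu : IsUnit (X.presheaf.map (homOfLE (X.basicOpen_le r)).op r) := RingedSpace.isUnit_res_basicOpen _ r
  obtain ⟨v, hv⟩ := hu.exists_left_inv
  refine ⟨v ^ (n + 1) * X.presheaf.map (homOfLE (X.basicOpen_le r)).op a, ?_⟩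
  change _ = (p.appLE (X.basicOpen r) (Z.basicOpen (p.appLE U V H.le r)) (H.basicOpen r).le
    (v ^ (n + 1) * X.presheaf.map (homOfLE (X.basicOpen_le r)).op a)) •
      G.presheaf.map (homOfLE (Z.basicOpen_le (p.appLE U V H.le r))).op m
  rw [map_mul, mul_smul, ← h7, smul_smul, ← map_pow, ← map_mul, ← mul_pow, hv, one_pow, map_one, one_smul]

theorem Ctx.exists_isIso (x : X₁) : ∃ D : X.Opens, j x ∈ D ∧ IsIso ((C.I.subschemeι ≫ p) ∣_ D) := by
  obtain ⟨U, V, H, hx, m, hm⟩ := C.shrink x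
  obtain ⟨A₀, _, ρ, q, h1, hk, h2, h3, h4, h5⟩ := C.exists_data H
  obtain ⟨ψ, hψ, hψk, hc⟩ := C.exists_ψ H
  have := C.lfp
  have := C.lfp'
  let i1 : Algebra Γ(X, U) Γ(Z, V) := algUV p H.le
  let i2 : Module Γ(X, U) Γ(G, V) := modUV p G H.le
  have i3 : IsScalarTower Γ(X, U) Γ(Z, V) Γ(G, V) := towerUV p G H.le
  let j1 : Algebra A Γ(X, U) := aAlgebra f U
  let j2 : Algebra A Γ(Z, V) := aAlgebra (p ≫ f) V
  let j3 : Module A Γ(G, V) := aModule (p ≫ f) G V
  have j4 : IsScalarTower A Γ(Z, V) Γ(G, V) := isScalarTower_a (p ≫ f) G V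
  have j5 : IsScalarTower A Γ(X, U) Γ(Z, V) := IsScalarTower.of_algebraMap_eq fun a =>
    (Groth.Agent.Flat2B.GExGlob.appLE_aMap p U V H.le a).symm
  have j6 : IsScalarTower A Γ(X, U) Γ(G, V) := by
    refine IsScalarTower.of_algebraMap_smul fun a y => ?_
    change (p.appLE U V H.le (aMap f U a)) • y = (aMap (p ≫ f) V a) • y
    rw [← Groth.Agent.Flat2B.GExGlob.appLE_aMap p U V H.le a]
  have k1 : Algebra.FinitePresentation A Γ(X, U) := finitePresentation_aMap f H.aU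
  have k2 : Algebra.FinitePresentation A Γ(Z, V) := finitePresentation_aMap (p ≫ f) H.aV
  have k3 : Module.FinitePresentation Γ(Z, V) Γ(G, V) := Groth.Agent.Desc.FPSections.finitePresentation_sections H.aV C.qc C.fp
  have k4 : Module.Flat A Γ(G, V) := flat_sections (p ≫ f) G C.qc C.flat H.aV
  obtain ⟨l1, r, l2, l3⟩ := K642.SEAlg.main (B := Γ(Z, V)) (RingHom.ker π) ρ hk q h2 h3 m hm
  refine ⟨X.basicOpen r, h5 r l2 x hx, ?_⟩
  obtain ⟨U₁, hU₁, hfin⟩ := H.fin
  refine isIso_basicOpen _ H.aU (finite_app _ hfin H.aU hU₁).1 ?_ r ?_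
  · intro y
    obtain ⟨b, rfl⟩ := hψ y
    obtain ⟨a, ha⟩ := l1 b
    refine ⟨a, ?_⟩
    rw [← hψk, RingHom.mem_ker, map_sub, sub_eq_zero] at ha
    rw [ha]
    exact (hc a).symm
  · intro a ha
    apply l3
    rw [← hψk, RingHom.mem_ker]
    exact (hc a).trans ha

end K642.SEGeom
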