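import Groth.Agent.AlgSp.K642.SEGlue
import Groth.Agent.AlgSp.K642.HomDef
import Groth.Agent.S1270
import Groth.Agent.Dual.H353.DiagBC
import Groth.Agent.Dual.H370.PullKill
import Groth.Agent.KSix.K239.UnitFlat
import Groth.Agent.PerfB.StructFlat
import Groth.Agent.UnramA.LfpOfComp

/-!
# Strong formal effectiveness of the functor of morphisms
-/

set_option autoImplicit false

universe u

open CategoryTheory CategoryTheory.Limits AlgebraicGeometry Opposite TopologicalSpace

namespace K642.SEGeom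

open K642.SESec Groth.Agent.Flat2B.GEx Groth.Agent.Flat2B.GExGlob Groth.Agent.Ega1.AnnIdeal

section Squares

variable {X Z X₀ X₁ : Scheme.{u}} (p : Z ⟶ X) {j₀ : X₀ ⟶ X} {j₁ : X₁ ⟶ X} (ι : X₀ ⟶ X₁) (hι : ι ≫ j₁ = j₀)

/-- Transition morphisms of base changes. -/
noncomputable def trans : pullback p j₀ ⟶ pullback p j₁ :=
  pullback.lift (pullback.fst p j₀) (pullback.snd p j₀ ≫ ι) (by rw [Category.assoc, hι, pullback.condition])

@[reassoc (attr := simp)]
lemma trans_fst : trans p ι hι ≫ pullback.fst p j₁ = pullback.fst p j₀ := pullback.lift_fst _ _ _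

@[reassoc (attr := simp)]
lemma trans_snd : trans p ι hι ≫ pullback.snd p j₁ = pullback.snd p j₀ ≫ ι := pullback.lift_snd _ _ _

lemma isPullback_trans : IsPullback (trans p ι hι) (pullback.snd p j₀) (pullback.snd p j₁) ι := by
  have h1 := IsPullback.of_hasPullback p j₁
  refine IsPullback.of_right (t := h1) ?_ (trans_snd p ι hι)
  rw [trans_fst]
  have h2 := IsPullback.of_hasPullback p j₀
  subst hι
  exact h2

lemma isPullback_sec {s₀ : X₀ ⟶ Z} {s₁ : X₁ ⟶ Z} (hs₀ : s₀ ≫ p = j₀) (hs₁ : s₁ ≫ p = j₁) (h : ι ≫ s₁ = s₀) :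
    IsPullback ι (sec p s₀ hs₀) (sec p s₁ hs₁) (trans p ι hι) := by
  have h1 := (isPullback_trans p ι hι).flip
  have h2 : sec p s₀ hs₀ ≫ trans p ι hι = ι ≫ sec p s₁ hs₁ := by
    apply pullback.hom_ext
    · rw [Category.assoc, trans_fst, sec_fst, Category.assoc, sec_fst, h]
    · rw [Category.assoc, trans_snd, sec_snd_assoc, Category.assoc, sec_snd, Category.comp_id]
  refine IsPullback.flip (IsPullback.of_right (t := h1) ?_ h2)
  rw [sec_snd, sec_snd]
  exact IsPullback.of_horiz_isIso ⟨by simp⟩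

end Squares

/-- A compatible family of sections over a ring limit comes from a section. -/
theorem exists_section {A : Type u} [CommRing A] (A' : ℕ → Type u) [∀ n, CommRing (A' n)]
    (φ : ∀ n, A' (n + 1) →+* A' n) (π : ∀ n, A →+* A' n) (hlim : FlatCA.IsRingLimit A A' φ π)
    (hsurj : ∀ n, Function.Surjective (φ n)) (hnil : ∀ n, ∀ x ∈ RingHom.ker (φ n), IsNilpotent x)
    {X Z : Scheme.{u}} (f : X ⟶ Spec (CommRingCat.of A)) [IsProper f] [Flat f] [LocallyOfFinitePresentation f]
    (p : Z ⟶ X) [IsSeparated p] [LocallyOfFinitePresentation p] [QuasiCompact p]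
    (Xn : ℕ → Scheme.{u}) (j : ∀ n, Xn n ⟶ X) (g : ∀ n, Xn n ⟶ Spec (CommRingCat.of (A' n)))
    (hpb : ∀ n, IsPullback (j n) (g n) f (Spec.map (CommRingCat.ofHom (π n))))
    (ι : ∀ n, Xn n ⟶ Xn (n + 1)) (hιj : ∀ n, ι n ≫ j (n + 1) = j n)
    (hιg : ∀ n, ι n ≫ g (n + 1) = g n ≫ Spec.map (CommRingCat.ofHom (φ n)))
    (s : ∀ n, Xn n ⟶ Z) (hs : ∀ n, s n ≫ p = j n) (hιs : ∀ n, ι n ≫ s (n + 1) = s n) :
    ∃ w : X ⟶ Z, w ≫ p = 𝟙 X ∧ ∀ n, j n ≫ w = s n := by
  have hπs : ∀ n, Function.Surjective (π n) := fun n => Groth.Agent.S1244.pi_surjective A' φ π hlim hsurj n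
  have gflat : ∀ n, Flat (g n) := fun n => MorphismProperty.of_isPullback (hpb n) ‹Flat f›
  have gprop : ∀ n, IsProper (g n) := fun n => MorphismProperty.of_isPullback (hpb n) ‹IsProper f›
  have hcl : ∀ n, IsClosedImmersion (sec p (s n) (hs n)) := by
    intro n
    have h2 : IsClosedImmersion (sec p (s n) (hs n) ≫ pullback.snd p (j n)) := by
      rw [sec_snd]
      infer_instance
    exact IsClosedImmersion.of_comp _ (pullback.snd p (j n))
  have hlfp : ∀ n, LocallyOfFinitePresentation (sec p (s n) (hs n)) := by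
    intro n
    refine Groth.Agent.UnramA.LfpOfComp.lfp_of_comp _ (pullback.snd p (j n)) ?_ inferInstance
    rw [sec_snd]
    infer_instance
  have hq : ∀ n, Coh.IsQCoh (Coh.structureModule (Xn n)) := fun n => Groth.Agent.Ega2.QCohLocal.isQCoh_structureModule _
  have hsupp : ∀ n, Set.range (sec p (s n) (hs n)) =
      CohB1.support ((Scheme.Modules.pushforward (sec p (s n) (hs n))).obj (Coh.structureModule (Xn n))) := by
    intro n
    rw [Groth.Agent.Sga67.ClosedPush.support_pushforward, K434.Asymp.support_structureModule, Set.image_univ]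
  obtain ⟨G, h1, h2, h3, h4⟩ := Groth.Agent.S1270.result A' φ π hlim hsurj hnil (p ≫ f) (fun n => pullback p (j n))
    (fun n => pullback.fst p (j n)) (fun n => pullback.snd p (j n) ≫ g n)
    (fun n => (IsPullback.of_hasPullback p (j n)).paste_vert (hpb n))
    (fun n => trans p (ι n) (hιj n)) (fun n => trans_fst p (ι n) (hιj n))
    (fun n => by rw [trans_snd_assoc, Category.assoc, hιg])
    (fun n => (Scheme.Modules.pushforward (sec p (s n) (hs n))).obj (Coh.structureModule (Xn n)))
    (fun n => (Groth.Agent.Desc.FPSections.isFP_pushforward_iff _ _ (hq n)).1 Groth.Agent.PerfB.StructFlat.isFP_structure)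
    (fun n => by
      refine Groth.Agent.Dual.H353.DiagBC.isFlatOver_pushforward _ _ _ (hq n) ?_
      rw [sec_snd_assoc]
      exact (K239.UnitFlat.isFlatOver_unit_iff (g n)).2 (gflat n))
    (fun n => by
      rw [Groth.Agent.Etrest.ProperOver.isProperOver_iff' (sec p (s n) (hs n)) _ (hsupp n), sec_snd_assoc]
      exact gprop n)
    (fun n => (Groth.Agent.Dual.H370.PullKill.nonempty_pull_push
      (isPullback_sec p (ι n) (hιj n) (hs n) (hs (n + 1)) (hιs n))).some)
  have C : ∀ n, Ctx (π n) f p (j n) (g n) (s n) G := fun n =>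
    { hs := hs n
      hπ := hπs n
      lfp := inferInstance
      sepf := inferInstance
      hpb := hpb n
      sep := inferInstance
      lfp' := inferInstance
      qc := Groth.Agent.Models2.FPCoh.isQCoh_of_isFP h1
      fp := h1
      flat := h2
      proper := h3
      iso := h4 n }
  have hiso : IsIso ((C 0).I.subschemeι ≫ p) := (C 0).isIso (ker_le_jacobson A' φ π hlim hsurj hnil)
  refine ⟨inv ((C 0).I.subschemeι ≫ p) ≫ (C 0).I.subschemeι, ?_, fun n => ?_⟩
  · rw [Category.assoc, IsIso.inv_hom_id]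
  · have key : ∀ {W : Scheme.{u}} (i : W ⟶ Z) (_ : IsIso (i ≫ p)) (t : Xn n ⟶ W) (_ : t ≫ i = s n),
        j n ≫ inv (i ≫ p) ≫ i = s n := by
      intro W i _ t ht
      rw [← hs n, ← ht, Category.assoc, Category.assoc, ← Category.assoc i p, IsIso.hom_inv_id_assoc]
    obtain ⟨t, ht⟩ := (C n).exists_lift
    exact key _ hiso t ht

end K642.SEGeom

namespace K642.SEMain

open K642.HomDef K607.Artin K642.SEGeom

variable {Λ : Type u} [CommRing Λ] (X Y : Over (Spec (CommRingCat.of Λ)))

theorem se_morF [IsProper X.hom] [Flat X.hom] [LocallyOfFinitePresentation X.hom] [IsSeparated Y.hom]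
    [LocallyOfFinitePresentation Y.hom] [QuasiCompact Y.hom]
    (R : ℕ → Type u) [∀ n, CommRing (R n)] [∀ n, Algebra Λ (R n)] (t : ∀ n, R (n + 1) →ₐ[Λ] R n)
    (ht : ∀ n, Function.Surjective (t n)) (hnil : ∀ n, ∀ r ∈ RingHom.ker (t n), IsNilpotent r)
    (R' : Type u) [CommRing R'] [Algebra Λ R'] (π : ∀ n, R' →ₐ[Λ] R n)
    (hlim : FlatCA.IsRingLimit R' R (fun n => (t n).toRingHom) (fun n => (π n).toRingHom))
    (x : ∀ n, (morF X Y).obj (op (sp Λ (R n)))) (hx : ∀ n, (morF X Y).map (spMap (t n)).op (x (n + 1)) = x n) :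
    ∃ x' : (morF X Y).obj (op (sp Λ R')), ∀ n, (morF X Y).map (spMap (π n)).op x' = x n := by
  let f := pullback.fst (sp Λ R').hom X.hom
  let p := pullback.fst (f ≫ (sp Λ R').hom) Y.hom
  have hcomp : ∀ n, xmap X (spMap (t n)) ≫ xmap X (spMap (π (n + 1))) = xmap X (spMap (π n)) := by
    intro n
    rw [← xmap_comp]
    congr 1
    apply Over.OverMorphism.ext
    change Spec.map (CommRingCat.ofHom (t n).toRingHom) ≫ Spec.map (CommRingCat.ofHom (π (n + 1)).toRingHom) =
      Spec.map (CommRingCat.ofHom (π n).toRingHom)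
    rw [← Spec.map_comp, ← CommRingCat.ofHom_comp]
    exact congrArg (fun h => Spec.map (CommRingCat.ofHom h)) (hlim.1 n)
  have hc : ∀ n, xmap X (spMap (π n)) ≫ f ≫ (sp Λ R').hom = (x n).1 ≫ Y.hom := by
    intro n
    rw [(x n).2, xmap_fst_assoc, Over.w]
  obtain ⟨w, hw, hw'⟩ := exists_section R (fun n => (t n).toRingHom) (fun n => (π n).toRingHom) hlim ht hnil f p
    (fun n => xt X (sp Λ (R n))) (fun n => xmap X (spMap (π n))) (fun n => pullback.fst _ _)
    (fun n => isPullback_xmap X (spMap (π n))) (fun n => xmap X (spMap (t n)))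
    hcomp
    (fun n => xmap_fst X (spMap (t n)))
    (fun n => pullback.lift (xmap X (spMap (π n))) (x n).1 (hc n))
    (fun n => pullback.lift_fst _ _ _)
    (fun n => by
      apply pullback.hom_ext
      · rw [Category.assoc, pullback.lift_fst, pullback.lift_fst, hcomp]
      · rw [Category.assoc, pullback.lift_snd, pullback.lift_snd, ← map_val, hx])
  refine ⟨⟨w ≫ pullback.snd _ _, ?_⟩, fun n => ?_⟩
  · rw [Category.assoc, ← pullback.condition, reassoc_of% hw]
  · apply ext'
    rw [map_val, ← Category.assoc, hw', pullback.lift_snd]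

end K642.SEMain
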