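import Groth.Agent.Pinch.K838.PinchSec
import Groth.Agent.Flat2B.GExEnd
import Groth.Agent.Desc.FPSections
import Groth.Agent.AlgSp.K642.SEAlg

/-!
# Sections of a module whose restriction to a closed fibre is the structure sheaf of a section
-/

set_option autoImplicit false

universe u

open CategoryTheory CategoryTheory.Limits AlgebraicGeometry Opposite TopologicalSpace
open scoped TensorProduct

namespace K642.SESec

variable {A A₁ : Type u} [CommRing A] [CommRing A₁] {π : A →+* A₁} {X Z X₁ : Scheme.{u}}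
  {f : X ⟶ Spec (CommRingCat.of A)} (p : Z ⟶ X) {j : X₁ ⟶ X} {g : X₁ ⟶ Spec (CommRingCat.of A₁)}
  (s : X₁ ⟶ Z) (hs : s ≫ p = j)

/-- The induced section of the base change. -/
noncomputable def sec : X₁ ⟶ pullback p j := pullback.lift s (𝟙 X₁) (by rw [hs, Category.id_comp])

@[reassoc (attr := simp)]
lemma sec_fst : sec p s hs ≫ pullback.fst p j = s := pullback.lift_fst _ _ _

@[reassoc (attr := simp)]
lemma sec_snd : sec p s hs ≫ pullback.snd p j = 𝟙 _ := pullback.lift_snd _ _ _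

variable {p s}

/-- Comparison of sections. -/
theorem exists_q [IsAffineHom j] (G : Z.Modules) (hG : Coh.IsQCoh G)
    (e : (Scheme.Modules.pullback (pullback.fst p j)).obj G ≅
      (Scheme.Modules.pushforward (sec p s hs)).obj (Coh.structureModule X₁)) {V : Z.Opens} (hV : IsAffineOpen V) :
    ∃ q : Γ(G, V) →+ Γ(X₁, s ⁻¹ᵁ V), (∀ (b : Γ(Z, V)) (m : Γ(G, V)), q (b • m) = s.app V b * q m) ∧
      (∀ b : Γ(Z, V), (∀ m : Γ(G, V), b • m = 0) → s.app V b = 0) ∧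
      (Function.Surjective ((pullback.fst p j).app V) → Function.Surjective q ∧
        ∀ m, q m = 0 → m ∈ (RingHom.ker ((pullback.fst p j).app V).hom) • (⊤ : Submodule Γ(Z, V) Γ(G, V))) := by
  have hk : IsAffineHom (pullback.fst p j) := MorphismProperty.pullback_fst _ _ inferInstance
  let k := pullback.fst p j
  let iT : Algebra Γ(Z, V) Γ(pullback p j, k ⁻¹ᵁ V) := (k.app V).hom.toAlgebra
  obtain ⟨E⟩ := K838.PinchSec.exists_equiv k G hG hV (hV.preimage k) rfl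
  let σ := sec p s hs
  have hop : σ ⁻¹ᵁ k ⁻¹ᵁ V = s ⁻¹ᵁ V := by
    rw [← Scheme.Hom.comp_preimage, sec_fst]
  let c : Γ(X₁, σ ⁻¹ᵁ k ⁻¹ᵁ V) →+* Γ(X₁, s ⁻¹ᵁ V) := (X₁.presheaf.map (eqToHom hop.symm).op).hom
  have hc : Function.Bijective c := ConcreteCategory.bijective_of_isIso (X₁.presheaf.map (eqToHom hop.symm).op)
  have hcσ : ∀ b : Γ(Z, V), c (σ.app (k ⁻¹ᵁ V) (k.app V b)) = s.app V b := by
    intro b
    have h1 := Scheme.Hom.congr_app (sec_fst p s hs).symm V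
    rw [Scheme.Hom.comp_app] at h1
    rw [h1]
    rfl
  let ε : Γ((Scheme.Modules.pullback k).obj G, k ⁻¹ᵁ V) → Γ(X₁, σ ⁻¹ᵁ k ⁻¹ᵁ V) := fun y => e.hom.app (k ⁻¹ᵁ V) y
  have hε : Function.Bijective ε := ConcreteCategory.bijective_of_isIso (e.hom.app (k ⁻¹ᵁ V))
  have hε0 : ∀ x y, ε (x + y) = ε x + ε y := fun x y => map_add (e.hom.app (k ⁻¹ᵁ V)).hom x y
  have hε1 : ∀ (t : Γ(pullback p j, k ⁻¹ᵁ V)) y, ε (t • y) = σ.app (k ⁻¹ᵁ V) t * ε y := by
    intro t y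
    exact e.hom.app_smul t y
  let Φ : Γ(pullback p j, k ⁻¹ᵁ V) ⊗[Γ(Z, V)] Γ(G, V) →+ Γ(X₁, s ⁻¹ᵁ V) :=
    AddMonoidHom.mk' (fun y => c (ε (E y))) (by
      intro x y
      rw [map_add, hε0, map_add])
  have hΦb : Function.Bijective Φ := hc.comp (hε.comp E.bijective)
  have hΦ : ∀ (t : Γ(pullback p j, k ⁻¹ᵁ V)) y, Φ (t • y) = c (σ.app (k ⁻¹ᵁ V) t) * Φ y := by
    intro t y
    change c (ε (E (t • y))) = _ * c (ε (E y))
    rw [map_smul, hε1, map_mul]
  have hsm : ∀ (b : Γ(Z, V)) (m : Γ(G, V)) (t : Γ(pullback p j, k ⁻¹ᵁ V)), t ⊗ₜ[Γ(Z, V)] (b • m) = (k.app V b) • (t ⊗ₜ[Γ(Z, V)] m) := by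
    intro b m t
    rw [← TensorProduct.smul_tmul, TensorProduct.smul_tmul']
    rfl
  refine ⟨AddMonoidHom.mk' (fun m => Φ (1 ⊗ₜ m)) (by intro x y; rw [TensorProduct.tmul_add, map_add]), ?_, ?_, ?_⟩
  · intro b m
    change Φ (1 ⊗ₜ (b • m)) = _ * Φ (1 ⊗ₜ m)
    rw [hsm, hΦ, hcσ]
  · intro b hb
    obtain ⟨y, hy⟩ := hΦb.2 1
    have h1 : ∀ y : Γ(pullback p j, k ⁻¹ᵁ V) ⊗[Γ(Z, V)] Γ(G, V), (k.app V b) • y = 0 := by
      intro y
      induction y using TensorProduct.induction_on with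
      | zero => rw [smul_zero]
      | tmul t m => rw [← hsm, hb, TensorProduct.tmul_zero]
      | add x y hx hy => rw [smul_add, hx, hy, add_zero]
    have h2 := hΦ (k.app V b) y
    rw [h1, map_zero, hcσ, hy, mul_one] at h2
    exact h2.symm
  · intro hsur
    have hgen : ∀ y : Γ(pullback p j, k ⁻¹ᵁ V) ⊗[Γ(Z, V)] Γ(G, V), ∃ m, y = 1 ⊗ₜ m := by
      intro y
      induction y using TensorProduct.induction_on with
      | zero => exact ⟨0, (TensorProduct.tmul_zero _ _).symm⟩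
      | tmul t m =>
        obtain ⟨b, rfl⟩ := hsur t
        exact ⟨b • m, by rw [hsm, TensorProduct.smul_tmul', smul_eq_mul, mul_one]⟩
      | add x y hx hy =>
        obtain ⟨m, rfl⟩ := hx
        obtain ⟨m', rfl⟩ := hy
        exact ⟨m + m', by rw [TensorProduct.tmul_add]⟩
    refine ⟨fun x => ?_, fun m hm => ?_⟩
    · obtain ⟨y, rfl⟩ := hΦb.2 x
      obtain ⟨m, rfl⟩ := hgen y
      exact ⟨m, rfl⟩
    · have h1 : (1 : Γ(pullback p j, k ⁻¹ᵁ V)) ⊗ₜ[Γ(Z, V)] m = 0 := by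
        apply hΦb.1
        rw [map_zero]
        exact hm
      exact K642.SEAlg.mem_smul_top_of_tmul_eq_zero hsur m h1

end K642.SESec
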