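import Groth.Agent.AlgSp.K642.Trace

/-!
# The symmetrised direct image from the object of `n` distinct points

For a module `M` and the object `V` of `n` distinct points: `eta : M ⟶ PM V M`, an idempotent `proj` of `PM V M` fixing
`eta`; over an object with `n` distinct points, when `M` vanishes on objects with `n + 1` distinct points, `eta` is
bijective onto the sections fixed by `proj`.
-/

set_option autoImplicit false
universe u
open CategoryTheory CategoryTheory.Limits AlgebraicGeometry Opposite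

set_option backward.isDefEq.respectTransparency false

namespace K642.SymPush

open AlgSp K643.Site K642.Dist K642.SymW K642.Trace

variable {S : Scheme.{u}} {X : Sp S}

/-- a morphism of modules from its action on sections -/
noncomputable def homOf {M N : ModEt X} (φ : ∀ E, sc M E →+ sc N E)
    (h1 : ∀ (E E' : EtOver X) (g : E ⟶ E') (m : sc M E'), φ E (rs M g m) = rs N g (φ E' m))
    (h2 : ∀ (E : EtOver X) (r : rg X E) (m : sc M E), φ E (r • m) = r • φ E m) : M ⟶ N :=
  ⟨PresheafOfModules.homMk
    { app := fun E => AddCommGrpCat.ofHom (φ E.unop)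
      naturality := fun E E' g => AddCommGrpCat.hom_ext (AddMonoidHom.ext fun m => h1 E'.unop E.unop g.unop m) }
    (fun E r m => h2 E.unop r m)⟩

/-- action of a morphism on sections -/
noncomputable abbrev ap {M N : ModEt X} (f : M ⟶ N) {E : EtOver X} (m : sc M E) : sc N E := f.val.app (op E) m

theorem homOf_ap {M N : ModEt X} (φ : ∀ E, sc M E →+ sc N E) (h1) (h2) {E : EtOver X} (m : sc M E) :
    ap (homOf φ h1 h2) m = φ E m := rfl

theorem ap_comp {M N P : ModEt X} (f : M ⟶ N) (g : N ⟶ P) {E : EtOver X} (m : sc M E) : ap (f ≫ g) m = ap g (ap f m) :=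
  rfl

theorem ap_id {M : ModEt X} {E : EtOver X} (m : sc M E) : ap (𝟙 M) m = m := rfl

theorem ap_rs {M N : ModEt X} (f : M ⟶ N) {E E' : EtOver X} (g : E ⟶ E') (m : sc M E') :
    ap f (rs M g m) = rs N g (ap f m) := by
  have h := f.val.naturality g.op
  exact congrArg (fun k => (ConcreteCategory.hom k) m) h

theorem ap_sub {M N : ModEt X} (f g : M ⟶ N) {E : EtOver X} (m : sc M E) : ap (f - g) m = ap f m - ap g m := rfl

theorem ap_zero {M N : ModEt X} {E : EtOver X} (m : sc M E) : ap (0 : M ⟶ N) m = 0 := rfl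

theorem ap_map_zero {M N : ModEt X} (f : M ⟶ N) {E : EtOver X} : ap f (0 : sc M E) = 0 :=
  map_zero (f.val.app (op E)).hom

theorem ap_map_sub {M N : ModEt X} (f : M ⟶ N) {E : EtOver X} (m m' : sc M E) : ap f (m - m') = ap f m - ap f m' :=
  map_sub (f.val.app (op E)).hom m m'

theorem hom_ext_ap {M N : ModEt X} {f g : M ⟶ N} (h : ∀ (E : EtOver X) (m : sc M E), ap f m = ap g m) : f = g := by
  apply SheafOfModules.hom_ext
  ext E m
  exact h E.unop m

/-- sections of modules are determined locally -/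
theorem sec_ext {M : ModEt X} {E : EtOver X} {x y : sc M E}
    (h : ∀ p : sch E, ∃ (E' : EtOver X) (g : E' ⟶ E) (v : sch E'), schMap g v = p ∧ rs M g x = rs M g y) : x = y := by
  let R : Sieve E :=
    { arrows := fun E' g => rs M g x = rs M g y
      downward_closed := fun {Y Z g} hg k => by
        rw [← rs_comp, ← rs_comp, hg] }
  have hR : R ∈ etTop X E := by
    rw [mem_iff]
    intro p
    obtain ⟨E', g, v, hv, hg⟩ := h p
    exact ⟨E', g, v, hg, hv⟩
  exact (((isSheaf_iff_isSheaf_of_type _ _).1 ((sheafCompose (etTop X) (CategoryTheory.forget AddCommGrpCat.{u + 1})).obj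
    ⟨M.val.presheaf, M.isSheaf⟩).property) R hR).isSeparatedFor.ext fun Y g hg => hg

section Sym

variable {U : EtOver X} {n : ℕ} (D : DU U n) (M : ModEt X) (b : rg X D.V)

/-- the symmetrisation -/
noncomputable def symW (E : EtOver X) : sc M ((W D.V).obj E) →+ sc M ((W D.V).obj E) where
  toFun x := ∑ σ : Equiv.Perm (Fin n), rs M (wmap (act D σ) E) (rr X (wV D.V E) b • x)
  map_zero' := by
    refine Finset.sum_eq_zero fun σ _ => ?_
    rw [smul_zero]
    exact map_zero (M.val.map (wmap (act D σ) E).op).hom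
  map_add' x y := by
    rw [← Finset.sum_add_distrib]
    refine Finset.sum_congr rfl fun σ _ => ?_
    rw [smul_add, rs_add]

theorem symW_apply (E : EtOver X) (x : sc M ((W D.V).obj E)) :
    symW D M b E x = ∑ σ : Equiv.Perm (Fin n), rs M (wmap (act D σ) E) (rr X (wV D.V E) b • x) := rfl

theorem rs_symW (E : EtOver X) (x : sc M ((W D.V).obj E)) (τ : Equiv.Perm (Fin n)) :
    rs M (wmap (act D τ) E) (symW D M b E x) = symW D M b E x := by
  rw [symW_apply, rs_sum]
  refine Fintype.sum_equiv (Equiv.mulLeft τ) _ _ fun σ => ?_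
  rw [rs_comp, ← wmap_comp, ← act_mul]
  rfl

variable {b}

theorem symW_eq (hb : ∑ σ : Equiv.Perm (Fin n), rr X (act D σ) b = 1) (E : EtOver X) (x : sc M ((W D.V).obj E))
    (hx : ∀ σ, rs M (wmap (act D σ) E) x = x) : symW D M b E x = x := by
  rw [symW_apply]
  have h1 : ∀ σ : Equiv.Perm (Fin n), rs M (wmap (act D σ) E) (rr X (wV D.V E) b • x) =
      rr X (wV D.V E) (rr X (act D σ) b) • x := by
    intro σ
    rw [rs_smul, hx, rr_comp, rr_comp, wmap_wV]
  rw [Finset.sum_congr rfl fun σ _ => h1 σ, ← Finset.sum_smul, ← map_sum, hb, map_one, one_smul]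

variable (b)

/-- The projector onto the invariants. -/
noncomputable def proj : PM D.V M ⟶ PM D.V M :=
  homOf (fun E => ((eW D.V M E).symm.toAddMonoidHom.comp (symW D M b E)).comp (eW D.V M E).toAddMonoidHom)
    (by
      intro E E' g m
      apply (eW D.V M E).injective
      rw [eW_rs]
      change eW D.V M E ((eW D.V M E).symm (symW D M b E (eW D.V M E (rs (PM D.V M) g m)))) =
        rs M ((W D.V).map g) (eW D.V M E' ((eW D.V M E').symm (symW D M b E' (eW D.V M E' m))))
      rw [AddEquiv.apply_symm_apply, AddEquiv.apply_symm_apply, eW_rs, symW_apply, symW_apply, rs_sum]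
      refine Finset.sum_congr rfl fun σ _ => ?_
      rw [rs_comp, ← wmap_nat, ← rs_comp, rs_smul M ((W D.V).map g), rr_comp, map_wV'])
    (by
      intro E r m
      apply (eW D.V M E).injective
      rw [eW_smul]
      change eW D.V M E ((eW D.V M E).symm (symW D M b E (eW D.V M E (r • m)))) =
        rr X (wE D.V E) r • (eW D.V M E ((eW D.V M E).symm (symW D M b E (eW D.V M E m))))
      rw [AddEquiv.apply_symm_apply, AddEquiv.apply_symm_apply, eW_smul, symW_apply, symW_apply, Finset.smul_sum]
      refine Finset.sum_congr rfl fun σ _ => ?_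
      rw [smul_smul, rg_mul_comm, ← smul_smul, rs_smul, rr_comp, wmap_wE])

theorem eW_proj {E : EtOver X} (m : sc (PM D.V M) E) :
    eW D.V M E (ap (proj D M b) m) = symW D M b E (eW D.V M E m) :=
  (eW D.V M E).apply_symm_apply _

/-- The unit. -/
noncomputable def eta : M ⟶ PM D.V M :=
  homOf (fun E => (eW D.V M E).symm.toAddMonoidHom.comp (M.val.map (wE D.V E).op).hom.toAddMonoidHom)
    (by
      intro E E' g m
      apply (eW D.V M E).injective
      rw [eW_rs]
      change eW D.V M E ((eW D.V M E).symm (rs M (wE D.V E) (rs M g m))) =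
        rs M ((W D.V).map g) (eW D.V M E' ((eW D.V M E').symm (rs M (wE D.V E') m)))
      rw [AddEquiv.apply_symm_apply, AddEquiv.apply_symm_apply, rs_comp, rs_comp, map_wE])
    (by
      intro E r m
      apply (eW D.V M E).injective
      rw [eW_smul]
      change eW D.V M E ((eW D.V M E).symm (rs M (wE D.V E) (r • m))) =
        rr X (wE D.V E) r • (eW D.V M E ((eW D.V M E).symm (rs M (wE D.V E) m)))
      rw [AddEquiv.apply_symm_apply, AddEquiv.apply_symm_apply, rs_smul])

theorem eW_eta {E : EtOver X} (m : sc M E) : eW D.V M E (ap (eta D M) m) = rs M (wE D.V E) m :=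
  (eW D.V M E).apply_symm_apply _

variable {b}

theorem eta_proj (hb : ∑ σ : Equiv.Perm (Fin n), rr X (act D σ) b = 1) : eta D M ≫ proj D M b = eta D M := by
  refine hom_ext_ap fun E m => (eW D.V M E).injective ?_
  rw [ap_comp, eW_proj, eW_eta, symW_eq D M hb]
  intro σ
  rw [rs_comp, wmap_wE]

theorem proj_proj (hb : ∑ σ : Equiv.Perm (Fin n), rr X (act D σ) b = 1) :
    proj D M b ≫ proj D M b = proj D M b := by
  refine hom_ext_ap fun E m => (eW D.V M E).injective ?_
  rw [ap_comp, eW_proj, eW_proj, symW_eq D M hb]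
  exact rs_symW D M b E _

theorem eta_injective {E : EtOver X} (q : E ⟶ D.V) (m m' : sc M E) (h : ap (eta D M) m = ap (eta D M) m') : m = m' := by
  have h1 := congrArg (eW D.V M E) h
  rw [eW_eta, eW_eta] at h1
  have h2 := congrArg (rs M (wlift q (𝟙 E))) h1
  rw [rs_comp, rs_comp, wlift_wE, rs_id, rs_id] at h2
  exact h2

/-- Over an object with `n` distinct points the invariants come from `M`, if `M` vanishes on objects with `n + 1` distinct
points. -/
theorem exists_eta (hG : Good U) (hM : ∀ (E : EtOver X) (c : Fin (n + 1) → (E ⟶ U)), Dist c → Subsingleton (sc M E))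
    {E : EtOver X} (q : E ⟶ D.V) (y : sc (PM D.V M) E) (hy : ap (proj D M b) y = y) : ∃ m : sc M E, ap (eta D M) m = y := by
  let x := eW D.V M E y
  have hx : ∀ σ, rs M (wmap (act D σ) E) x = x := by
    intro σ
    have h1 := congrArg (eW D.V M E) hy
    rw [eW_proj] at h1
    have h2 := rs_symW D M b E x σ
    rw [h1] at h2
    exact h2
  let s : E ⟶ (W D.V).obj E := wlift q (𝟙 E)
  refine ⟨rs M s x, (eW D.V M E).injective ?_⟩
  rw [eW_eta, rs_comp]
  change rs M (wE D.V E ≫ s) x = x
  let c : Fin n → ((W D.V).obj E ⟶ U) := fun i => wV D.V E ≫ D.a i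
  let a : Fin n → ((W D.V).obj E ⟶ U) := fun i => wE D.V E ≫ q ≫ D.a i
  have hc : Dist c := D.dist.comp _
  have ha : Dist a := (D.dist.comp q).comp _
  refine sec_ext fun p => ?_
  by_cases hp : ∀ j, ∃ i, p ∈ eqLoc (c j) (a i)
  · choose f hf using hp
    have hinj : Function.Injective f := fun j j' h => hc.eq (mem_eqLoc_trans hG (hf j)
      (mem_eqLoc_comm hG (h ▸ hf j')))
    let σ : Equiv.Perm (Fin n) := Equiv.ofBijective f (Finite.injective_iff_bijective.1 hinj)
    let O : (sch ((W D.V).obj E)).Opens := ⟨⋂ j, eqLoc (c j) (a (f j)),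
      isOpen_iInter_of_finite fun j => (isClopen_eqLoc hG _ _).2⟩
    have hO : Set.range (schMap (opnι _ O)) = ⋂ j, eqLoc (c j) (a (f j)) := range_opnι _ O
    let ι := opnι ((W D.V).obj E) O
    have h1 : ∀ j, ι ≫ c j = ι ≫ a (f j) := fun j =>
      (comp_eq_iff hG ι (c j) (a (f j))).2 (hO.subset.trans (Set.iInter_subset _ j))
    have h2 : ι ≫ wV D.V E = (ι ≫ wE D.V E) ≫ q ≫ act D σ := by
      refine D.ext _ _ fun j => ?_
      rw [Category.assoc, Category.assoc, Category.assoc, Category.assoc, act_a]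
      exact h1 j
    have h3 : ι = ((ι ≫ wE D.V E) ≫ s) ≫ wmap (act D σ) E := by
      refine w_ext ?_ ?_
      · rw [h2, Category.assoc _ (wmap (act D σ) E), wmap_wV, Category.assoc _ s, wlift_wV_assoc]
      · rw [Category.assoc _ (wmap (act D σ) E), wmap_wE, Category.assoc _ s, wlift_wE, Category.comp_id]
    obtain ⟨v, hv⟩ : p ∈ Set.range (schMap ι) := by
      rw [hO]
      exact Set.mem_iInter.2 hf
    refine ⟨_, ι, v, hv, ?_⟩
    rw [rs_comp, ← Category.assoc]
    conv_rhs => rw [h3, ← rs_comp, hx]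
  · push Not at hp
    obtain ⟨j, hj⟩ := hp
    let O : (sch ((W D.V).obj E)).Opens := ⟨⋂ i, (eqLoc (c j) (a i))ᶜ,
      isOpen_iInter_of_finite fun i => (isClopen_eqLoc hG _ _).compl.2⟩
    have hO : Set.range (schMap (opnι _ O)) = ⋂ i, (eqLoc (c j) (a i))ᶜ := range_opnι _ O
    let ι := opnι ((W D.V).obj E) O
    have h1 : ∀ i, eqLoc (ι ≫ c j) (ι ≫ a i) = ∅ := by
      intro i
      rw [eqLoc_comp, Set.eq_empty_iff_forall_notMem]
      intro w hw
      have h2 : schMap ι w ∈ ⋂ i, (eqLoc (c j) (a i))ᶜ := hO ▸ ⟨w, rfl⟩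
      exact Set.mem_iInter.1 h2 i hw
    obtain ⟨v, hv⟩ : p ∈ Set.range (schMap ι) := by
      rw [hO]
      exact Set.mem_iInter.2 fun i => hj i
    have := hM _ _ (dist_cons hG (ha.comp ι) h1)
    exact ⟨_, ι, v, hv, Subsingleton.elim _ _⟩

end Sym

end K642.SymPush
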