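import Groth.Agent.AlgSp.K612.ResEt
import Groth.Agent.AlgSp.K642.Dist

/-!
# The functor `E ↦ V × E` on the small etale site, and the module `E ↦ M(V × E)`

`W V : EtOver X ⥤ EtOver X` with projections `wV`, `wE`; `PM V M` is the direct image of the restriction of `M` to `V`:
sections over `E` are `M(W E)`.
-/

set_option autoImplicit false
universe u
open CategoryTheory CategoryTheory.Limits AlgebraicGeometry Opposite

set_option backward.isDefEq.respectTransparency false

namespace K642.SymW

open AlgSp K643.Site K612.ResEt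

variable {S : Scheme.{u}} {X : Sp S} (V : EtOver X)

theorem isEtaleMor_hom : IsEtaleMor V.obj.hom := fun _ _ hφ =>
  (repWith_isMultiplicative (S := S) @Etale).comp_mem _ _ hφ V.property

/-- `E ↦ V × E` -/
noncomputable def W : EtOver X ⥤ EtOver X :=
  EtOver.bc V.property.1 ⋙ EtOver.postcomp V.obj.hom (isEtaleMor_hom V)

/-- second projection -/
noncomputable def wE (E : EtOver X) : (W V).obj E ⟶ E := adjCounit V.property.1 (isEtaleMor_hom V) E

/-- first projection -/
noncomputable def wV (E : EtOver X) : (W V).obj E ⟶ V :=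
  EtOver.homMk ((yon S).preimage (V.property.1.fst E.obj.hom)) (by
    rw [(yon S).map_preimage]
    rfl)

variable {V}

theorem map_wV (E : EtOver X) : (yon S).map (wV V E).hom.left = V.property.1.fst E.obj.hom :=
  (yon S).map_preimage _

theorem w_ext {E Z : EtOver X} {x y : Z ⟶ (W V).obj E} (h1 : x ≫ wV V E = y ≫ wV V E)
    (h2 : x ≫ wE V E = y ≫ wE V E) : x = y := by
  refine EtOver.hom_ext _ _ (V.property.1.hom_ext ?_ ?_)
  · have h3 := congrArg (fun k => (yon S).map k.hom.left) h1
    change (yon S).map (x.hom.left ≫ (wV V E).hom.left) = (yon S).map (y.hom.left ≫ (wV V E).hom.left) at h3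
    rw [Functor.map_comp, Functor.map_comp, map_wV] at h3
    exact h3
  · exact congrArg (fun k => k.hom.left) h2

/-- morphisms to `V × E` -/
noncomputable def wlift {E Z : EtOver X} (a : Z ⟶ V) (e : Z ⟶ E) : Z ⟶ (W V).obj E :=
  EtOver.homMk (V.property.1.lift ((yon S).map a.hom.left) e.hom.left ((EtOver.w a).trans (EtOver.w e).symm))
    (by
      refine Eq.trans ?_ (EtOver.w a)
      exact (Category.assoc _ _ _).symm.trans (congrArg (· ≫ V.obj.hom) (V.property.1.lift_fst _ _ _)))

@[reassoc (attr := simp)] theorem wlift_wE {E Z : EtOver X} (a : Z ⟶ V) (e : Z ⟶ E) : wlift a e ≫ wE V E = e :=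
  EtOver.hom_ext _ _ (V.property.1.lift_snd _ _ _)

@[reassoc (attr := simp)] theorem wlift_wV {E Z : EtOver X} (a : Z ⟶ V) (e : Z ⟶ E) : wlift a e ≫ wV V E = a := by
  refine EtOver.hom_ext _ _ ((yon S).map_injective ?_)
  change (yon S).map ((wlift a e).hom.left ≫ (wV V E).hom.left) = _
  rw [Functor.map_comp, map_wV]
  exact V.property.1.lift_fst _ _ _

theorem comp_wlift {E Z Z' : EtOver X} (q : Z' ⟶ Z) (a : Z ⟶ V) (e : Z ⟶ E) :
    q ≫ wlift a e = wlift (q ≫ a) (q ≫ e) := w_ext (by simp) (by simp)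

@[reassoc (attr := simp)] theorem map_wE {E E' : EtOver X} (g : E ⟶ E') : (W V).map g ≫ wE V E' = wE V E ≫ g :=
  EtOver.hom_ext _ _ (EtOver.bcMap_snd V.property.1 g)

@[reassoc (attr := simp)] theorem map_wV' {E E' : EtOver X} (g : E ⟶ E') : (W V).map g ≫ wV V E' = wV V E := by
  refine EtOver.hom_ext _ _ ((yon S).map_injective ?_)
  change (yon S).map (((W V).map g).hom.left ≫ (wV V E').hom.left) = _
  rw [Functor.map_comp, map_wV, map_wV]
  exact EtOver.map_bcMap_fst V.property.1 g

theorem wlift_map {E E' Z : EtOver X} (a : Z ⟶ V) (e : Z ⟶ E) (g : E ⟶ E') :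
    wlift a e ≫ (W V).map g = wlift a (e ≫ g) :=
  w_ext (by rw [Category.assoc, map_wV', wlift_wV, wlift_wV])
    (by rw [Category.assoc, map_wE, wlift_wE_assoc, wlift_wE])

/-- an endomorphism of `V` acts on `V × E` -/
noncomputable def wmap (g : V ⟶ V) (E : EtOver X) : (W V).obj E ⟶ (W V).obj E := wlift (wV V E ≫ g) (wE V E)

@[reassoc (attr := simp)] theorem wmap_wE (g : V ⟶ V) (E : EtOver X) : wmap g E ≫ wE V E = wE V E := wlift_wE _ _

@[reassoc (attr := simp)] theorem wmap_wV (g : V ⟶ V) (E : EtOver X) : wmap g E ≫ wV V E = wV V E ≫ g := wlift_wV _ _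

theorem wlift_wmap {E Z : EtOver X} (a : Z ⟶ V) (e : Z ⟶ E) (g : V ⟶ V) :
    wlift a e ≫ wmap g E = wlift (a ≫ g) e := w_ext (by simp) (by simp)

theorem wmap_nat (g : V ⟶ V) {E E' : EtOver X} (k : E ⟶ E') :
    wmap g E ≫ (W V).map k = (W V).map k ≫ wmap g E' := w_ext (by simp) (by simp)

theorem wmap_comp (g h : V ⟶ V) (E : EtOver X) : wmap (g ≫ h) E = wmap g E ≫ wmap h E := w_ext (by simp) (by simp)

theorem wmap_id (E : EtOver X) : wmap (𝟙 V) E = 𝟙 _ := w_ext (by simp) (by simp)

section Sec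

/-- The sections of a module -/
abbrev sc (M : ModEt X) (E : EtOver X) : Type (u + 1) := M.val.obj (op E)

/-- The functions on an object of the site -/
abbrev rg (X : Sp S) (E : EtOver X) : Type (u + 1) := (OEtRing X).obj.obj (op E)

/-- restriction of sections -/
noncomputable abbrev rs (M : ModEt X) {E E' : EtOver X} (g : E ⟶ E') : sc M E' → sc M E := M.val.map g.op

/-- restriction of functions -/
noncomputable abbrev rr (X : Sp S) {E E' : EtOver X} (g : E ⟶ E') : rg X E' →+* rg X E :=
  ((OEtRing X).obj.map g.op).hom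

theorem rs_smul (M : ModEt X) {E E' : EtOver X} (g : E ⟶ E') (r : rg X E') (m : sc M E') :
    rs M g (r • m) = rr X g r • rs M g m := M.val.map_smul g.op r m

theorem rs_add (M : ModEt X) {E E' : EtOver X} (g : E ⟶ E') (m m' : sc M E') :
    rs M g (m + m') = rs M g m + rs M g m' := map_add (M.val.map g.op).hom m m'

theorem rs_sum (M : ModEt X) {E E' : EtOver X} (g : E ⟶ E') {ι : Type*} (s : Finset ι) (m : ι → sc M E') :
    rs M g (∑ i ∈ s, m i) = ∑ i ∈ s, rs M g (m i) := map_sum (M.val.map g.op).hom m s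

theorem rs_comp (M : ModEt X) {E E' E'' : EtOver X} (g : E ⟶ E') (h : E' ⟶ E'') (m : sc M E'') :
    rs M g (rs M h m) = rs M (g ≫ h) m := by
  have h1 := congrArg (fun k => (ConcreteCategory.hom k) m) (M.val.presheaf.map_comp h.op g.op)
  exact h1.symm

theorem rs_id (M : ModEt X) {E : EtOver X} (m : sc M E) : rs M (𝟙 E) m = m := by
  have h1 := congrArg (fun k => (ConcreteCategory.hom k) m) (M.val.presheaf.map_id (op E))
  exact h1

theorem rr_comp {E E' E'' : EtOver X} (g : E ⟶ E') (h : E' ⟶ E'') (r : rg X E'') :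
    rr X g (rr X h r) = rr X (g ≫ h) r := by
  have h1 := congrArg (fun k => (ConcreteCategory.hom k) r) ((OEtRing X).obj.map_comp h.op g.op)
  exact h1.symm

variable {Y : Sp S} {f : X ⟶ Y} (hf : Representable f) (he : IsEtaleMor f)

/-- sections of the direct image -/
noncomputable def eP (N : ModEt X) (E : EtOver Y) :
    sc ((pushModEt hf).obj N) E ≃+ sc N ((EtOver.bc hf).obj E) := AddEquiv.refl _

theorem eP_smul (N : ModEt X) (E : EtOver Y) (r : rg Y E) (m : sc ((pushModEt hf).obj N) E) :
    eP hf N E (r • m) = (show rg X ((EtOver.bc hf).obj E) from (bcRingHom hf).hom.app (op E) r) • eP hf N E m := rfl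

theorem eP_rs (N : ModEt X) {E E' : EtOver Y} (g : E ⟶ E') (m : sc ((pushModEt hf).obj N) E') :
    eP hf N E (rs _ g m) = rs N ((EtOver.bc hf).map g) (eP hf N E' m) := rfl

/-- sections of the restriction -/
noncomputable def eR (M : ModEt Y) (E : EtOver X) :
    sc ((resModEt he).obj M) E ≃+ sc M ((EtOver.postcomp f he).obj E) := AddEquiv.refl _

theorem eR_smul (M : ModEt Y) (E : EtOver X) (r : rg X E) (m : sc ((resModEt he).obj M) E) :
    eR he M E (r • m) = (show rg Y ((EtOver.postcomp f he).obj E) from r) • eR he M E m := rfl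

theorem eR_rs (M : ModEt Y) {E E' : EtOver X} (g : E ⟶ E') (m : sc ((resModEt he).obj M) E') :
    eR he M E (rs _ g m) = rs M ((EtOver.postcomp f he).map g) (eR he M E' m) := rfl

end Sec

variable (V)

/-- The module `E ↦ M(V × E)`. -/
noncomputable def PM (M : ModEt X) : ModEt X :=
  (pushModEt V.property.1).obj ((resModEt (isEtaleMor_hom V)).obj M)

/-- Sections of `PM V M`. -/
noncomputable def eW (M : ModEt X) (E : EtOver X) : sc (PM V M) E ≃+ sc M ((W V).obj E) :=
  (eP V.property.1 ((resModEt (isEtaleMor_hom V)).obj M) E).trans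
    (eR (isEtaleMor_hom V) M ((EtOver.bc V.property.1).obj E))

theorem eW_smul (M : ModEt X) (E : EtOver X) (r : rg X E) (m : sc (PM V M) E) :
    eW V M E (r • m) = rr X (wE V E) r • eW V M E m :=
  (congrArg (eR (isEtaleMor_hom V) M ((EtOver.bc V.property.1).obj E))
    (eP_smul V.property.1 ((resModEt (isEtaleMor_hom V)).obj M) E r m)).trans
    (eR_smul (isEtaleMor_hom V) M ((EtOver.bc V.property.1).obj E) _ _)

theorem eW_rs (M : ModEt X) {E E' : EtOver X} (g : E ⟶ E') (m : sc (PM V M) E') :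
    eW V M E (rs (PM V M) g m) = rs M ((W V).map g) (eW V M E' m) :=
  (congrArg (eR (isEtaleMor_hom V) M ((EtOver.bc V.property.1).obj E))
    (eP_rs V.property.1 ((resModEt (isEtaleMor_hom V)).obj M) g m)).trans
    (eR_rs (isEtaleMor_hom V) M ((EtOver.bc V.property.1).map g) _)

end K642.SymW
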