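import Groth.Agent.S12932
import Groth.Agent.AlgSp.K642.SymW
import Groth.Prelude.Def_AlgSpModX
import Mathlib.AlgebraicGeometry.ResidueField

/-!
# The symmetric group acting on the object of `n` distinct points; an element of trace one
-/

set_option autoImplicit false
universe u
open CategoryTheory CategoryTheory.Limits AlgebraicGeometry Opposite

set_option backward.isDefEq.respectTransparency false

namespace K642.Trace

open AlgSp K643.Site K642.Dist K642.SymW

variable {S : Scheme.{u}} {X : Sp S} {U : EtOver X} {n : ℕ} (D : DU U n)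

/-- the action of permutations on the object of `n` distinct points -/
noncomputable def act (σ : Equiv.Perm (Fin n)) : D.V ⟶ D.V :=
  (D.univ (fun i => D.a (σ i)) (D.dist.perm σ)).choose

theorem act_a (σ : Equiv.Perm (Fin n)) (i : Fin n) : act D σ ≫ D.a i = D.a (σ i) :=
  (D.univ (fun i => D.a (σ i)) (D.dist.perm σ)).choose_spec i

theorem act_mul (σ τ : Equiv.Perm (Fin n)) : act D (σ * τ) = act D σ ≫ act D τ := by
  refine D.ext _ _ fun i => ?_
  rw [act_a, Category.assoc, act_a, act_a]
  rfl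

theorem act_one : act D 1 = 𝟙 _ := by
  refine D.ext _ _ fun i => ?_
  rw [act_a, Category.id_comp]
  rfl

/-- the action on functions -/
@[instance_reducible] noncomputable def actΓ : MulSemiringAction (Equiv.Perm (Fin n)) Γ(sch D.V, ⊤) where
  smul σ b := (schMap (act D σ)).appTop.hom b
  one_smul b := by
    change (schMap (act D 1)).appTop.hom b = b
    rw [act_one, schMap_id, Scheme.Hom.id_appTop]
    rfl
  mul_smul σ τ b := by
    change (schMap (act D (σ * τ))).appTop.hom b = (schMap (act D σ)).appTop.hom ((schMap (act D τ)).appTop.hom b)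
    rw [act_mul, schMap_comp, Scheme.Hom.comp_appTop]
    rfl
  smul_zero σ := map_zero _
  smul_add σ := map_add _
  smul_one σ := map_one _
  smul_mul σ := map_mul _

theorem exists_trace_one : ∃ b : Γ(sch D.V, ⊤), ∑ σ : Equiv.Perm (Fin n), (schMap (act D σ)).appTop.hom b = 1 := by
  let := actΓ D
  have := D.aff
  refine (Groth.Agent.S12932.result Γ(sch D.V, ⊤) (Equiv.Perm (Fin n))).2 fun P hP h0 => ?_
  have hbot : P.inertia (Equiv.Perm (Fin n)) = ⊥ := by
    rw [Subgroup.eq_bot_iff_forall]
    intro σ hσ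
    have hσ' : ∀ x : Γ(sch D.V, ⊤), (schMap (act D σ)).appTop.hom x - x ∈ P := hσ
    let K := P.ResidueField
    let z : Spec (CommRingCat.of K) ⟶ sch D.V :=
      Spec.map (CommRingCat.ofHom (algebraMap Γ(sch D.V, ⊤) K)) ≫ (sch D.V).isoSpec.inv
    have hz : z ≫ schMap (act D σ) = z := by
      apply ext_of_isAffine
      ext x
      rw [Scheme.Hom.comp_appTop]
      change z.appTop.hom ((schMap (act D σ)).appTop.hom x) = z.appTop.hom x
      rw [← sub_eq_zero, ← map_sub]
      generalize hy : (schMap (act D σ)).appTop.hom x - x = y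
      have hyP : y ∈ P := hy ▸ hσ' x
      have h1 : z.appTop = (sch D.V).isoSpec.inv.appTop ≫
          (Spec.map (CommRingCat.ofHom (algebraMap Γ(sch D.V, ⊤) K))).appTop := Scheme.Hom.comp_appTop _ _
      have h2 : (sch D.V).isoSpec.inv.appTop = (Scheme.ΓSpecIso Γ(sch D.V, ⊤)).inv := by
        rw [← cancel_mono (Scheme.ΓSpecIso Γ(sch D.V, ⊤)).hom, Iso.inv_hom_id, ← Scheme.toSpecΓ_appTop,
          ← Scheme.isoSpec_hom, ← Scheme.Hom.comp_appTop, Iso.hom_inv_id, Scheme.Hom.id_appTop]
      rw [h1, h2, ← Scheme.ΓSpecIso_inv_naturality]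
      change (Scheme.ΓSpecIso (CommRingCat.of K)).inv.hom (algebraMap Γ(sch D.V, ⊤) K y) = 0
      rw [Ideal.algebraMap_residueField_eq_zero.2 hyP, map_zero]
    by_contra hne
    obtain ⟨i, hi⟩ : ∃ i, σ i ≠ i := by
      by_contra hall
      push Not at hall
      exact hne (Equiv.ext hall)
    refine hi (D.dist.eq (mem_eqLoc_of_field z (K617.EtFin.pt K) ?_))
    have h2 : schMap (D.a (σ i)) = schMap (act D σ) ≫ schMap (D.a i) := by
      rw [← schMap_comp, act_a]
    rw [h2, ← Category.assoc, hz]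
  rw [hbot] at h0
  have h1 : ((Nat.card (⊥ : Subgroup (Equiv.Perm (Fin n))) : ℕ) : Γ(sch D.V, ⊤) ⧸ P) = 1 := by
    rw [Nat.card_unique, Nat.cast_one]
  rw [h1] at h0
  exact hP.ne_top ((Ideal.Quotient.zero_eq_one_iff).1 h0.symm)

/-- An element of trace one, as a section of the structure sheaf. -/
theorem exists_trace_one' : ∃ b : rg X D.V, ∑ σ : Equiv.Perm (Fin n), rr X (act D σ) b = 1 := by
  obtain ⟨b, hb⟩ := exists_trace_one D
  refine ⟨upΓ D.V b, ?_⟩
  have h1 : ∀ σ : Equiv.Perm (Fin n), rr X (act D σ) (upΓ D.V b) = upΓ D.V ((schMap (act D σ)).appTop.hom b) :=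
    fun _ => rfl
  simp_rw [h1]
  rw [← map_sum, hb, map_one]

theorem rg_mul_comm {E : EtOver X} (r s : rg X E) : r * s = s * r :=
  ULift.ext _ _ (mul_comm (ULift.down (α := Γ(sch E, ⊤)) r) (ULift.down (α := Γ(sch E, ⊤)) s))

end K642.Trace
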